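import Cfsg.Agent.H86.SPIAsm

/-! STD-SP chapter I: a small toolbox for the ambient slots. -/

set_option autoImplicit false
set_option linter.unusedSectionVars false

namespace H86.SPI

open H67.UA hiding Par
open H67.SP

universe u

variable {n : ℕ} {F : Type} [Field F] [StarRing F] [TrivialStar F] [CharP F 2] [Finite F] [Par n F]
  {x x' f : Vn n F}

theorem hf_smul_right' (a : F) (x y : Vn n F) : hf x (a • y) = a * hf x y := by
  rw [hf_smul_right, star_trivial]

/-- Two vectors of the line are orthogonal. -/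
theorem hf_comb (h : hf x x' = 0) (a b c d : F) : hf (a • x + b • x') (c • x + d • x') = 0 := by
  simp [hf_add_left, hf_add_right, hf_smul_left, hf_smul_right', hf_self, h, hf_symm h]

theorem ac_TT (v y : Vn n F) : ac (TT v) y = y + hf y v • v := by
  simpa using ac_Tc (hf_self v) (star_one F) y

theorem TT_smul (a : F) (x : Vn n F) : TT (a • x) = Tc (a ^ 2) x := by
  rw [TT, Tc_smul, nm, star_trivial, mul_one, pow_two]

theorem TT_add_smul (a b : F) (x : Vn n F) : TT (a • x) * TT (b • x) = TT ((a + b) • x) := by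
  rw [TT_smul, TT_smul, TT_smul, CharTwo.add_sq,
    Tc_add (hf_self x) (star_trivial _) (star_trivial _)]

@[simp] theorem TT_zero : TT (0 : Vn n F) = 1 := EE_zero_left _ _

@[simp] theorem qq_zero_left (x : Vn n F) : qq 0 x = 1 := EE_zero x

@[simp] theorem qq_zero_right (x : Vn n F) : qq x 0 = 1 := EE_zero_left _ _

theorem qq_dep (c : F) (x : Vn n F) : qq (c • x) x = 1 := by
  rw [qq_self, tr_eq_zero.2 (star_trivial c), Tc, EE_zero]

theorem EE_mul' {u v w : Vn n F} (h : hf v u = 0) (h' : hf w u = 0) (c d : F) :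
    EE u v c * EE u w d = EE u (v + w) (c + d + hf w v) := EE_mul (ok h c) (ok h' d)

theorem EE_comm {u v w : Vn n F} (h : hf v u = 0) (h' : hf w u = 0) (c d : F) :
    EE u v c * EE u w d = EE u w d * EE u v c := by
  rw [EE_mul' h h', EE_mul' h' h, add_comm v, add_comm c, hf_comm]

theorem EE_sq {u v : Vn n F} (h : hf v u = 0) (c : F) : EE u v c * EE u v c = 1 := by
  rw [EE_mul' h h, v_add_self, hf_self, add_zero, CharTwo.add_self_eq_zero, EE_zero]

theorem qq_sq (h : hf x' x = 0) : qq x' x * qq x' x = 1 := EE_sq h 0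

theorem qq_add_smul (h : hf x x' = 0) (c d : F) :
    qq (c • x') x * qq (d • x') x = qq ((c + d) • x') x := by
  rw [add_smul, qq_add ((pp h).smul 1 c |>.symm.symm |> fun k => by simpa using k)
    ((pp h).smul 1 d |> fun k => by simpa using k)
    (by rw [hf_smul_left, hf_smul_right', hf_self, mul_zero, mul_zero])]

theorem TT_mul (h : hf x x' = 0) : TT x * TT x' = TT (x + x') * qq x' x := by
  rw [qq_eq_TT (pp h), mul_assoc (TT (x + x')), ← mul_assoc (TT (x + x')), TT_sq, one_mul]

/-- `qq` is bilinear and alternating on the line. -/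
theorem qq_comb (h : hf x x' = 0) (a b c d : F) :
    qq (c • x + d • x') (a • x + b • x') = qq ((a * d + b * c) • x') x := ac_ext fun y => by
  rw [ac_qq (pp (hf_comb h a b c d)), ac_qq (pp (by rw [hf_smul_right', h, mul_zero]))]
  simp only [hf_add_right, hf_smul_right']
  ext i
  simp only [Pi.add_apply, Pi.smul_apply, smul_eq_mul]
  linear_combination (a * c * hf y x * x i + b * d * hf y x' * x' i) * two0 F

theorem ac_qq_comb (h : hf x x' = 0) (c a b : F) :
    ac (qq (c • x') x) (a • x + b • x') = a • x + b • x' :=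
  ac_EE_fix (ok (by rw [hf_smul_left, hf_symm h, mul_zero]) 0)
    (by simpa using hf_comb h a b 1 0) (by simpa using hf_comb h a b 0 c)

theorem TT_comm_qq (h : hf x x' = 0) (c a b : F) :
    TT (a • x + b • x') * qq (c • x') x = qq (c • x') x * TT (a • x + b • x') := by
  rw [mul_inv_eq_iff_eq_mul.1 (Tc_conj (hf_self _) (star_one F) (qq (c • x') x)), ac_qq_comb h]

theorem TT_conj (g : XU n F) (v : Vn n F) : g * TT v * g⁻¹ = TT (ac g v) :=
  Tc_conj (hf_self v) (star_one F) g

theorem qq_conj (g : XU n F) (h : hf x' x = 0) : g * qq x' x * g⁻¹ = qq (ac g x') (ac g x) :=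
  EE_conj (ok h 0) g

theorem q0_comb (h1 : q0 x = 0) (h2 : q0 x' = 0) (h : hf x x' = 0) (a b : F) :
    q0 (a • x + b • x') = 0 := by
  simp [q0_add, q0_smul, h1, h2, hf_smul_left, hf_smul_right', h]

theorem Ts.q0 (h : Ts x x') (a b : F) : q0 (a • x + b • x') = 0 := q0_comb h.l h.r h.p a b

theorem Ts.symm (h : Ts x x') : Ts x' x :=
  ⟨h.r, h.l, hf_symm h.p, fun a b k => (h.li b a (by rwa [add_comm])).symm⟩

theorem Ts.ne (h : Ts x x') : x ≠ 0 := fun k => one_ne_zero (h.li 1 0 (by simp [k])).1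

/-- Another basis of the line. -/
theorem Ts.comb (h : Ts x x') {a b c d : F} (h0 : a * d + b * c ≠ 0) :
    Ts (a • x + b • x') (c • x + d • x') :=
  ⟨h.q0 a b, h.q0 c d, hf_comb h.p a b c d, fun r s k => by
    obtain ⟨h1, h2⟩ := h.li (r * a + s * c) (r * b + s * d) (by rw [← k]; module)
    exact ⟨(mul_eq_zero.1 (by linear_combination d * h1 + c * h2 - s * c * d * two0 F)).resolve_right h0,
      (mul_eq_zero.1 (by linear_combination b * h1 + a * h2 - r * a * b * two0 F)).resolve_right h0⟩⟩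

theorem MW.qq_mem (hW : MW n F) (h1 : q0 x = 0) (h2 : q0 x' = 0) (h : hf x x' = 0) (c : F) :
    qq (c • x') x ∈ X0 n F := by
  have := hW.ee x (c • x') h1 (by rw [hf_smul_left, hf_symm h, mul_zero])
  rwa [q0_smul, h2, mul_zero] at this

theorem MT.tt0 (hT : MT n F) (h1 : q0 x = 0) (h2 : q0 x' = 0) (h : hf x x' = 0) :
    th x (TT x') = TT x' * qq x' x := by
  rw [hT.tt x x' h1 (hf_symm h), h2, add_zero, show rt (1 : F) = 1 from sq_inj (by rw [rt_sq]; simp),
    one_smul]

variable {G : Type u} [Group G] {e : XU n F →* G} {t : G} {k : F} {y : Vn n F → G}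

/-- `y z` commutes with the elements of `X₀` that fix `z`. -/
theorem Fam.comm (h : Fam e t k y) {g : XU n F} (hg : g ∈ X0 n F) (h1 : q0 x = 0)
    (h2 : ac g x = x) : y x * e g = e g * y x := by
  rw [mul_inv_eq_iff_eq_mul.1 (h.eqv g hg x h1), h2]

/-- `y (a x + b x')` centralises the short root subgroup of the line. -/
theorem Fam.comm_qq (h : Fam e t k y) (hW : MW n F) (h1 : q0 x = 0) (h2 : q0 x' = 0)
    (h0 : hf x x' = 0) (a b c : F) :
    y (a • x + b • x') * e (qq (c • x') x) = e (qq (c • x') x) * y (a • x + b • x') :=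
  h.comm (hW.qq_mem h1 h2 h0 c) (q0_comb h1 h2 h0 a b) (ac_qq_comb h0 c a b)

/-- `y x` acts on the transvections of the line. -/
theorem Fam.act_TT (h : Fam e t k y) (hT : MT n F) (h1 : q0 x = 0) (h2 : q0 x' = 0)
    (h0 : hf x x' = 0) : y x * e (TT x') * (y x)⁻¹ = e (TT x' * qq x' x) := by
  rw [h.act x _ h1 (by rw [ac_TT, h0, zero_smul, add_zero]), hT.tt0 h1 h2 h0]

/-- `y x` centralises `Q_x`. -/
theorem Fam.comm_EE (h : Fam e t k y) (hT : MT n F) (h1 : q0 x = 0) {v : Vn n F} (h0 : hf v x = 0)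
    (c : F) : y x * e (EE x v c) = e (EE x v c) * y x := by
  rw [← mul_inv_eq_iff_eq_mul, h.act x _ h1 (ac_EE_self (ok h0 c)), hT.ee x v c h1 h0]

/-- All `y` of a line commute modulo the short root subgroup. -/
theorem Fam2.com' (h : Fam2 e t k y) (hx : Ts x x') {a b c d : F} (h0 : a * d + b * c ≠ 0) :
    ∃ r : F, y (c • x + d • x') * y (a • x + b • x') =
      y (a • x + b • x') * y (c • x + d • x') * e (qq (r • x') x) := by
  obtain ⟨r, hr⟩ := h.com _ _ (hx.comb h0)
  rw [smul_add, smul_smul, smul_smul, qq_comb hx.p] at hr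
  exact ⟨_, hr⟩

end H86.SPI
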