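import Cfsg.Agent.H64.SFSpec

/-! STD-F4 (row S3328), single-factor endgame: the normaliser of `U*` lies in `M = N(G₁)`.
Spec; proof notes: `blueprints/STDF4N.md`. -/

set_option autoImplicit false

namespace H86.NU

open Cfsg.Lie H63 H65 H64
open H64.SG (Syl Cz Cs Ns cjs Is2 Inv2 UF Cov UU)
open H59.SO (CE)
open H86.WR (XF US UF4)
open H64.SF (Bl0 Qx Q Sh)
open H46.SF (iE gE inc)

universe u

/-- The hypotheses: `Us = U*` is the `2`-subgroup of `G₁` over `U'`. -/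
structure NH {F : Type} [Field F] {Y : Type} [Group Y] {G : Type u} [Group G] (ι : XF F →* Y)
    (τ : MulAut Y) (U' : Subgroup Y) (e : XF F →* G) (t : G) (G₁ : Subgroup G) (c : Cov Y G₁)
    (Us : Subgroup G) : Prop extends Bl0 ι τ e t G₁ c, CE e t where
  uf : UF (Ns G₁) t
  odd : Odd (Nat.card (Cs G₁))
  leU : Us ≤ G₁
  twoU : IsPGroup 2 Us
  im : c.im Us = U'
  cuS : Cs ((Q F 44).map e) ≤ Ns G₁
  cuT : Cs ((Q F 47).map e) ≤ Ns G₁
  syl : Syl (Us ⊔ Subgroup.zpowers t) (Ns G₁)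
  co : ∀ m ∈ Ns G₁, m ∈ Cs ((UF4 F).map e) → Odd (orderOf m) → m ∈ Cs G₁
  cob : ∀ v ∈ Us, IsConj t (v * t) → ∃ w ∈ Us, v * t = w * t * w⁻¹

/-- `N(U*) ≤ M` for the model `(Y, ι, τ, U')`. -/
def NUm {F : Type} [Field F] {Y : Type} [Group Y] (ι : XF F →* Y) (τ : MulAut Y)
    (U' : Subgroup Y) : Prop :=
  ∀ (G : Type u) [Group G] [Finite G] (e : XF F →* G) (t : G) (G₁ : Subgroup G) (c : Cov Y G₁)
    (Us : Subgroup G), NH ι τ U' e t G₁ c Us → Ns Us ≤ Ns G₁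

/-- The Sylow `2`-subgroup of `²E₆(q)`. -/
noncomputable abbrev UT {F K : Type} [Field F] [CharP F 2] [Field K] [Fintype K] [CharP K 2]
    (x : Qx F K) : Subgroup (twistedE6 K (Nat.card F)) :=
  (UU chevE6 (xG chevE6 K)).comap (inc x.hq x.hK)

/-- A statement for all quadratic extensions. -/
def AllQ (P : ∀ (F K : Type) [Field F] [CharP F 2] [Field K] [Fintype K] [CharP K 2],
    Qx F K → Prop) : Prop :=
  ∀ (F K : Type) [Field F] [Finite F] [CharP F 2] [Field K] [Fintype K] [CharP K 2] (x : Qx F K),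
    P F K x

/-- `Y = F₄(K)` -/
def JobNF : Prop := AllQ fun _ K _ _ _ _ _ x => NUm.{u} x.ιF x.τF (UF4 K)

/-- `Y = ²E₆(q)` -/
def JobNT : Prop := AllQ fun _ _ _ _ _ _ _ x => NUm.{u} x.ιT x.τT (UT x)

/-- `Y = E₆(F)` -/
def JobNE : Prop := ∀ (F : Type) [Field F] [Finite F] [CharP F 2],
  NUm.{u} (iE F) (gE F) (UU chevE6 (xG chevE6 F))

end H86.NU
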