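import Cfsg.Agent.H86.NUT1

/-! STD-F4: characteristic subgroups of the Sylow `2`-subgroup of `²E₆(q)`. -/

set_option autoImplicit false
set_option linter.unusedSectionVars false

namespace H86.NT

open Cfsg.Lie H63 H64 H65 H98 Subgroup
open H64.SF (x n S L ip ad rf Qx)
open H67.SA (cm cm_eq_one)
open H86.F4 (PP mem_PP pos_iff autOn_of)
open H86.NU (UT Ch)

/-- The root subgroups with index in `T` generate a normal subgroup. -/
def Nm (T : List ℕ) : Prop := ∀ r ∈ T, r ∈ PP ∧ ∀ s ∈ PP, ∀ c ∈ O3 s r, c ∈ T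

instance (T : List ℕ) : Decidable (Nm T) := by unfold Nm; infer_instance

/-- `[U_A, U_B] ≤ U_T` -/
def Cm (A B T : List ℕ) : Prop := ∀ r ∈ A, r ∈ PP ∧ ∀ s ∈ B, s ∈ PP ∧ ∀ c ∈ O3 r s, c ∈ T

instance (A B T : List ℕ) : Decidable (Cm A B T) := by unfold Cm; infer_instance

/-- The leading coordinate at `r` is detected by some `s ∈ B` modulo `T`. -/
def Det (B T : List ℕ) (r : ℕ) : Prop := ∃ s ∈ B, s ∈ PP ∧ ad r s < 48 ∧ ad r s ∉ T ∧
  ∀ r' ∈ PP, r ≤ r' → ∀ c ∈ O3 r' s, c ∈ T ∨ ad r s < c ∨ r' = r ∧ c = ad r s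

instance (B T : List ℕ) (r : ℕ) : Decidable (Det B T r) := by unfold Det; infer_instance

/-- `{g ∈ U_A | [g, U_B] ≤ U_T} = U_C` -/
def Cert (A B T C : List ℕ) : Prop :=
  Nm A ∧ Nm T ∧ Cm C B T ∧ (∀ r ∈ C, r ∈ A) ∧ (∀ r ∈ B, r ∈ PP) ∧ ∀ r ∈ A, r ∉ C → Det B T r

instance (A B T C : List ℕ) : Decidable (Cert A B T C) := by unfold Cert; infer_instance

/-- The roots from `k` on. -/
def tl (k : ℕ) : List ℕ := PP.filter (k ≤ ·)

theorem mem_tl {k r : ℕ} : r ∈ tl k ↔ r ∈ PP ∧ k ≤ r := by simp [tl]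

theorem Nm.app {T : List ℕ} (h : Nm T) (k : ℕ) : Nm (T ++ tl k) := fun r hr => by
  rcases List.mem_append.1 hr with hr | hr
  · exact ⟨(h r hr).1, fun s hs c hc => List.mem_append_left _ ((h r hr).2 s hs c hc)⟩
  · rw [mem_tl] at hr
    refine ⟨hr.1, fun s hs c hc => List.mem_append_right _ ?_⟩
    have := (tO s hs r hr.1).2.2 c hc
    have := mem_PP.1 hs
    rw [mem_tl, mem_PP]
    omega

theorem nm_tl (k : ℕ) : Nm (tl k) := (show Nm [] by decide).app k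

variable {F K : Type} [Field F] [Finite F] [CharP F 2] [Field K] [Fintype K] [CharP K 2]
  (X : Qx F K) {A B C T : List ℕ}

local notation "Y" => twistedE6 K (Nat.card F)

/-- The subgroup generated by the root subgroups with index in `l`. -/
noncomputable def GT (l : List ℕ) : Subgroup Y := gen (XT X) {r | (r : ℕ) ∈ l}

theorem GT_PP : GT X PP = UT X := by
  rw [GT, ← U_eq, show {r : Rt chevF4 | (r : ℕ) ∈ PP} = {r | Pos r} from
    Set.ext fun r => (pos_iff r).symm]; rfl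

theorem GT_nil : GT X [] = ⊥ := by simp [GT, gen_empty]

variable {X}

theorem X_le {r : Rt chevF4} (h : (r : ℕ) ∈ A) : XT X r ≤ GT X A := le_gen (XT X) h

theorem GT_mono (h : ∀ r ∈ A, r ∈ T) : GT X A ≤ GT X T := gen_mono _ fun r hr => h r hr

theorem GT_le (h : ∀ r ∈ A, r ∈ PP) : GT X A ≤ UT X := GT_PP X ▸ GT_mono h

theorem Nm.le (h : Nm A) : GT X A ≤ UT X := GT_le fun r hr => (h r hr).1

theorem Nm.conj (hT : Nm T) {u v : Y} (hu : u ∈ UT X) (hv : v ∈ GT X T) : u * v * u⁻¹ ∈ GT X T := by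
  refine gen_induction_left (p := fun u => ∀ v ∈ GT X T, u * v * u⁻¹ ∈ GT X T) (by simp)
    (fun s hs y hy g _ ih v hv => ?_) ((GT_PP X).ge hu) v hv
  rw [show y * g * v * (y * g)⁻¹ = y * (g * v * g⁻¹) * y⁻¹ by group]
  refine conj_mem_of_gen (fun r hr z hz => ?_) (ih v hv)
  rw [show y * z * y⁻¹ = cm y z * z by simp [cm]]
  exact mul_mem (comm_XT hs (hT r hr).1 (fun c hc => X_le ((hT r hr).2 s hs c hc)) hy hz) (X_le hr hz)

theorem Cm.comm (hc : Cm A B T) (hT : Nm T) (hB : ∀ r ∈ B, r ∈ PP) {u v : Y} (hu : u ∈ GT X A)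
    (hv : v ∈ GT X B) : cm u v ∈ GT X T :=
  comm_mem_of_gen (U := UT X) (fun _ hu _ hk => hT.conj hu hk) (GT_le fun r hr => (hc r hr).1)
    (GT_le hB) (fun a ha b hb _ hy _ hz => comm_XT (hc a ha).1 (hB b hb)
      (fun c h1 => X_le (((hc a ha).2 b hb).2 c h1)) hy hz) hu hv

theorem Nm.eq_one (hT : Nm T) {c : Rt chevF4} (h1 : (c : ℕ) ∈ PP) (h2 : (c : ℕ) ∉ T) {u : Y}
    (hu : u ∈ XT X c) (ha : u ∈ GT X T) : u = 1 := by
  classical
  have := eq_one_of_prod_mem (TT X) (S := {r | (r : ℕ) ∈ T}) (f := Fin.val)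
    (fun a ha b hb _ y hy z hz => comm_XT (hT a ha).1 (hT b hb).1 (fun c hc => by
      have := (tO a (hT a ha).1 b (hT b hb).1).2.2 c hc
      exact le_gen (XT X) (by exact ⟨(hT b hb).2 a (hT a ha).1 c hc, this.1, this.2.1⟩)) hy hz)
    (fun r hr => (pos_iff r).2 (hT r hr).1) (L := [c]) (by simp) (by simpa using (pos_iff c).2 h1)
    (y := fun s => if s = c then u else 1)
    (fun s => by split_ifs with e; exacts [e ▸ hu, one_mem _]) (by simpa)
    (List.mem_singleton_self _) h2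
  simpa using this

theorem Nm.lead (hT : Nm T) {r : Rt chevF4} (h1 : (r : ℕ) ∈ PP) (h2 : (r : ℕ) ∉ T) {u v : Y}
    (hu : u ∈ XT X r) (hv : v ∈ GT X (tl (r + 1))) (ha : u * v ∈ GT X T) : u = 1 :=
  (hT.app (r + 1)).eq_one h1 (by simp [h2, mem_tl]) hu ((mul_mem_cancel_right
    (GT_mono (fun _ => List.mem_append_right _) hv)).1 (GT_mono (fun _ => List.mem_append_left _) ha))

theorem lead {H : Subgroup Y} (h1 : GT X T ≤ H) (h2 : ∀ r : Rt chevF4, (r : ℕ) ∈ PP → (r : ℕ) ∉ T →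
    ∀ u ∈ XT X r, ∀ v ∈ GT X (tl (r + 1)), u * v ∈ H → u = 1) {g : Y} (hg : g ∈ UT X) (hH : g ∈ H) :
    g ∈ GT X T := by
  have key : ∀ k, k ≤ 48 → 24 ≤ k → ∀ g ∈ GT X (tl k), g ∈ H → g ∈ GT X T := fun k hk => by
    induction hk using Nat.decreasingInduction with
    | self => intro _ g hg _; exact GT_mono (by simp [show tl 48 = [] by decide]) hg
    | of_succ k hk ih =>
      intro k1 g hg hH
      have p : k ∈ PP := mem_PP.2 ⟨k1, hk⟩
      obtain ⟨u, hu, v, hv, rfl⟩ := (mem_sup_left_norm (H := XT X ⟨k, hk⟩) (N := GT X (tl (k + 1)))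
        fun u hu => mem_normalizer_of_cj_le (by
          rintro _ ⟨v, hv, rfl⟩; exact (nm_tl _).conj ((GT_PP X).le (X_le p hu)) hv)).1
        (gen_le (fun r hr => by
          rcases (mem_tl.1 hr).2.eq_or_lt with e | e
          · rw [show r = ⟨k, hk⟩ from Fin.ext e.symm]; exact le_sup_left
          · exact (X_le (mem_tl.2 ⟨(mem_tl.1 hr).1, e⟩)).trans le_sup_right) hg)
      by_cases e : k ∈ T
      · exact mul_mem (X_le e hu) (ih (by omega) v hv ((mul_mem_cancel_left (h1 (X_le e hu))).1 hH))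
      · obtain rfl := h2 _ p e u hu v hv hH
        rw [one_mul] at hH ⊢
        exact ih (by omega) v hv hH
  exact key 24 (by omega) le_rfl g (GT_mono (by decide) ((GT_PP X).ge hg)) hH

theorem Det.eq_one (hT : Nm T) {r : Rt chevF4} (h1 : (r : ℕ) ∈ PP) (hd : Det B T r) {u v : Y}
    (hu : u ∈ XT X r) (hv : v ∈ GT X (tl (r + 1))) (ha : ∀ z ∈ GT X B, cm (u * v) z ∈ GT X T) :
    u = 1 := by
  obtain ⟨s, s1, s2, k1, k2, k3⟩ := hd
  by_contra h0
  have s3 := (mem_PP.1 s2).2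
  obtain ⟨z, hz, w, hw, w1, w2⟩ := key_XT (b := ⟨s, s3⟩) (k := ⟨_, k1⟩) h1 s2 rfl hu h0
  have hW := hT.app (ad r s + 1)
  have k4 : ∀ r' ∈ PP, (r : ℕ) ≤ r' → ∀ c ∈ O3 r' s, ¬ (r' = r ∧ c = ad r s) →
      c ∈ T ++ tl (ad r s + 1) := fun r' hr' e c hc h => by
    have := (tO r' hr' _ s2).2.2 c hc
    have := mem_PP.1 s2
    have := k3 r' hr' e c hc
    rw [List.mem_append, mem_tl, mem_PP]
    rcases this with h | h | h'
    exacts [Or.inl h, Or.inr (by omega), absurd h' h]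
  have h2 : cm v z ∈ GT X (T ++ tl (ad r s + 1)) :=
    Cm.comm (A := tl (r + 1)) (B := [s]) (fun r' hr' => by
      rw [mem_tl] at hr'
      refine ⟨hr'.1, fun s' hs' => ?_⟩
      obtain rfl := List.mem_singleton.1 hs'
      exact ⟨s2, fun c hc => k4 r' hr'.1 (by omega) c hc (by omega)⟩) hW (by simpa) hv
        (X_le (by simp) hz)
  have h3 := GT_mono (X := X) (T := T ++ tl (ad r s + 1)) (fun _ => List.mem_append_left _)
    (ha z (X_le s1 hz))
  rw [show cm (u * v) z = u * cm v z * u⁻¹ * cm u z by simp only [cm]; group,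
    mul_mem_cancel_left (hW.conj ((GT_PP X).le (X_le h1 hu)) h2)] at h3
  have k5 := (tO r h1 s s2).2.2 (ad r s) (by simp [O3, k1])
  have := mem_PP.1 s2
  exact w1 (hW.eq_one (mem_PP.2 ⟨by simp only; omega, k1⟩) (by simp [k2, mem_tl]) hw (w2 _
    (fun c hc e => X_le (k4 r h1 le_rfl c hc fun h => e (Fin.ext h.2))) h3))

theorem Cert.ch (hc : Cert A B T C) (c1 : Ch (UT X) (GT X A)) (c2 : Ch (UT X) (GT X B))
    (c3 : Ch (UT X) (GT X T)) : Ch (UT X) (GT X C) := fun θ a => by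
  obtain ⟨h1, h2, h3, h4, h6, h5⟩ := hc
  refine autOn_of a h1.le (GT_le h6) (GT_mono h4) (c1 θ a) (c2 θ a) (c3 θ a)
    fun g hg => ⟨fun hk => ?_, fun hg k hk => h3.comm h2 h6 hg hk⟩
  let H : Subgroup Y :=
    { carrier := {g | g ∈ GT X A ∧ ∀ k ∈ GT X B, cm g k ∈ GT X T}
      one_mem' := ⟨one_mem _, fun k _ => by simp [cm]⟩
      mul_mem' := fun {a b} ha hb => ⟨mul_mem ha.1 hb.1, fun k hk => by
        rw [show cm (a * b) k = a * cm b k * a⁻¹ * cm a k by simp only [cm]; group]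
        exact mul_mem (h2.conj (h1.le ha.1) (hb.2 k hk)) (ha.2 k hk)⟩
      inv_mem' := fun {a} ha => ⟨inv_mem ha.1, fun k hk => by
        rw [show cm a⁻¹ k = a⁻¹ * (cm a k)⁻¹ * a⁻¹⁻¹ by simp only [cm]; group]
        exact h2.conj (inv_mem (h1.le ha.1)) (inv_mem (ha.2 k hk))⟩ }
  refine lead (H := H) (fun g hg => ⟨GT_mono h4 hg, fun k hk => h3.comm h2 h6 hg hk⟩)
    (fun r hr r1 u hu v hv e => ?_) (h1.le hg) ⟨hg, hk⟩
  by_cases r2 : (r : ℕ) ∈ A
  · exact (h5 r r2 r1).eq_one h2 hr hu hv e.2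
  · exact h1.lead hr r2 hu hv e.1

theorem certs : Cert PP PP (tl 48) (tl 47) ∧ Cert PP PP (tl 47) (tl 46) ∧ Cert PP PP (tl 46) (tl 45) ∧
    Cert PP PP (tl 45) (tl 44) := by refine ⟨?_, ?_, ?_, ?_⟩ <;> decide +kernel

theorem cert5 : Cert PP PP (tl 44) (40 :: tl 43) := by decide +kernel
theorem cert6 : Cert PP (tl 44) (tl 46) (PP.erase 27) := by decide +kernel
theorem cert7 : Cert (40 :: tl 43) (PP.erase 27) (tl 45) (tl 43) := by decide +kernel

/-- The tails from `43` on are characteristic. -/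
theorem ch_tl {k : ℕ} (hk : k ∈ [43, 44, 45, 46, 47, 48]) : Ch (UT X) (GT X (tl k)) := by
  have c0 : Ch (UT X) (GT X PP) := fun _ a => by rw [GT_PP]; exact a.bij.mapsTo
  have c8 : Ch (UT X) (GT X (tl 48)) := fun _ a => by
    rw [show tl 48 = [] by decide, GT_nil]; rintro _ rfl; exact F4.autOn_one a
  have c7 := certs.1.ch c0 c0 c8
  have c6 := certs.2.1.ch c0 c0 c7
  have c5 := certs.2.2.1.ch c0 c0 c6
  have c4 := certs.2.2.2.ch c0 c0 c5
  have c3 := cert7.ch (cert5.ch c0 c0 c4) (cert6.ch c0 c4 c6) c5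
  simp only [List.mem_cons, List.not_mem_nil, or_false] at hk
  rcases hk with rfl | rfl | rfl | rfl | rfl | rfl
  exacts [c3, c4, c5, c6, c7, c8]

end H86.NT
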