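/- TE2, S8: the end of the Suzuki branch. -/
import Cfsg.Agent.H88.TESpec2
import Cfsg.Agent.S1762
import Cfsg.Agent.S2901
import Cfsg.Agent.H64.LieOrder
import Cfsg.Agent.H59.SU
import Cfsg.Agent.H71.He
import Cfsg.Agent.H72.M24

set_option autoImplicit false

namespace H86.TE8

open Subgroup Cfsg H98 H1.Gold H86.L34 H6 H88.TE H78

universe u
variable {G : Type u} [Group G] [Finite G] {s : SD G} {j : G} {Q S : Subgroup G}

omit [Finite G] in
theorem mem_Z (h : Sz s) {x : G} : x ∈ s.Z ↔ ∃ e, s.z e = x :=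
  ⟨fun hx => h.fr.hm.mem_Z.1 ((closure_le (h.fr.hm.A ⊓ h.fr.hm.B)).2
    (fun _ he => h.fr.hm.mem_Z.2 he) hx), fun he => subset_closure he⟩

omit [Finite G] in
theorem z_ne (h : Sz s) : s.z 1 ≠ 1 := fun e => absurd (h.fr.hm.inj e).2.2 (by decide)

omit [Finite G] in
theorem z_sq (h : Sz s) : s.z 1 * s.z 1 = 1 := by
  rw [Dt.z, h.fr.hm.mul, ← h.fr.hm.one]; exact cg _ (by decide) (by decide) (by decide)

omit [Finite G] in
theorem z_ord (h : Sz s) : orderOf (s.z 1) = 2 :=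
  haveI : Fact (Nat.Prime 2) := ⟨Nat.prime_two⟩
  orderOf_eq_prime ((pow_two _).trans (z_sq h)) (z_ne h)

theorem cenQ (h : Sz s) (hQ : SQ s j Q) {a : G} (ha : ∀ q ∈ Q, a * q = q * a) :
    a ∈ s.O ∨ ∃ o ∈ s.O, a = o * s.z 1 := by
  have h1 : ∀ q ∈ Q, a * q * a⁻¹ = q := fun q hq => by rw [ha q hq, mul_inv_cancel_right]
  obtain ⟨o, ho, q, hq, rfl⟩ := hQ.cq a ⟨mem_normalizer_fintype fun x hx => by
      obtain ⟨e, rfl⟩ := (mem_Z h).1 hx
      rw [h1 _ (hQ.v0 0 e (.inl rfl))]; exact hx,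
    mem_centralizer_singleton_iff.2 (ha _ (hQ.v0 0 1 (.inl rfl)))⟩ fun q hq => .inl (h1 q hq)
  rcases hQ.zc q hq fun q' hq' => mul_left_cancel (a := o) (by
    rw [← mul_assoc, ha q' hq', ← mul_assoc, ← mul_assoc, (hQ.le hq').1.1 o ho]) with rfl | rfl
  · exact .inl (by simpa using ho)
  · exact .inr ⟨o, ho, rfl⟩

theorem cen_le (h : Sz s) (hQ : SQ s j Q) (hE : SE s Q S) : cen1 (s.z 1) ≤ nor s.O :=
  fun c hc => mem_normalizer_fintype fun o ho => by
    have hc' := inv_mem (hE.cz hc)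
    rcases cenQ h hQ (a := c * o * c⁻¹) fun q hq => (by
      have := (hQ.le ((mem_normalizer_iff.1 hc' q).1 hq)).1.1 o ho
      calc c * o * c⁻¹ * q = c * (o * (c⁻¹ * q * c⁻¹⁻¹)) * c⁻¹ := by group
        _ = _ := by rw [this]; group) with h1 | ⟨o', ho', h1⟩
    · exact h1
    have h2 : ∀ x ∈ s.O, x ^ Nat.card s.O = 1 := fun x hx =>
      congrArg Subtype.val (pow_card_eq_one' (x := (⟨x, hx⟩ : s.O)))
    have h3 : Commute o' (s.z 1) := (hQ.le (hQ.v0 0 1 (.inl rfl))).1.1 o' ho'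
    have h4 := congrArg (· ^ Nat.card s.O) h1
    obtain ⟨m, hm⟩ := h.loc.od.odd
    simp only [conj_pow, h2 o ho, h3.mul_pow, h2 o' ho'] at h4
    rw [hm, pow_succ, pow_mul, pow_two, z_sq h] at h4
    exact absurd (by simpa using h4.symm) (z_ne h)

theorem O_bot [IsSimpleGroup G] (hna : ¬ IsMulCommutative G) (h : Sz s) (hQ : SQ s j Q)
    (hE : SE s Q S) : s.O = ⊥ := by
  have : Fact (Nat.Prime 2) := ⟨Nat.prime_two⟩
  have hC := cen_le h hQ hE
  have hS : S ≤ cen1 (s.z 1) := hE.le.trans inf_le_right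
  have hz : s.z 1 ∈ cen1 (s.z 1) := mem_centralizer_singleton_iff.2 rfl
  have zO : s.z 1 ∉ s.O := fun hx => by
    have := orderOf_dvd_natCard s.O hx
    rw [z_ord h] at this
    exact Nat.not_even_iff_odd.2 h.loc.od.odd (even_iff_two_dvd.2 this)
  have two : ∀ {x : G}, x * x = 1 → IsPGroup 2 (zpowers x) := fun hx =>
    isPGroup_zpowers (k := 1) ((pow_two _).trans hx)
  by_contra hO
  have hH : nor s.O ≠ ⊤ := fun e => by
    rcases (normalizer_eq_top_iff.1 e).eq_bot_or_eq_top with e | e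
    · exact hO e
    · exact zO (e ▸ mem_top _)
  have hzS : s.z 1 ∈ S := hE.syl.le_of_le_normalizer (two (z_sq h)) le_top
    (fun x hx => centralizer_le_normalizer _ (by
      rintro _ ⟨k, rfl⟩
      exact (Commute.zpow_left (mem_centralizer_singleton_iff.1 (hS hx)).symm k).eq))
    (mem_zpowers _)
  rcases Cfsg.Agent.S2901.result hna (nor s.O) hH (s.z 1) (hC hz)
    ⟨z_ord h, hE.syl.toSylowTop, hzS, fun x hx => mem_centralizer_singleton_iff.1 (hS hx)⟩ hC
    (fun g hg => by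
      obtain ⟨k, hk, h1⟩ := (hE.syl.of_le (hS.trans hC) le_top).exists_cj_le
        (two (x := g * s.z 1 * g⁻¹) (by rw [conj_mul, z_sq h]; simp)) (zpowers_le.2 hg)
      obtain ⟨g', h2, h3⟩ := hE.fus _ (h1 (conj_mem_cj (mem_zpowers _)))
        (isConj_iff.2 ⟨k * g, by group⟩)
      exact ⟨k⁻¹ * g', mul_mem (inv_mem hk) (centralizer_le_normalizer _ h2), by
        rw [show k⁻¹ * g' * s.z 1 * (k⁻¹ * g')⁻¹ = k⁻¹ * (g' * s.z 1 * g'⁻¹) * k by group, h3]
        group⟩) with ⟨-, T, hT⟩ | ⟨n, hn, -, ⟨e⟩⟩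
  · have hA : s.A ≤ nor T := fun a ha => hT.le (centralizer_le_normalizer _ fun o ho =>
      ((h.loc.od.le ho).1 a ha).symm)
    have h1 : ∀ a ∈ s.A, a * a = 1 → a ∈ T := fun a ha h2 =>
      (isSyl_sylow T).le_of_le_normalizer' (two h2) le_top (zpowers_le.2 (hA ha)) (mem_zpowers _)
    have h2 : s.n * s.u 0 1 0 ∈ T := mul_mem (h1 _ h.fr.nA h.fr.nn) (h1 _ (h.fr.uA _ _ _) (by
      rw [h.fr.hm.mul, ← h.fr.hm.one]; exact cg _ (by decide) (by decide) (by decide)))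
    obtain ⟨k, hk⟩ := T.isPGroup'.exists_orderOf_eq_pow ⟨_, h2⟩
    rw [← orderOf_coe] at hk
    have h3 := h.fr.zodd _ (pow_mem (mul_mem h.fr.nA (h.fr.uA 0 1 0)) 3) h.fr.nv
    rw [Nat.Coprime.orderOf_pow (by rw [hk]; exact Nat.Coprime.pow_left _ (by norm_num)), hk] at h3
    obtain rfl : k = 0 := by
      by_contra h4
      exact Nat.not_even_iff_odd.2 h3 (Nat.even_pow.2 ⟨even_two, h4⟩)
    have h4 := h.fr.nu 0 1
    rw [eq_inv_of_mul_eq_one_left (orderOf_eq_one_iff.1 hk), inv_inv, h.fr.hm.conj'] at h4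
    exact absurd (h.fr.hm.ext h4).1 (by decide)
  · rcases (show n - 1 = 4 ∨ 5 ≤ n - 1 by omega) with h1 | h1
    · have h2 := hE.big.trans (card_dvd_of_le (hS.trans hC))
      rw [Nat.card_congr e.toEquiv, h1] at h2
      have h3 := two_mul_nat_card_alternatingGroup (α := Fin 4)
      rw [Nat.card_perm, Nat.card_fin] at h3
      have := Nat.le_of_dvd Nat.card_pos h2
      norm_num [Nat.factorial] at h3 this
      omega
    · have := alternatingGroup.isSimpleGroup (α := Fin (n - 1)) (by simpa using h1)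
      have := e.isSimpleGroup
      rcases (normal_in_normalizer (H := s.O)).eq_bot_or_eq_top with h2 | h2
      · exact hO (by simpa [disjoint_iff, inf_of_le_left s.O.le_normalizer] using h2)
      · exact zO (subgroupOf_eq_top.1 h2 (hC hz))

theorem O2C_eq (h : Sz s) (hQ : SQ s j Q) (hE : SE s Q S) (hO : s.O = ⊥) : O2C (s.z 1) = Q := by
  have : Fact (Nat.Prime 2) := ⟨Nat.prime_two⟩
  have hS : S ≤ cen1 (s.z 1) := hE.le.trans inf_le_right
  have hz := hQ.v0 0 1 (.inl rfl)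
  have zc : ∀ q ∈ Q, q * s.z 1 = s.z 1 * q := fun q hq => by
    rcases hQ.cm q hq _ hz with e | e
    · exact mul_inv_eq_iff_eq_mul.1 e
    · rw [z_sq h] at e
      exact absurd (by simpa using e) (z_ne h)
  refine le_antisymm (fun t ht => ?_) (le_pCoreIn (fun q hq => mem_centralizer_singleton_iff.2
    (zc q hq)) hQ.ex.1.1 fun c hc q hq => (mem_normalizer_iff.1 (hE.cz hc) q).1 hq)
  have h1 : O2C (s.z 1) ≤ S := (hE.syl.of_le hS le_top).le_of_le_normalizer (isPGroup_pCoreIn _)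
    (pCoreIn_le _ _) fun c hc => mem_normalizer_fintype fun x hx => conj_mem_pCoreIn (hS hc) hx
  have h2 : ∀ t ∈ O2C (s.z 1), t * s.z F4.w * t⁻¹ = s.z F4.w ∨
      t * s.z F4.w * t⁻¹ = s.z F4.w * s.z 1 := fun t ht => by
    obtain ⟨e, he⟩ := (mem_Z h).1 ((mem_normalizer_iff.1 (hE.le (h1 ht)).1 _).1
      ((mem_Z h).2 ⟨F4.w, rfl⟩))
    have h3 : t * s.z 1 * t⁻¹ = s.z 1 :=
      mul_inv_eq_iff_eq_mul.2 (mem_centralizer_singleton_iff.1 (hS (h1 ht)))
    rw [← he]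
    rcases e with _ | _ | _ | _
    · have h4 : s.z F4.w = 1 := by simpa using he.symm.trans h.fr.hm.one
      exact absurd (h.fr.hm.inj h4).2.2 (by decide)
    · have h4 : s.z F4.w = s.z 1 := by simpa using he.symm.trans h3.symm
      exact absurd (h.fr.hm.ext h4).2.2 (by decide)
    · exact .inl rfl
    · exact .inr (by rw [Dt.z, Dt.z, Dt.z, h.fr.hm.mul]; exact cg _ rfl rfl rfl)
  have ct : Commute t (s.z 1) := mem_centralizer_singleton_iff.1 (hS (h1 ht))
  obtain ⟨o, ho, q, hq, rfl⟩ := hQ.cq t (hE.le (h1 ht)) fun q hq => by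
    refine (closure_induction (p := fun q _ => q ∈ Q ∧ (t * q * t⁻¹ = q ∨ t * q * t⁻¹ = q * s.z 1))
      (fun v hv => ⟨hv.1, ?_⟩) ⟨one_mem _, .inl (by simp)⟩ (fun x y _ _ hx hy => ⟨mul_mem hx.1 hy.1, ?_⟩)
      (fun x _ hx => ⟨inv_mem hx.1, ?_⟩) (hQ.gen hq)).2
    · by_cases e1 : v = 1
      · exact .inl (by simp [e1])
      by_cases e2 : v = s.z 1
      · exact .inl (by rw [e2, ct.eq, mul_inv_cancel_right])
      obtain ⟨g, hg, rfl⟩ := hQ.tr v hv.1 hv.2 e1 e2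
      have gz : g * s.z 1 * g⁻¹ = s.z 1 :=
        (hQ.zc _ ((mem_normalizer_iff.1 hg _).1 hz) fun q hq => by
          have := zc _ ((mem_normalizer_iff.1 (inv_mem hg) q).1 hq)
          calc g * s.z 1 * g⁻¹ * q = g * (s.z 1 * (g⁻¹ * q * g⁻¹⁻¹)) * g⁻¹ := by group
            _ = _ := by rw [← this]; group).resolve_left (by simpa using z_ne h)
      have e3 : t * (g * s.z F4.w * g⁻¹) * t⁻¹ =
          g * (g⁻¹ * t * g⁻¹⁻¹ * s.z F4.w * (g⁻¹ * t * g⁻¹⁻¹)⁻¹) * g⁻¹ := by group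
      rcases h2 _ (conj_mem_pCoreIn (inv_mem (mem_centralizer_singleton_iff.2
        (mul_inv_eq_iff_eq_mul.1 gz))) ht) with e | e <;> rw [e3, e]
      · exact .inl rfl
      · exact .inr (by rw [← conj_mul, gz])
    · rw [← conj_mul]
      rcases hx.2 with e | e <;> rcases hy.2 with e' | e' <;> rw [e, e']
      · exact .inl rfl
      · exact .inr (mul_assoc _ _ _).symm
      · exact .inr (by rw [mul_assoc, ← zc y hy.1, mul_assoc])
      · exact .inl (by rw [mul_assoc, ← mul_assoc (s.z 1), ← zc y hy.1, mul_assoc y, z_sq h, mul_one])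
    · rw [← conj_inv]
      rcases hx.2 with e | e <;> rw [e]
      · exact .inl rfl
      · exact .inr (by rw [mul_inv_rev, inv_eq_of_mul_eq_one_right (z_sq h), zc _ (inv_mem hx.1)])
  rw [hO, mem_bot] at ho
  simpa [ho] using hq

theorem jobS8 : JobS8.{u} := fun G _ _ _ s j Q S hna h hQ hE => by
  have hO := O_bot hna h hQ hE
  have e := O2C_eq h hQ hE hO
  have big := hE.big.trans (card_subgroup_dvd_card S)
  rcases H1.LX.s1762_of H93.W3.jobW3a H38.W3.jobW3b H95.Pnt.jobW3k H84.LXL5.jobL5 (z := s.z 1)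
    ⟨LX_O2C (z_ne h) (e ▸ hQ.ex) (by
      rw [e]
      intro a ha
      rcases cenQ h hQ fun q hq => (ha q hq).symm with h1 | ⟨o, h1, rfl⟩ <;>
        rw [hO, mem_bot] at h1 <;> rw [h1]
      exacts [one_mem _, by simpa using hQ.v0 0 1 (.inl rfl)]), e ▸ hQ.card⟩ with
    ⟨F, _, _, hF, ⟨f⟩⟩ | ⟨F, _, _, hF, ⟨f⟩⟩ | ⟨⟨f⟩⟩ | ⟨⟨f⟩⟩ | f
  · have := H64.card_psl hF 3
    rw [Nat.card_congr f.toEquiv] at big
    norm_num [Finset.prod_range_succ, Finset.sum_range_succ] at this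
    rw [this] at big
    norm_num at big
  · have := H59.card_PSU (q := 2) hF (n := 5) (by norm_num)
    rw [Nat.card_congr f.toEquiv] at big
    norm_num [H59.ordGU, Finset.prod_range_succ, Nat.even_iff] at this
    omega
  · rw [Nat.card_congr f.toEquiv, H72.card_M24] at big
    norm_num at big
  · rw [Nat.card_congr f.toEquiv, H71.He.card] at big
    norm_num at big
  · exact f

end H86.TE8
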