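import Cfsg.Agent.H78.TEDef
import Cfsg.Agent.H26.SGFR
import Cfsg.Agent.H48.SgTy

/-! STD-2E6: long root elements of `²E₆(q)` and their centralisers. -/

set_option autoImplicit false
set_option linter.unusedSectionVars false

namespace H86.TE

open Cfsg.Lie H63 H64 H65 H64.SG H78.TE H46.SF Subgroup

theorem rf_s (i : Fin E6.rank) (s : Rt E6) : rf (simpleR i) s = sref i s := by
  have : ∀ (i : Fin E6.rank) (s : Rt E6), (rf (simpleR i) s).1 = (sref i s).1 := by decide +kernel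
  exact Fin.ext (this i s)

theorem W_ip (w : W6) (r s : Rt E6) : ip (w.1 r) (w.1 s) = ip r s := by
  rw [ip_eq, ip_eq, W_pairing]

/-- A twisted simple reflection shortens an element of which it is a descent. -/
theorem len_lt {w v : W6} (hw : ∀ r, w.1 (gm r) = gm (w.1 r)) {i : Fin E6.rank}
    (hi : ¬ Pos (w.1 (simpleR i))) (hv : ∀ s, v.1 s = rg (simpleR i) s) :
    (H64.wdata E6).len (w * v) < (H64.wdata E6).len w := by
  have h1 := (H64.wdata E6).len_mul_s_of_neg (w := w) (i := i) hi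
  by_cases e : gm (simpleR i) = simpleR i
  · rw [show v = (H64.wdata E6).sW i from Subtype.ext (Equiv.ext fun s => by
      rw [hv, rg, if_pos e, rf_s]; rfl)]
    omega
  have h2 := (H64.wdata E6).len_mul_s_of_neg (w := w * (H64.wdata E6).sW i) (i := gn i) (by
    change ¬ Pos (w.1 (sref i (simpleR (gn i))))
    rw [← rf_s, ← gm_simple, (by decide +kernel : ∀ r, gm r ≠ r → rf r (gm r) = gm r) _ e, hw, pos_gm]
    exact hi)
  rw [show v = (H64.wdata E6).sW i * (H64.wdata E6).sW (gn i) from Subtype.ext (Equiv.ext fun s => by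
    rw [hv, rg, if_neg e, gm_simple, rf_s, rf_s]; rfl), ← mul_assoc]
  omega

variable {K : Type} [Field K] [CharP K 2]

theorem xE_inj {r : Rt E6} {a b : K} (h : xG E6 K r a = xG E6 K r b) : a = b :=
  CharTwo.add_eq_zero.1 ((stY K).eq_zero_of_x_eq_one r (by
    rw [xE_add, h, x_sq (stY K).toStN.toSt]))

theorem xE_root {r : Rt E6} {a b : K} (ha : a ≠ 0) (h : xG E6 K r a = xG E6 K (lr (hi D4)) b) :
    r = lr (hi D4) := by
  by_contra e
  obtain ⟨v, h1, h2⟩ := (by decide +kernel : ∀ r : Rt E6, r ≠ lr (hi D4) →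
    ∃ v, ip r v = -1 ∧ 0 ≤ ip (lr (hi D4)) v) r e
  have := e6.commutator_add (stY K).toStN.toSt (su_add h1) a 1
  rw [h, cY h2, mul_inv_cancel_right, mul_inv_cancel, mul_one] at this
  exact ha ((stY K).eq_zero_of_x_eq_one _ this.symm)

variable {F : Type} [Field F] [CharP F 2] {T : Qd F K}

theorem Mon.mul {n m : T.X} {w v : W6} {d : Rt E6 → K} (h : T.Mon n w d) (h' : T.Lf m v) :
    T.Mon (n * m) (w * v) fun s => d (v.1 s) :=
  ⟨fun r => by rw [WData.mul_apply, h'.1, h.1]; rfl, fun s => ⟨(h.2 _).1, fun a => by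
    rw [WData.mul_apply, ← (h.2 _).2, ← h'.2, coe_mul]; group⟩⟩

theorem mem_XR (B : T.KB) {r : Rt D4} {g : T.X} : g ∈ XR D4 T.x r ↔ ∃ c, g = T.x r c := B.st.mem_XR

theorem mem_P0 (B : T.KB) {r : Rt D4} {g : T.X} : g ∈ T.P0 r ↔ ∀ c, T.x r c * g = g * T.x r c :=
  ⟨fun h c => h _ (x_mem_XR D4 _ r c), fun h y hy => by
    obtain ⟨c, rfl⟩ := (mem_XR B).1 hy; exact h c⟩

theorem hh_x (B : T.KB) (v r : Rt D4) {k : F} (hk : k ≠ 0) (c : F) :
    hh D4 T.x v k * T.x r c * (hh D4 T.x v k)⁻¹ = T.x r (k ^ D4.pairing v r * c) := by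
  obtain ⟨w, hw⟩ := B.half
  have k1 : ∀ c, T.xs (lr r) (T.ι c * w) = T.x r c := fun c => T.xs_lr r (by
    rw [map_mul, T.fi, ← mul_add, hw, mul_one])
  rw [← k1, B.tor v k hk, ← k1, ip_lr, map_mul, map_zpow₀, mul_assoc]

theorem hh_mem (B : T.KB) {S : Set (Rt E6)} {v : Rt D4} (h1 : lr v ∈ S) (h2 : ng (lr v) ∈ S) (k : F) :
    hh D4 T.x v k ∈ T.gt S := by
  have k1 := B.x_mem v h1
  have k2 := B.x_mem (negR v) (lr_neg v ▸ h2)
  rw [H64.hh_eq, H64.nn_eq, H64.nn_eq]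
  exact mul_mem (mul_mem (mul_mem (k1 _) (k2 _)) (k1 _)) (mul_mem (mul_mem (k1 _) (k2 _)) (k1 _))

theorem SP_le (B : T.KB) : T.gt SP ≤ T.P0 (hi D4) := T.gt_le.2 fun r hr u =>
  (mem_P0 B).2 fun c => B.cx _ r (by rwa [lr_hi, ip_hi]) c u

theorem U_le : T.U ≤ T.gt SP := T.gt_mono (by decide +kernel : ∀ r ∈ SU, r ∈ SP)

theorem mon_mem (B : T.KB) (C : T.TC) (k : ℕ) : ∀ (n : T.X) (w : W6) d, (H64.wdata E6).len w = k →
    T.Mon n w d → n ∈ T.P0 (hi D4) → n ∈ T.gt SP := by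
  induction k using Nat.strong_induction_on with
  | _ k ih =>
  rintro n w d rfl h hn
  by_cases e : ∀ i, Pos (w.1 (simpleR i))
  · obtain rfl := (H64.wdata E6).eq_one_of_pos (w := w) e
    obtain ⟨a, c, b, f, ha, hc, hb, hf, e⟩ := C.tq n d h
    obtain ⟨h1, m1, e1, -⟩ := B.hs (R6 56) (by decide +kernel) a ha
    obtain ⟨h2, m2, e2, -⟩ := B.hs (R6 42) (by decide +kernel) c hc
    replace m1 := T.gt_mono (S' := SP) (by rintro _ (rfl | rfl) <;> decide +kernel) m1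
    replace m2 := T.gt_mono (S' := SP) (by rintro _ (rfl | rfl) <;> decide +kernel) m2
    have m3 := hh_mem B (S := SP) (v := R4 18) (by decide +kernel) (by decide +kernel) f
    obtain rfl : n = h1 * h2 * hh D4 T.x (R4 14) b * hh D4 T.x (R4 18) f := Subtype.ext (by
      rw [e, coe_mul, coe_mul, coe_mul, e1, e2, B.hhv, B.hhv]; rfl)
    rw [mul_mem_cancel_right (SP_le B m3), mul_mem_cancel_left (SP_le B (mul_mem m1 m2))] at hn
    have e3 := hh_x B (R4 14) (hi D4) hb 1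
    rw [← (mem_P0 B).1 hn, mul_inv_cancel_right, show D4.pairing (R4 14) (hi D4) = 1 by
      decide +kernel, zpow_one, mul_one] at e3
    obtain rfl : 1 = b := CharTwo.add_eq_zero.1 (B.inj _ _ (by
      rw [← B.st.add _ (hi D4).2, e3, x_sq B.st]))
    rw [B.st.hh_one, mul_one]
    exact mul_mem (mul_mem m1 m2) m3
  obtain ⟨i, hj⟩ := not_forall.1 e
  have e1 := congrArg Subtype.val ((mem_P0 B).1 hn 1)
  rw [coe_mul, coe_mul, T.x_val, eq_comm, ← mul_inv_eq_iff_eq_mul, (h.2 _).2] at e1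
  have e2 := W_ip w (lr (hi D4)) (simpleR i)
  rw [xE_root (by simpa using (h.2 _).1) e1, lr_hi, ip_hi, ip_hi] at e2
  have e3 : a2 (simpleR i) = 0 := (by decide +kernel : ∀ r s : Rt E6, ¬ 36 ≤ r.1 → 36 ≤ s.1 →
    a2 r = a2 s → a2 s = 0) _ _ (fun h => hj (pos_iff.2 h)) (pos_iff.1 (pos_simpleR i)) e2
  obtain ⟨m, hm, v, h1, h2⟩ := B.lfw [simpleR i]
  replace hm := T.gt_mono (S' := SP) (fun r hr => (by decide +kernel : ∀ s r : Rt E6, a2 s = 0 →
    r = s ∨ ng r = s → 0 ≤ a2 r) _ r e3 (by simpa using hr)) hm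
  exact (mul_mem_cancel_right hm).1 (ih _ (len_lt h.1 hj h2) _ _ _ rfl (Mon.mul h h1)
    (mul_mem hn (SP_le B hm)))

theorem jobPA : JobPA := fun F K _ _ _ _ _ _ T B _ C R => by
  have hU := U_le.trans (SP_le B)
  have tr : ∀ (r : Rt D4) c, IsConj (T.x (hi D4) c) (T.x r c) := fun r c => by
    obtain ⟨n, w, h, e, -⟩ := B.tr2 (hi D4) (hi D4) r r (by rw [pairing_self, pairing_self])
    exact isConj_iff.2 ⟨n, h.x T e c⟩
  refine ⟨fun r c hc => le_antisymm (fun g hg => (mem_P0 B).2 fun b => ?_) fun g hg =>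
    mem_Cz.2 ((mem_P0 B).1 hg c), le_antisymm (fun g hg => ?_) (SP_le B),
    fun r c hc => ⟨c, hc, tr r c⟩, ?_, fun β => ?_, fun g => ?_⟩
  · rcases eq_or_ne b 0 with rfl | hb
    · simp [B.st.x_zero]
    have k := fun c hc => (H26.SG.jobFR H48.SgTy.jobTy E6 e6 K).cz (lr r) (T.ι c) ((map_ne_zero _).2 hc)
    have : (g : YY K) ∈ Cz (xG E6 K (lr r) (T.ι c)) :=
      mem_Cz.2 (T.x_val r c ▸ congrArg Subtype.val (mem_Cz.1 hg))
    rw [k c hc, ← k b hb, mem_Cz, ← T.x_val] at this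
    exact Subtype.ext this
  · obtain ⟨u, hu, u', hu', n, w, d, h, rfl⟩ := C.bru g
    rw [mul_mem_cancel_right (hU hu'), mul_mem_cancel_left (hU hu)] at hg
    exact mul_mem (mul_mem (U_le hu) (mon_mem B C _ n w d rfl h hg)) (U_le hu')
  · rintro g h ⟨a, ha, h1⟩ ⟨b, hb, h2⟩
    refine h1.symm.trans (IsConj.trans (isConj_iff.2 ⟨hh D4 T.x (R4 14) (b / a), ?_⟩) h2)
    rw [hh_x B _ _ (div_ne_zero hb ha), show D4.pairing (R4 14) (hi D4) = 1 by decide +kernel,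
      zpow_one, div_mul_cancel₀ _ ha]
  · obtain ⟨g, d, τ, h⟩ := C.ex β
    refine ⟨g, eq_of_le_of_card_ge ?_ (card_map_of_injective (MulAut.conj g * β).injective).ge⟩
    rintro _ ⟨y, hy, rfl⟩
    obtain ⟨u, rfl⟩ : ∃ u, y = T.xs (lr (hi D4)) u := by
      obtain ⟨c, rfl⟩ := (mem_XR B).1 hy
      obtain ⟨w, hw⟩ := B.half
      exact ⟨T.ι c * w, (T.xs_lr _ (by rw [map_mul, T.fi, ← mul_add, hw, mul_one])).symm⟩
    exact B.gtZ.le ((R.act _ d τ h _ u).symm ▸ T.xs_mem (by decide +kernel) _)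
  · obtain ⟨u, hu, u', hu', n, w, d, h, rfl⟩ := C.bru g
    obtain ⟨r, hr⟩ := exists_lr (w.1 (lr (hi D4))) (by rw [← h.1, gm_lr])
    have k : ∀ c, ((n * T.x (hi D4) c * n⁻¹ : T.X) : YY K) =
        xG E6 K (lr r) (d (lr (hi D4)) * T.ι c) := fun c => by
      rw [coe_mul, coe_mul, coe_inv, T.x_val, (h.2 _).2, hr]
    have k1 := (n * T.x (hi D4) 1 * n⁻¹).2
    rw [mem_fx, k, T.ph_x, gm_lr, map_one, mul_one] at k1
    obtain ⟨a, ha⟩ := (T.fix _).1 (xE_inj k1)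
    refine ⟨u⁻¹, inv_mem (hU hu), r, a, fun e => (h.2 _).1 (by rw [← ha, e, map_zero]),
      fun c => ?_⟩
    rw [show u⁻¹ * (u * n * u') * T.x (hi D4) c * (u⁻¹ * (u * n * u'))⁻¹ =
      n * (u' * T.x (hi D4) c * u'⁻¹) * n⁻¹ by group, ← (mem_P0 B).1 (hU hu'), mul_inv_cancel_right]
    exact Subtype.ext (by rw [k, T.x_val, map_mul, ha])

end H86.TE
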