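import Cfsg.Agent.H86.WRDef
import Cfsg.Agent.H63.Ov4
import Cfsg.Agent.H48.SgFa1
import Cfsg.Agent.H26.SGFB

/-! Subgroups of `U` generated by root subgroups in type `F₄`, characteristic `2`: normality,
centralisers modulo a normal subgroup, orders, from decidable certificates. -/

set_option autoImplicit false
set_option linter.unusedSectionVars false

namespace H86.F4

open Cfsg.Lie H63 H64 H65 Subgroup
open H64.SG (Cs Ns Cz UU x_mem_gen)
open H67.SA (cm)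
open H59.SO (AutOn)
open scoped commutatorElement

section Aut

variable {X : Type*} [Group X] {U S S' T S'' : Subgroup X} {θ : X → X}

theorem autOn_one (h : AutOn U θ) : θ 1 = 1 := by
  have := h.mul 1 (one_mem _) 1 (one_mem _)
  rwa [mul_one, left_eq_mul] at this

theorem autOn_inv (h : AutOn U θ) {a : X} (ha : a ∈ U) : θ a⁻¹ = (θ a)⁻¹ :=
  eq_inv_of_mul_eq_one_left (by rw [← h.mul _ (inv_mem ha) _ ha, inv_mul_cancel, autOn_one h])

theorem autOn_cm (h : AutOn U θ) {a b : X} (ha : a ∈ U) (hb : b ∈ U) :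
    θ (cm a b) = cm (θ a) (θ b) := by
  rw [cm, h.mul _ (mul_mem (mul_mem ha hb) (inv_mem ha)) _ (inv_mem hb),
    h.mul _ (mul_mem ha hb) _ (inv_mem ha), h.mul _ ha _ hb, autOn_inv h ha, autOn_inv h hb]

theorem autOn_surj [Finite X] (h : AutOn U θ) (hS : S ≤ U) (h1 : ∀ u ∈ S, θ u ∈ S) {v : X}
    (hv : v ∈ S) : ∃ u ∈ S, θ u = v :=
  ((Set.toFinite (S : Set X)).injOn_iff_bijOn_of_mapsTo h1).1 (h.bij.injOn.mono hS) |>.surjOn hv

/-- A subgroup defined by invariant subgroups is invariant. -/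
theorem autOn_of [Finite X] (h : AutOn U θ) (hS : S ≤ U) (hS' : S' ≤ U) (h0 : S'' ≤ S)
    (h1 : ∀ u ∈ S, θ u ∈ S) (h2 : ∀ u ∈ S', θ u ∈ S') (h3 : ∀ u ∈ T, θ u ∈ T)
    (h4 : ∀ g ∈ S, (∀ k ∈ S', cm g k ∈ T) ↔ g ∈ S'') : ∀ u ∈ S'', θ u ∈ S'' := fun u hu =>
  (h4 _ (h1 u (h0 hu))).1 fun k hk => by
    obtain ⟨k, k1, rfl⟩ := autOn_surj h hS' h2 hk
    rw [← autOn_cm h (hS (h0 hu)) (hS' k1)]
    exact h3 _ ((h4 u (h0 hu)).2 hu k k1)

theorem mem_of_prod {α : Type*} {K : Subgroup X} {l : List α} (hn : l.Nodup) {f : α → X} {a : α}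
    (ha : a ∈ l) (h : ∀ b ∈ l, b ≠ a → f b ∈ K) (hp : (l.map f).prod ∈ K) : f a ∈ K := by
  obtain ⟨s, t, rfl⟩ := List.append_of_mem ha
  rw [List.nodup_middle, List.nodup_cons, List.mem_append, not_or] at hn
  rw [List.map_append, List.map_cons, List.prod_append, List.prod_cons] at hp
  have k : ∀ m : List α, a ∉ m → (∀ b ∈ m, b ∈ s ++ a :: t) → (m.map f).prod ∈ K := fun m h1 h2 =>
    list_prod_mem fun g hg => by
      obtain ⟨b, hb, rfl⟩ := List.mem_map.1 hg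
      exact h b (h2 b hb) fun e => h1 (e ▸ hb)
  rwa [mul_mem_cancel_left (k s hn.1.1 fun b hb => by simp [hb]),
    mul_mem_cancel_right (k t hn.1.2 fun b hb => by simp [hb])] at hp

end Aut

/-- The positive roots. -/
def PP : List ℕ := List.range' 24 24

/-- The roots that occur in `[x_a, x_b]` in characteristic `2`. -/
def OT (a b : ℕ) : List ℕ := ((chevF4.commTerms b a).filter fun c => c.2.1 % 2 = 1).map (·.1)

/-- The root subgroups with index in `T` generate a normal subgroup of `U`. -/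
def Nm (T : List ℕ) : Prop := ∀ r ∈ T, r ∈ PP ∧ ∀ s ∈ PP, ∀ c ∈ OT s r, c ∈ T

instance (T : List ℕ) : Decidable (Nm T) := by unfold Nm; infer_instance

/-- `[U_S, U_S'] ≤ U_T` -/
def Cm (S S' T : List ℕ) : Prop := ∀ r ∈ S, r ∈ PP ∧ ∀ s ∈ S', s ∈ PP ∧ ∀ c ∈ OT r s, c ∈ T

instance (S S' T : List ℕ) : Decidable (Cm S S' T) := by unfold Cm; infer_instance

/-- The coordinate at `r` of an element with leading root `r` is detected by some `s ∈ S'` modulo `T`. -/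
def Det (S' T : List ℕ) (r : ℕ) : Prop := ∃ s ∈ S', s ∈ PP ∧ ∃ k ∈ chevF4.commTerms s r,
  k.2.1 % 2 = 1 ∧ k.1 ∉ T ∧ k.1 ∈ PP ∧
    (∀ k' ∈ chevF4.commTerms s r, k' ≠ k → k'.2.1 % 2 = 0 ∨ k'.1 ∈ T ∨ k.1 < k'.1 ∧ k'.1 < 48) ∧
    ∀ r' ∈ PP, r < r' → ∀ c ∈ OT r' s, c ∈ T ∨ k.1 < c

instance (S' T : List ℕ) (r : ℕ) : Decidable (Det S' T r) := by unfold Det; infer_instance

/-- `{g ∈ U_S | [g, U_S'] ≤ U_T} = U_S''` -/
def Cert (S S' T S'' : List ℕ) : Prop :=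
  Nm S ∧ Nm T ∧ Cm S'' S' T ∧ (∀ r ∈ S'', r ∈ S) ∧ ∀ r ∈ S, r ∉ S'' → Det S' T r

instance (S S' T S'' : List ℕ) : Decidable (Cert S S' T S'') := by unfold Cert; infer_instance

theorem mem_PP {r : ℕ} : r ∈ PP ↔ 24 ≤ r ∧ r < 48 := by simp [PP]

theorem pos_iff (r : Rt chevF4) : Pos r ↔ (r : ℕ) ∈ PP := by
  revert r; simp only [Pos, rt_F4]; decide +kernel

theorem OT_lt : ∀ a ∈ PP, ∀ b ∈ PP, (∀ c ∈ OT a b, a < c ∧ b < c ∧ c < 48) ∧
    (chevF4.commTerms a b).Nodup ∧ b ≠ chevF4.neg a := by decide +kernel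

theorem OT_self : ∀ a ∈ PP, OT a a = [] ∧ chevF4.commTerms a a = [] := by decide +kernel

theorem nm_PP : Nm PP := by decide +kernel

theorem Nm.app {T : List ℕ} (h : Nm T) (k : ℕ) : Nm (T ++ PP.filter (k < ·)) := fun r hr => by
  rcases List.mem_append.1 hr with hr | hr
  · exact ⟨(h r hr).1, fun s hs c hc => List.mem_append_left _ ((h r hr).2 s hs c hc)⟩
  · rw [List.mem_filter, decide_eq_true_eq] at hr
    refine ⟨hr.1, fun s hs c hc => List.mem_append_right _ ?_⟩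
    have := (OT_lt s hs r hr.1).1 c hc
    have := mem_PP.1 hs
    rw [List.mem_filter, decide_eq_true_eq, mem_PP]
    omega

/-- The root with index `r`. -/
abbrev R (r : ℕ) (h : r < 48 := by decide) : Rt chevF4 := ⟨r, h⟩

section Grp

variable {F : Type*} [Field F] {G : Type*} [Group G] (x : ℕ → F → G)

/-- The subgroup generated by the root subgroups with index in `l`. -/
noncomputable def GS (l : List ℕ) : Subgroup G := gen (XR chevF4 x) {r | (r : ℕ) ∈ l}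

theorem GS_PP : GS x PP = UU chevF4 x := by
  rw [GS, UU, show {r : Rt chevF4 | (r : ℕ) ∈ PP} = {r | Pos r} from
    Set.ext fun r => (pos_iff r).symm]

theorem GS_nil : GS x [] = ⊥ := by simp [GS, gen_empty]

variable {x} {S S' T S'' : List ℕ}

theorem x_mem {r : ℕ} (hr : r ∈ S) (h : r < 48) (a : F) : x r a ∈ GS x S :=
  x_mem_gen (r := R r h) hr a

theorem GS_le {K : Subgroup G} (h : ∀ r ∈ S, ∀ a, x r a ∈ K) : GS x S ≤ K :=
  H64.SG.gen_le_iff.2 fun r hr a => h r hr a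

theorem GS_mono (h : ∀ r ∈ S, r ∈ T) : GS x S ≤ GS x T := gen_mono _ fun r hr => h r hr

theorem GS_le_UU (h : ∀ r ∈ S, r ∈ PP) : GS x S ≤ UU chevF4 x := GS_PP x ▸ GS_mono h

theorem Nm.le (h : Nm S) : GS x S ≤ UU chevF4 x := GS_le_UU fun r hr => (h r hr).1

variable [CharP F 2]

theorem cast_even {c : ℤ} (h : c % 2 = 0) : (c : F) = 0 :=
  (CharP.intCast_eq_zero_iff F 2 c).2 (Int.dvd_of_emod_eq_zero h)

theorem cast_odd {c : ℤ} (h : c % 2 = 1) : (c : F) ≠ 0 := fun e => by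
  have := (CharP.intCast_eq_zero_iff F 2 c).1 e
  omega

variable (h : St chevF4 x)
include h

theorem comm_mem' {a b : Rt chevF4} (h1 : a ≠ b) (h2 : a ≠ negR b) {K : Subgroup G}
    (hK : ∀ c ∈ OT a b, c < 48 → ∀ t, x c t ∈ K) (t u : F) : ⁅x a t, x b u⁆ ∈ K := by
  rw [← neg_neg u, ← neg_neg t, h.commutator_eq h1 h2]
  refine list_prod_mem fun g hg => ?_
  simp only [ChevalleyDatum.commWord, List.map_map, List.mem_map, Function.comp] at hg
  obtain ⟨c, hc, rfl⟩ := hg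
  obtain ⟨h3, -⟩ := commTerms_spec hc
  rcases Int.emod_two_eq_zero_or_one c.2.1 with e | e
  · rw [cast_even e, zero_mul, zero_mul, h.x_zero ⟨_, h3⟩]; exact one_mem _
  · exact hK _ (List.mem_map.2 ⟨c, List.mem_filter.2 ⟨hc, by simpa⟩, rfl⟩) h3 _

theorem comm_mem {a b : ℕ} (ha : a ∈ PP) (hb : b ∈ PP) {K : Subgroup G}
    (hK : ∀ c ∈ OT a b, c < 48 → ∀ t, x c t ∈ K) (t u : F) : ⁅x a t, x b u⁆ ∈ K := by
  by_cases e : a = b
  · subst e
    rw [commutatorElement_eq_one_iff_mul_comm.2 (h.x_comm (R a (mem_PP.1 ha).2) t u)]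
    exact one_mem _
  exact comm_mem' h (a := R a (mem_PP.1 ha).2) (b := R b (mem_PP.1 hb).2)
    (fun e' => e (congrArg Fin.val e')) (fun e' => (OT_lt b hb a ha).2.2 (congrArg Fin.val e')) hK t u

theorem x_comm {a b : ℕ} (ha : a ∈ PP) (hb : b ∈ PP) (h0 : OT a b = []) (t u : F) :
    x a t * x b u = x b u * x a t :=
  commutatorElement_eq_one_iff_mul_comm.1 (mem_bot.1 (comm_mem h ha hb (by simp [h0]) t u))

theorem Nm.conj (hT : Nm T) {u v : G} (hu : u ∈ UU chevF4 x) (hv : v ∈ GS x T) :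
    u * v * u⁻¹ ∈ GS x T := by
  refine gen_induction_left (p := fun u => ∀ v ∈ GS x T, u * v * u⁻¹ ∈ GS x T) (by simp)
    (fun s hs y hy g _ ih v hv => ?_) hu v hv
  obtain ⟨t, rfl⟩ := h.mem_XR.1 hy
  rw [show x s t * g * v * (x s t * g)⁻¹ = x s t * (g * v * g⁻¹) * (x s t)⁻¹ by group]
  refine conj_mem_of_gen (fun r hr z hz => ?_) (ih v hv)
  obtain ⟨a, rfl⟩ := h.mem_XR.1 hz
  rw [show x s t * x r a * (x s t)⁻¹ = ⁅x s t, x r a⁆ * x r a by simp [commutatorElement_def]]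
  exact mul_mem (comm_mem h ((pos_iff s).1 hs) (hT r hr).1 (fun c hc h1 t =>
    x_mem ((hT r hr).2 s ((pos_iff s).1 hs) c hc) h1 t) _ _) (x_mem_gen hr a)

theorem Nm.le_Ns [Finite G] (hT : Nm T) : UU chevF4 x ≤ Ns (GS x T) := fun _ hu =>
  H98.mem_normalizer_of_cj_le (by rintro _ ⟨v, hv, rfl⟩; exact hT.conj h hu hv)

theorem Nm.commUp (hT : Nm T) : CommUp (XR chevF4 x) {r | (r : ℕ) ∈ T} Fin.val :=
  fun a ha b hb _ y hy z hz => by
    obtain ⟨t, rfl⟩ := h.mem_XR.1 hy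
    obtain ⟨u, rfl⟩ := h.mem_XR.1 hz
    refine comm_mem h (hT a ha).1 (hT b hb).1 (fun c hc h1 t => ?_) t u
    have := (OT_lt a (hT a ha).1 b (hT b hb).1).1 c hc
    exact x_mem_gen (r := R c h1) (by exact ⟨(hT b hb).2 a (hT a ha).1 c hc, this.1, this.2.1⟩) t

theorem Cm.comm (hc : Cm S S' T) (hT : Nm T) {u v : G} (hu : u ∈ GS x S) (hv : v ∈ GS x S') :
    cm u v ∈ GS x T := by
  by_cases h0 : S = []
  · subst h0; rw [GS_nil] at hu; simp [mem_bot.1 hu, cm]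
  obtain ⟨r₀, h0⟩ := List.exists_mem_of_ne_nil S h0
  refine comm_mem_of_gen (U := UU chevF4 x) (fun u hu k hk => hT.conj h hu hk)
    (GS_le_UU fun r hr => (hc r hr).1) (GS_le_UU fun s hs => ((hc r₀ h0).2 s hs).1)
    (fun a ha b hb y hy z hz => ?_) hu hv
  obtain ⟨t, rfl⟩ := h.mem_XR.1 hy
  obtain ⟨u, rfl⟩ := h.mem_XR.1 hz
  exact comm_mem h (hc a ha).1 ((hc a ha).2 b hb).1
    (fun c h1 h2 t => x_mem (((hc a ha).2 b hb).2 c h1) h2 t) t u

theorem Cm.le_Cs (hc : Cm S S' []) : GS x S ≤ Cs (GS x S') := fun _ hu _ hv =>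
  (H67.SA.cm_eq_one.1 (mem_bot.1 (GS_nil x ▸ hc.comm h (by decide) hu hv))).symm

theorem Cm.sq (hc : Cm S S []) {u : G} (hu : u ∈ GS x S) : u * u = 1 := by
  refine gen_induction_left (p := fun u => u * u = 1) (one_mul _) (fun r hr y hy g hg e => ?_) hu
  obtain ⟨t, rfl⟩ := h.mem_XR.1 hy
  rw [mul_assoc, ← mul_assoc g, hc.le_Cs h (x_mem_gen hr t) g hg, mul_assoc, e, mul_one,
    H64.SG.x_sq h]

end Grp

section GrpB

variable {F : Type*} [Field F] {G : Type*} [Group G] {x : ℕ → F → G} {S S' T S'' : List ℕ}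
  [CharP F 2] (h : StB chevF4 x)
include h

theorem Nm.eq_zero (hT : Nm T) {c : ℕ} (h1 : c ∈ PP) (h2 : c ∉ T) {a : F} (ha : x c a ∈ GS x T) :
    a = 0 := by
  classical
  have := eq_one_of_prod_mem h.rgd (hT.commUp h.toSt) (fun r hr => (pos_iff r).2 (hT r hr).1)
    (L := [R c (mem_PP.1 h1).2]) (by simp) (by simpa using (pos_iff (R c (mem_PP.1 h1).2)).2 h1)
    (y := fun s => if s = R c (mem_PP.1 h1).2 then x c a else 1)
    (fun s => by split_ifs with e; exacts [e ▸ x_mem_XR chevF4 x (R c _) a, one_mem _]) (by simpa)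
    (List.mem_singleton_self _) h2
  exact h.eq_zero_of_x_eq_one (R c (mem_PP.1 h1).2) (by simpa using this)

omit h [CharP F 2] in
theorem Uge_le (T : List ℕ) (k : ℕ) : Uge chevF4 x (k + 1) ≤ GS x (T ++ PP.filter (k < ·)) :=
  gen_mono _ fun r hr => List.mem_append_right _ (List.mem_filter.2
    ⟨(pos_iff r).1 hr.1, decide_eq_true hr.2⟩)

/-- The leading coordinate of an element of `U_T`. -/
theorem Nm.lead (hT : Nm T) {r : ℕ} (h1 : r ∈ PP) (h2 : r ∉ T) {a : F} {v : G}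
    (hv : v ∈ Uge chevF4 x (r + 1)) (ha : x r a * v ∈ GS x T) : a = 0 :=
  (hT.app r).eq_zero h h1 (by simp [h2]) ((mul_mem_cancel_right (Uge_le T r hv)).1
    (GS_mono (fun _ => List.mem_append_left _) ha))

theorem Det.eq_zero (hT : Nm T) {r : ℕ} (h1 : r ∈ PP) (hd : Det S' T r) {a : F} {v : G}
    (hv : v ∈ Uge chevF4 x (r + 1)) (ha : ∀ s ∈ S', s < 48 → cm (x r a * v) (x s 1) ∈ GS x T) : a = 0 := by
  obtain ⟨s, s1, s2, k, k1, k2, k3, k4, k5, k6⟩ := hd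
  have hW := hT.app k.1
  have h2 : cm v (x s 1) ∈ GS x (T ++ PP.filter (k.1 < ·)) :=
    Cm.comm h.toSt (S := PP.filter (r < ·)) (S' := [s]) (fun r' hr' => by
      rw [List.mem_filter, decide_eq_true_eq] at hr'
      refine ⟨hr'.1, fun s' hs' => ?_⟩
      obtain rfl := List.mem_singleton.1 hs'
      refine ⟨s2, fun c hc => List.mem_append.2 ((k6 r' hr'.1 hr'.2 c hc).imp_right fun h3 => ?_)⟩
      have := (OT_lt r' hr'.1 _ s2).1 c hc
      have := mem_PP.1 s2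
      rw [List.mem_filter, decide_eq_true_eq, mem_PP]
      omega) hW (by simpa using Uge_le [] r hv) (x_mem (by simp) (mem_PP.1 s2).2 1)
  have h3 := GS_mono (x := x) (T := T ++ PP.filter (k.1 < ·)) (fun _ => List.mem_append_left _)
    (ha s s1 (mem_PP.1 s2).2)
  rw [show cm (x r a * v) (x s 1) = x r a * cm v (x s 1) * (x r a)⁻¹ * ⁅x r a, x s 1⁆ by
    simp only [cm, commutatorElement_def]; group,
    mul_mem_cancel_left (hW.conj h.toSt (GS_PP x ▸ x_mem h1 (mem_PP.1 h1).2 a) h2)] at h3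
  have e : r ≠ s := by rintro rfl; simp [(OT_self r h1).2] at k1
  have h4 := h.toSt.commutator_eq (r := R s (mem_PP.1 s2).2) (s := R r (mem_PP.1 h1).2)
    (fun e' => e (congrArg Fin.val e')) (fun e' => (OT_lt s s2 r h1).2.2 (congrArg Fin.val e'))
    (-1) (-a)
  rw [neg_neg, neg_neg] at h4
  rw [h4, wd, ChevalleyDatum.commWord, List.map_map] at h3
  have h5 := hW.eq_zero h k4 (by simp [k3]) (mem_of_prod (OT_lt s s2 r h1).2.1 k1 (fun b b1 b2 => by
    obtain ⟨h6, -⟩ := commTerms_spec (r := R s (mem_PP.1 s2).2) (s := R r (mem_PP.1 h1).2) b1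
    rcases k5 b b1 b2 with h7 | h7 | h7
    · simp only [Function.comp, cast_even (F := F) h7, zero_mul, h.toSt.x_zero ⟨_, h6⟩, one_mem]
    · exact x_mem (List.mem_append_left _ h7) h6 _
    · refine x_mem (List.mem_append_right _ ?_) h6 _
      have := mem_PP.1 k4
      rw [List.mem_filter, decide_eq_true_eq, mem_PP]
      omega) h3)
  simp only [neg_neg, one_pow, mul_one, mul_eq_zero, cast_odd k2, false_or] at h5
  exact neg_eq_zero.1 (pow_eq_zero_iff'.1 h5).1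

theorem Cert.iff (hc : Cert S S' T S'') :
    ∀ g ∈ GS x S, (∀ k ∈ GS x S', cm g k ∈ GS x T) ↔ g ∈ GS x S'' := by
  obtain ⟨h1, h2, h3, h4, h5⟩ := hc
  refine fun g hg => ⟨fun hk => ?_, fun hg k hk => h3.comm h.toSt h2 hg hk⟩
  let K : Subgroup G :=
    { carrier := {g | g ∈ GS x S ∧ ∀ k ∈ GS x S', cm g k ∈ GS x T}
      one_mem' := ⟨one_mem _, fun k _ => by simp [cm]⟩
      mul_mem' := fun {a b} ha hb => ⟨mul_mem ha.1 hb.1, fun k hk => by
        rw [show cm (a * b) k = a * cm b k * a⁻¹ * cm a k by simp only [cm]; group]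
        exact mul_mem (h2.conj h.toSt (h1.le ha.1) (hb.2 k hk)) (ha.2 k hk)⟩
      inv_mem' := fun {a} ha => ⟨inv_mem ha.1, fun k hk => by
        rw [show cm a⁻¹ k = a⁻¹ * (cm a k)⁻¹ * a⁻¹⁻¹ by simp only [cm]; group]
        exact h2.conj h.toSt (inv_mem (h1.le ha.1)) (inv_mem (ha.2 k hk))⟩ }
  refine H48.SgFa.lead h.toSt (K := K) (fun r hr t => ⟨x_mem_gen (h4 r hr) t, fun k hk =>
    h3.comm h.toSt h2 (x_mem_gen hr t) hk⟩) (fun r hr r1 t v hv e => ?_) (h1.le hg) ⟨hg, hk⟩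
  by_cases r2 : (r : ℕ) ∈ S
  · exact (h5 r r2 r1).eq_zero h h2 ((pos_iff r).1 hr) hv fun s hs s3 => e.2 _ (x_mem hs s3 1)
  · exact h1.lead h ((pos_iff r).1 hr) r2 hv e.1

theorem Nm.card [Finite G] [Finite F] (hT : Nm T) (hn : T.Nodup) :
    Nat.card (GS x T) = Nat.card F ^ T.length := by
  classical
  have h1 : ∀ r ∈ T, r < chevF4.nroots := fun r hr => (mem_PP.1 (hT r hr).1).2
  let L : List (Rt chevF4) := T.pmap Fin.mk h1
  have h2 : ∀ a : Rt chevF4, a ∈ L ↔ (a : ℕ) ∈ T := fun a => by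
    simp only [L, List.mem_pmap]
    exact ⟨fun ⟨b, hb, e⟩ => e ▸ hb, fun ha => ⟨a, ha, rfl⟩⟩
  have h3 : L.Nodup := hn.pmap fun a _ b _ e => congrArg Fin.val e
  have h4 : L.toFinset.card = T.length := by rw [List.toFinset_card_of_nodup h3, List.length_pmap]
  rw [← h4]
  refine le_antisymm ?_ (H26.SGB.pow_le_card h _ (fun r hr => (pos_iff r).2
    (hT r ((h2 r).1 (List.mem_toFinset.1 hr))).1) fun r hr t =>
      x_mem_gen ((h2 r).1 (List.mem_toFinset.1 hr)) t)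
  rw [← Fintype.card_coe, ← Nat.card_eq_fintype_card, ← Nat.card_fun]
  refine Nat.card_le_card_of_surjective (fun y : L.toFinset → F => (⟨(L.map fun r : Rt chevF4 =>
    x r (if h : r ∈ L.toFinset then y ⟨r, h⟩ else 0)).prod, list_prod_mem fun z hz => by
      obtain ⟨r, hr, rfl⟩ := List.mem_map.1 hz
      exact x_mem_gen ((h2 r).1 hr) _⟩ : GS x T)) fun g => ?_
  obtain ⟨y, y1, y2⟩ := (hT.commUp h.toSt).exists_prod L h3 h2 g.2
  choose t ht using fun a => h.toSt.mem_XR.1 (y1 a)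
  refine ⟨fun a => t a, Subtype.ext (y2.trans (congrArg List.prod (List.map_congr_left fun a ha => ?_))).symm⟩
  rw [dif_pos (List.mem_toFinset.2 ha), ht]

/-- `C_U(U_S') = U_S''` -/
theorem Cert.cen (hc : Cert PP S' [] S'') : UU chevF4 x ⊓ Cs (GS x S') = GS x S'' := by
  ext g
  refine ⟨fun hg => (hc.iff h g (GS_PP x ▸ hg.1)).1 fun k hk => ?_, fun hg =>
    ⟨GS_le_UU hc.2.2.2.1 hg, hc.2.2.1.le_Cs h.toSt hg⟩⟩
  rw [H67.SA.cm_eq_one.2 (hg.2 k hk).symm]; exact one_mem _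

/-- Invariance under the automorphisms of `U`. -/
theorem Cert.inv [Finite G] (hc : Cert S S' T S'') (hS : ∀ r ∈ S', r ∈ PP) {θ : G → G}
    (a : AutOn (UU chevF4 x) θ) (h1 : ∀ u ∈ GS x S, θ u ∈ GS x S)
    (h2 : ∀ u ∈ GS x S', θ u ∈ GS x S') (h3 : ∀ u ∈ GS x T, θ u ∈ GS x T) :
    ∀ u ∈ GS x S'', θ u ∈ GS x S'' :=
  autOn_of a hc.1.le (GS_le_UU hS) (GS_mono hc.2.2.2.1) h1 h2 h3 (hc.iff h)

omit h [CharP F 2] in
theorem inv_PP {θ : G → G} (a : AutOn (UU chevF4 x) θ) : ∀ u ∈ GS x PP, θ u ∈ GS x PP :=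
  GS_PP x ▸ a.bij.mapsTo

omit h [CharP F 2] in
theorem inv_nil {θ : G → G} (a : AutOn (UU chevF4 x) θ) : ∀ u ∈ GS x [], θ u ∈ GS x [] := by
  rw [GS_nil]; rintro _ rfl; exact autOn_one a

omit [CharP F 2] in
/-- `n_i` normalises `U_S` if `s_i` maps `S` to `S`. -/
theorem n_mem_Ns [Finite G] (i : Fin chevF4.rank) (hS : ∀ r ∈ S, chevF4.reflectRoot i r ∈ S) :
    nn chevF4 x (chevF4.simple i) 1 ∈ Ns (GS x S) := H98.mem_normalizer_of_cj_le (by
  rintro _ ⟨v, hv, rfl⟩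
  refine conj_mem_of_gen (fun r hr y hy => ?_) hv
  obtain ⟨t, rfl⟩ := h.toSt.mem_XR.1 hy
  obtain ⟨η, -, h1⟩ := h.toStN.sgn_n i r
  rw [(h1 t).1]
  exact x_mem_gen (r := sperm i r) (hS r hr) _)

end GrpB

section XF

open H86.WR

variable (F : Type) [Field F]

theorem adF : Ad chevF4 (xG chevF4 F) := H64.SG.ad chevF4 F

theorem stB : StB chevF4 (xG chevF4 F) := (adF F).toStB

theorem US_eq (l : List ℕ) : US F l = GS (xG chevF4 F) l := rfl

end XF

end H86.F4
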