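import Cfsg.Agent.H86.NULift
import Cfsg.Agent.H46.SFY
import Cfsg.Agent.H64.SGAsm
import Cfsg.Agent.H78.NU3
import Cfsg.Agent.H55.FU3
import Cfsg.Agent.H48.SgFa
import Cfsg.Agent.H48.SgTy

/-! STD-F4, `N(U*) ≤ M` for `Y = E₆(F)` with the graph automorphism: `JobNE`. -/

set_option autoImplicit false
set_option linter.unusedSectionVars false

namespace H86.NU

open Cfsg.Lie H63 H64 H65 H98 Subgroup H64.SG H86.F4
open H46.SF (o1 o2 sh yE iE gE iE_x gE_x yE_short yE_long etE6 o_facts rho_facts)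
open H64.SF (lQ)
open H68 (rhoE6)

universe u

theorem posE (r : Rt chevE6) : Pos r ↔ 36 ≤ (r : ℕ) := by
  revert r; simp only [Pos, rt_E6]; decide +kernel

theorem o_pos : (∀ r < 48, 24 ≤ r → 36 ≤ o1 r ∧ 36 ≤ o2 r) ∧ ∀ s < 72, 36 ≤ s → 36 ≤ rhoE6 s := by
  decide +kernel

theorem gE_UU (K : Type) [Field K] [CharP K 2] :
    ∀ u ∈ UU chevE6 (xG chevE6 K), gE K u ∈ UU chevE6 (xG chevE6 K) :=
  (H64.SG.gen_le_iff (K := (UU chevE6 (xG chevE6 K)).comap (gE K).toMonoidHom)).2 fun r hr a =>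
    mem_comap.2 ((gE_x r.2 a).symm ▸ x_mem_gen (r := ⟨_, (rho_facts r r.2).1⟩)
      ((posE _).2 (o_pos.2 r r.2 ((posE r).1 hr))) a)

theorem yE_mem {K : Type} [Field K] {A : Subgroup (chevE6.group K)} {r : ℕ}
    (h1 : ∀ a, xG chevE6 K (o1 r) a ∈ A) (h2 : ∀ a, xG chevE6 K (o2 r) a ∈ A) (a b : K) :
    yE K r a b ∈ A := by
  cases h : sh r
  · rw [yE_long h]; exact h1 a
  · rw [yE_short h]; exact mul_mem (h1 a) (h2 b)

theorem iE_UU (K : Type) [Field K] [CharP K 2] :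
    ∀ u ∈ UU chevF4 (xG chevF4 K), iE K u ∈ UU chevE6 (xG chevE6 K) :=
  (H64.SG.gen_le_iff (K := (UU chevE6 (xG chevE6 K)).comap (iE K))).2 fun r hr a => by
    obtain ⟨h1, h2, -⟩ := o_facts r r.2
    obtain ⟨h3, h4⟩ := o_pos.1 r r.2 (mem_PP.1 ((pos_iff r).1 hr)).1
    exact mem_comap.2 ((iE_x r.2 a).symm ▸ yE_mem (x_mem_gen (r := ⟨_, h1⟩) ((posE _).2 h3))
      (x_mem_gen (r := ⟨_, h2⟩) ((posE _).2 h4)) a a)

theorem jobNE : JobNE.{u} := fun F _ _ _ G _ _ e t G₁ c Us N => by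
  obtain ⟨y, h, rfl, hy⟩ := c.exists_st etE6 N.perf
  have hG : ∀ (r : Rt chevE6) a, y r a ∈ GG chevE6 y := x_mem_GG
  have l1 : UU chevE6 y ≤ Us := H64.SG.gen_le_iff.2 fun r hr a =>
    N.mem_Us (hG r a) (is2_x h r a) (hy r a ▸ x_mem_gen hr a)
  have k : ∀ S : Set (Rt chevE6), (∀ r ∈ S, Pos r) → ∀ g ∈ Us,
      c.pi g ∈ gen (XR chevE6 (xG chevE6 F)) S → g ∈ gen (XR chevE6 y) S := fun S hS g hg h1 =>
    c.mem_of_pi_mem_im (N.twoU.to_le ((gen_mono _ hS).trans l1)) (N.leU hg) (N.is2 hg)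
      (H64.SG.gen_le_iff.2 (fun r hr a => hy r a ▸ c.pi_mem_im (x_mem_gen hr a) (hG r a)) h1)
  obtain rfl : UU chevE6 y = Us := le_antisymm l1 fun g hg => k _ (fun _ h => h) g hg (N.pi_mem hg)
  obtain ⟨C⟩ := jobKit chevE6 etE6 F G y h ⟨hi chevE6, 1, fun e => one_ne_zero
    ((ad chevE6 F).toStB.eq_zero_of_x_eq_one (hi chevE6) (by rw [← hy, e, c.pi_one]))⟩
  have := H78.NU.jobNU.{u} H48.SgTy.jobTy H48.SgFa.jobFA H55.FU.jobFU chevE6 etE6 F G Unit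
    (fun _ => y) ⟨fun _ => C, fun _ _ h => absurd rfl h, by simpa using N.odd, fun m hm _ =>
      ⟨(), cj_eq_self (by simpa using hm)⟩⟩ t (by simp)
  simp only [iSup_const] at this
  refine this N.uf (N.tU (gE_UU F)) (fun _ _ h => absurd rfl h) fun j => ?_
  have k2 : ∀ s, (∀ r ∈ lQ s, r ∈ PP ∧ o1 r ≠ chevE6.simple j ∧ o2 r ≠ chevE6.simple j) →
      (SF.Q F s).map e ≤ UJ chevE6 y {j} := fun s hs => map_le_iff_le_comap.2 (GS_le fun r hr a => by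
    obtain ⟨h0, h5, h6⟩ := hs r hr
    obtain ⟨h7, h8⟩ := mem_PP.1 h0
    obtain ⟨h1, h2, -⟩ := o_facts r h8
    obtain ⟨h3, h4⟩ := o_pos.1 r h8 h7
    have k3 : ∀ ρ : Rt chevE6, 36 ≤ (ρ : ℕ) → (ρ : ℕ) ≠ chevE6.simple j →
        Pos ρ ∧ ρ ∉ (H64.wdata chevE6).PhiJ {j} := fun ρ p1 p2 => ⟨(posE ρ).2 p1, fun p3 => by
      rcases mem_PhiJ_single.1 p3 with rfl | rfl
      exacts [p2 rfl, pos_negR.1 ((posE _).2 p1) (pos_simpleR j)]⟩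
    refine k _ (fun _ h => h.1) _ (N.eU' (iE_UU F) ⟨_, (GS_PP (xG chevF4 F)).le (x_mem h0 h8 a), rfl⟩) ?_
    rw [N.pi, iE_x h8]
    exact yE_mem (x_mem_gen (r := ⟨_, h1⟩) (k3 _ h3 h5)) (x_mem_gen (r := ⟨_, h2⟩) (k3 _ h4 h6)) a a)
  rcases (by decide +kernel : ∀ j : Fin chevE6.rank, ∃ s ∈ [44, 47], ∀ r ∈ lQ s,
    r ∈ PP ∧ o1 r ≠ chevE6.simple j ∧ o2 r ≠ chevE6.simple j) j with ⟨s, s1, s2⟩
  refine (centralizer_le (k2 s s2)).trans ?_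
  rcases List.mem_pair.1 s1 with rfl | rfl
  exacts [N.cuS, N.cuT]

end H86.NU
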