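import Cfsg.Agent.H86.NULift
import Cfsg.Agent.H46.SFY

/-! STD-F4, `N(U*) ≤ M` for `Y = F₄(K)` with a field automorphism: `JobNF`. -/

set_option autoImplicit false
set_option linter.unusedSectionVars false

namespace H86.NU

open Cfsg.Lie H63 H64 H65 H98 Subgroup H64.SG H86.F4
open H67.SA (cm cm_eq_one)
open H59.SO (AutOn)
open H86.WR (XF UF4 autOn_conj)
open scoped commutatorElement

universe u

section Co

variable {Y : Type} [Group Y] [Finite Y] {R : Type} [CommRing R] {U A A' B B' C C' : Subgroup Y}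
  {f f' f'' : Y → R} {s s' s'' : R → Y} {θ : Y → Y} {g h : Y}

theorem iso_alg {α β γ : R → R} (k : ∀ u v, γ (u * v) = α u * β v) {w : R} (hw : γ w = 1)
    {m q : ℕ} (hm : Odd m) (h1 : ∀ u, α^[m] u = u) (h2 : ∀ u, α (α u ^ q) ^ q = u)
    (hq : ∀ u : R, (u ^ q) ^ q = u) : ∃ μ ν, ν * μ = 1 ∧ ∀ u, α u = μ * u := by
  have e1 := k 1 w
  have e2 := k w 1
  rw [one_mul, hw] at e1
  rw [mul_one, hw] at e2
  generalize β w = ν at e1
  let σ : R →* R := MonoidHom.mk ⟨fun u => ν * α u, (mul_comm _ _).trans e1.symm⟩ fun u v => by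
    have e3 := k u v
    have e4 := k (u * v) 1
    have e5 := k 1 v
    have e6 := k v 1
    rw [mul_one] at e4 e6
    rw [one_mul] at e5
    change ν * α (u * v) = ν * α u * (ν * α v)
    linear_combination (ν * α (u * v) - ν * ν * α u * α v) * e2 + ν * α w * (e3 - e4) +
      ν * ν * α u * α w * (e6 - e5) + ν * α u * α w * β v * e1
  have hσ : ∀ u, α u = α 1 * σ u := fun u => by
    change _ = _ * (ν * _); rw [← mul_assoc, ← e1, one_mul]
  have k1 : ∀ u v, α (u * v) = α u * σ v := fun u v => by rw [hσ, map_mul, hσ u, mul_assoc]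
  have k2 : ∀ (j : ℕ) u, α^[j] u = α^[j] 1 * σ^[j] u := fun j u => by
    induction j with
    | zero => simp
    | succ j ih => simp only [Function.iterate_succ_apply']; rw [ih, k1]
  have k4 : ∀ u, u = α (α 1 ^ q) ^ q * σ (σ u) := fun u => by
    have := (h2 u).symm
    rwa [hσ u, mul_pow, k1, mul_pow, map_pow, hq] at this
  simp only [h2, one_mul] at k4
  obtain ⟨j, rfl⟩ := hm
  refine ⟨α 1, ν, (mul_comm _ _).trans e1.symm, fun u => ?_⟩
  have := k2 (2 * j + 1) u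
  rw [h1, h1, one_mul, Function.iterate_add_apply, Function.iterate_mul,
    Function.iterate_fixed (f := σ^[2]) (k4 _).symm] at this
  rw [hσ, ← show u = σ u from this]

/-- Coordinates on the characteristic section `A / A'` of `U`. -/
structure Co (U A A' : Subgroup Y) (f : Y → R) (s : R → Y) : Prop where
  le : A ≤ U
  ch : Ch U A
  ch' : Ch U A'
  mul : ∀ g ∈ A, ∀ h ∈ A, f (g * h) = f g + f h
  ker : ∀ g, g ∈ A' ↔ g ∈ A ∧ f g = 0
  mem : ∀ u, s u ∈ A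
  sec : ∀ u, f (s u) = u

theorem Co.of (le : A ≤ U) (le' : A' ≤ A) (ch : Ch U A) (ch' : Ch U A') (mem : ∀ u, s u ∈ A)
    (add : ∀ u v, (s (u + v))⁻¹ * (s u * s v) ∈ A') (inj : ∀ u, s u ∈ A' → u = 0)
    (ex : ∀ g ∈ A, ∃ u, (s u)⁻¹ * g ∈ A') : ∃ f, Co U A A' f s := by
  choose! f hf using ex
  have k : ∀ u v, (s u)⁻¹ * s v ∈ A' → v = u := fun u v h => by
    have := add u (v - u)
    rw [add_sub_cancel, ← mul_assoc, mul_mem_cancel_left (by simpa using inv_mem h)] at this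
    exact sub_eq_zero.1 (inj _ this)
  have k2 : ∀ g ∈ A, ∀ u, (s u)⁻¹ * g ∈ A' → f g = u := fun g hg u h =>
    k _ _ (by simpa [mul_assoc] using mul_mem h (inv_mem (hf g hg)))
  have s0 : s 0 ∈ A' := by simpa using add 0 0
  refine ⟨f, le, ch, ch', fun g hg h hh => k2 _ (mul_mem hg hh) _ ?_, fun g => ⟨fun h =>
    ⟨le' h, k2 _ (le' h) _ (mul_mem (inv_mem s0) h)⟩, fun h => ?_⟩, mem, fun u => k2 _ (mem u) _ (by simp)⟩
  · have := mul_mem (mul_mem (add (f g) (f h)) (ch'.conj (inv_mem (le_normalizer (le (mem (f h)))))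
      (hf g hg))) (hf h hh)
    simpa [mul_assoc] using this
  · have := hf g h.1
    rwa [h.2, mul_mem_cancel_left (inv_mem s0)] at this

namespace Co

variable (a : Co U A A' f s)
include a

theorem one : f 1 = 0 := ((a.ker 1).1 (one_mem _)).2

theorem eq (hg : g ∈ A) (hh : h ∈ A) : f g = f h ↔ g * h⁻¹ ∈ A' := by
  have := a.mul _ hh _ (inv_mem hh)
  rw [mul_inv_cancel, a.one] at this
  rw [a.ker, and_iff_right (mul_mem hg (inv_mem hh)), a.mul _ hg _ (inv_mem hh),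
    eq_neg_of_add_eq_zero_right this.symm, add_neg_eq_zero]

theorem th (t : AutOn U θ) (hg : g ∈ A) : f (θ g) = f (θ (s (f g))) := by
  rw [a.eq (a.ch _ t _ hg) (a.ch _ t _ (a.mem _)), ← autOn_inv t (a.le (a.mem _)),
    ← t.mul _ (a.le hg) _ (inv_mem (a.le (a.mem _)))]
  exact a.ch' _ t _ ((a.eq hg (a.mem _)).1 (a.sec _).symm)

theorem surj (t : AutOn U θ) (u : R) : ∃ v, f (θ (s v)) = u := by
  obtain ⟨g, hg, e⟩ := autOn_surj t a.le (a.ch _ t) (a.mem u)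
  exact ⟨_, by rw [← a.th t hg, e, a.sec]⟩

/-- An automorphism of odd order inverted by the Frobenius map acts as a scalar. -/
theorem iso (b : Co U B B' f' s') (c : Co U C C' f'' s'')
    (bil : ∀ g ∈ A, ∀ h ∈ B, cm g h ∈ C ∧ f'' (cm g h) = f g * f' h) (t : AutOn U θ) {m q : ℕ}
    (hm : Odd m) (h1 : ∀ u ∈ U, θ^[m] u = u) {τ : Y → Y} (h2 : ∀ u ∈ U, τ (θ (τ (θ u))) = u)
    (h3 : ∀ g ∈ A, τ g ∈ A ∧ f (τ g) = f g ^ q) (hq : ∀ u : R, (u ^ q) ^ q = u) :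
    ∃ μ ν, ν * μ = 1 ∧ ∀ g ∈ A, f (θ g) = μ * f g := by
  have k : ∀ u v, f'' (θ (s'' (u * v))) = f (θ (s u)) * f' (θ (s' v)) := fun u v => by
    obtain ⟨k1, k2⟩ := bil _ (a.mem u) _ (b.mem v)
    rw [a.sec, b.sec] at k2
    rw [← k2, ← c.th t k1, autOn_cm t (a.le (a.mem u)) (b.le (b.mem v)),
      (bil _ (a.ch _ t _ (a.mem u)) _ (b.ch _ t _ (b.mem v))).2]
  obtain ⟨w, hw⟩ := c.surj t 1
  have k2 : ∀ j : ℕ, ∀ g ∈ A, θ^[j] g ∈ A ∧ f (θ^[j] g) = (fun u => f (θ (s u)))^[j] (f g) :=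
    fun j g hg => by
      induction j with
      | zero => simpa
      | succ j ih =>
        simp only [Function.iterate_succ_apply']
        exact ⟨a.ch _ t _ ih.1, by rw [a.th t ih.1, ih.2]⟩
  obtain ⟨μ, ν, e1, e2⟩ := iso_alg (α := fun u => f (θ (s u))) (β := fun u => f' (θ (s' u)))
    (γ := fun u => f'' (θ (s'' u))) k hw hm (fun u => by
    have := (k2 m _ (a.mem u)).2
    rw [h1 _ (a.le (a.mem u)), a.sec] at this
    exact this.symm) (fun u => by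
      have l1 := h3 _ (a.ch _ t _ (a.mem u))
      have := (h3 _ (a.ch _ t _ l1.1)).2
      rw [h2 _ (a.le (a.mem u)), a.sec, a.th t l1.1, l1.2] at this
      exact this.symm) hq
  exact ⟨μ, ν, e1, fun g hg => by rw [a.th t hg, e2]⟩

theorem conj (h0 : ∀ g ∈ U, ∀ z ∈ A, cm g z ∈ A') (hg : g ∈ U) (hh : h ∈ A) :
    g * h * g⁻¹ ∈ A ∧ f (g * h * g⁻¹) = f h :=
  have := a.ch.conj (le_normalizer hg) hh
  ⟨this, (a.eq this hh).2 (h0 g hg h hh)⟩

end Co

end Co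

section F4

variable {K : Type} [Field K] [CharP K 2] {Y : Type} [Group Y] [Finite Y] {x : ℕ → K → Y}
  (h : StB chevF4 x) {r s r' s' k k' : ℕ} {T T' T'' : List ℕ}

/-- The section of two root subgroups. -/
def Pr (r s : ℕ) (T : List ℕ) : Prop :=
  Nm T ∧ Nm (s :: T) ∧ Nm (r :: s :: T) ∧ r ∉ s :: T ∧ s ∉ T ∧ Cm [r] [s] T

instance (r s : ℕ) (T : List ℕ) : Decidable (Pr r s T) := by unfold Pr; infer_instance

/-- `x_r(a) x_s(b)` -/
def sx (x : ℕ → K → Y) (r s : ℕ) (u : K × K) : Y := x r u.1 * x s u.2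

include h

theorem Pr.co (p : Pr r s T) (c1 : Ch (UU chevF4 x) (GS x (r :: s :: T)))
    (c2 : Ch (UU chevF4 x) (GS x T)) :
    ∃ f, Co (UU chevF4 x) (GS x (r :: s :: T)) (GS x T) f (sx x r s) := by
  obtain ⟨p1, p2, p3, p4, p5, p6⟩ := p
  have hr := (p3 r (by simp)).1
  have hs := (p3 s (by simp)).1
  have r1 := (mem_PP.1 hr).2
  have s1 := (mem_PP.1 hs).2
  have m : ∀ u, sx x r s u ∈ GS x (r :: s :: T) := fun u =>
    mul_mem (x_mem (by simp) r1 _) (x_mem (by simp) s1 _)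
  have add : ∀ u v, (sx x r s (u + v))⁻¹ * (sx x r s u * sx x r s v) ∈ GS x T := fun u v => by
    have := p1.conj h.toSt (inv_mem (p2.le (x_mem (by simp) s1 (u.2 + v.2)))) (p6.comm h.toSt p1
      (inv_mem (x_mem (by simp) r1 v.1)) (x_mem (by simp) s1 u.2))
    simp only [sx, Prod.fst_add, Prod.snd_add, ← h.toSt.add r r1, ← h.toSt.add s s1] at this ⊢
    simpa [mul_assoc] using this
  refine Co.of p3.le (GS_mono fun _ h => by simp [h]) c1 c2 m add (fun u hu => ?_) fun g hg => ?_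
  · have e : u.1 = 0 := p2.eq_zero h hr p4 ((mul_mem_cancel_right (x_mem (by simp) s1 u.2)).1
      (GS_mono (fun _ h => by simp [h]) hu))
    rw [sx, e, h.toSt.x_zero ⟨r, r1⟩, one_mul] at hu
    exact Prod.ext e (p1.eq_zero h hs p5 hu)
  · refine gen_induction_left (p := fun g => ∃ u, (sx x r s u)⁻¹ * g ∈ GS x T)
      ⟨0, by simpa using inv_mem (add 0 0)⟩ (fun c hc y hy g _ ⟨u, hu⟩ => ?_) hg
    obtain ⟨a, rfl⟩ := h.toSt.mem_XR.1 hy
    have z1 := h.toSt.x_zero ⟨r, r1⟩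
    have z2 := h.toSt.x_zero ⟨s, s1⟩
    rcases List.mem_cons.1 hc with e | hc
    · exact ⟨(a, 0) + u, by simpa [sx, e, z2, mul_assoc] using mul_mem (add (a, 0) u) hu⟩
    rcases List.mem_cons.1 hc with e | hc
    · exact ⟨(0, a) + u, by simpa [sx, e, z1, mul_assoc] using mul_mem (add (0, a) u) hu⟩
    · exact ⟨u, by simpa [mul_assoc] using (mul_mem (p1.conj h.toSt (inv_mem (p3.le (m u)))
        (x_mem hc c.2 a)) hu)⟩

theorem cm_eq (hr : r ∈ PP) (hs : s ∈ PP) (e : r ≠ s) (a b : K) :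
    cm (x r a) (x s b) = wd x (chevF4.commWord K s r b a) := by
  have := h.toSt.commutator_eq (r := R s (mem_PP.1 hs).2) (s := R r (mem_PP.1 hr).2)
    (fun e' => e (congrArg Fin.val e')) (fun e' => (OT_lt s hs r hr).2.2 (congrArg Fin.val e')) b a
  rwa [CharTwo.neg_eq, CharTwo.neg_eq] at this

theorem cm_one (hr : r ∈ PP) (hs : s ∈ PP) (e : chevF4.commTerms s r = [(k, -1, 1, 1)]) (a b : K) :
    cm (x r a) (x s b) = x k (a * b) := by
  rw [cm_eq h hr hs (by rintro rfl; simp [(OT_self r hr).2] at e), ChevalleyDatum.commWord, e]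
  simp [wd, mul_comm]

/-- The commutator map is the multiplication of `K × K`. -/
def Bil (r s : ℕ) (T : List ℕ) (r' s' : ℕ) (T' : List ℕ) (k k' : ℕ) (T'' : List ℕ) : Prop :=
  chevF4.commTerms r' r = [(k, -1, 1, 1)] ∧ chevF4.commTerms s' s = [(k', -1, 1, 1)] ∧
    Cm [r] [s'] [] ∧ Cm [s] [r'] [] ∧ Cm T (r' :: s' :: T') T'' ∧ Cm (r :: s :: T) T' T'' ∧
    Cm PP (k :: k' :: T'') T'' ∧ Nm T'' ∧ ∀ c ∈ [r, s, r', s', k, k'], c ∈ PP

omit h in
instance (r s : ℕ) (T : List ℕ) (r' s' : ℕ) (T' : List ℕ) (k k' : ℕ) (T'' : List ℕ) :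
    Decidable (Bil r s T r' s' T' k k' T'') := by unfold Bil; infer_instance

theorem Bil.bil (p : Bil r s T r' s' T' k k' T'') {f f' f'' : Y → K × K}
    (a : Co (UU chevF4 x) (GS x (r :: s :: T)) (GS x T) f (sx x r s))
    (b : Co (UU chevF4 x) (GS x (r' :: s' :: T')) (GS x T') f' (sx x r' s'))
    (c : Co (UU chevF4 x) (GS x (k :: k' :: T'')) (GS x T'') f'' (sx x k k')) :
    ∀ g ∈ GS x (r :: s :: T), ∀ g' ∈ GS x (r' :: s' :: T'),
      cm g g' ∈ GS x (k :: k' :: T'') ∧ f'' (cm g g') = f g * f' g' := fun g hg g' hg' => by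
  obtain ⟨p1, p2, p3, p4, p5, p6, p7, p8, p9⟩ := p
  simp only [List.forall_mem_cons] at p9
  obtain ⟨q1, q2, q3, q4, q5, q6, -⟩ := p9
  have l : ∀ {r}, r ∈ PP → ∀ t, x r t ∈ GS x [r] := fun hr t => x_mem (by simp) (mem_PP.1 hr).2 t
  have l' : ∀ {r}, r ∈ PP → ∀ t, x r t ∈ UU chevF4 x := fun hr t =>
    GS_PP x ▸ x_mem hr (mem_PP.1 hr).2 t
  have c0 := fun {g z} => c.conj (g := g) (h := z) fun g hg z hz =>
    p7.comm h.toSt p8 (GS_PP x ▸ hg) hz
  have e1 := (a.eq hg (a.mem _)).1 (a.sec (f g)).symm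
  have e2 := (b.eq hg' (b.mem _)).1 (b.sec (f' g')).symm
  generalize f g = u at e1
  generalize f' g' = v at e2
  obtain ⟨g, rfl⟩ : ∃ w, g = w * sx x r s u := ⟨g * (sx x r s u)⁻¹, by simp⟩
  obtain ⟨g', rfl⟩ : ∃ w, g' = w * sx x r' s' v := ⟨g' * (sx x r' s' v)⁻¹, by simp⟩
  rw [mul_inv_cancel_right] at e1 e2
  have k1 := (c.ker _).1 (p5.comm h.toSt p8 e1 hg')
  have k2 := (c.ker _).1 (p6.comm h.toSt p8 (a.mem u) e2)
  have k3 : cm (x r u.1) (x r' v.1) = sx x k k' (u.1 * v.1, 0) := by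
    rw [cm_one h q1 q3 p1, sx, h.toSt.x_zero ⟨k', (mem_PP.1 q6).2⟩, mul_one]
  have k4 : cm (x s u.2) (x s' v.2) = sx x k k' (0, u.2 * v.2) := by
    rw [cm_one h q2 q4 p2, sx, h.toSt.x_zero ⟨k, (mem_PP.1 q5).2⟩, one_mul]
  have k5 := p3.le_Cs h.toSt (l q1 u.1) _ (l q4 v.2)
  have k6 := p4.le_Cs h.toSt (l q2 u.2) _ (l q3 v.1)
  have k7 : cm (sx x r s u) (sx x r' s' v) = x r u.1 * x r' v.1 * cm (x s u.2) (x s' v.2) *
      (x r u.1 * x r' v.1)⁻¹ * cm (x r u.1) (x r' v.1) := by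
    rw [sx, sx]
    generalize x r u.1 = p at k5; generalize x s u.2 = p' at k6
    generalize x r' v.1 = w at k6; generalize x s' v.2 = w' at k5
    calc _ = p * (p' * w) * w' * p'⁻¹ * (w' * p)⁻¹ * w⁻¹ := by simp only [cm]; group
      _ = p * (w * p') * w' * p'⁻¹ * (p * w')⁻¹ * w⁻¹ := by rw [← k6, k5]
      _ = _ := by simp only [cm]; group
  have k8 := c0 (mul_mem (l' q1 u.1) (l' q3 v.1)) (c.mem (0, u.2 * v.2))
  have k9 : cm (sx x r s u) (sx x r' s' v) ∈ GS x (k :: k' :: T'') ∧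
      f'' (cm (sx x r s u) (sx x r' s' v)) = u * v := by
    rw [k7, k3, k4, c.mul _ k8.1 _ (c.mem _), k8.2, c.sec, c.sec]
    exact ⟨mul_mem k8.1 (c.mem _), by ext <;> simp⟩
  have g1 := a.le ((a.ker _).1 e1).1
  have g2 := b.le ((b.ker _).1 e2).1
  have m1 := c0 g2 k9.1
  have m2 := c0 g1 (mul_mem k2.1 m1.1)
  rw [show cm (g * sx x r s u) (g' * sx x r' s' v) = g * (cm (sx x r s u) g' * (g' *
    cm (sx x r s u) (sx x r' s' v) * g'⁻¹)) * g⁻¹ * cm g (g' * sx x r' s' v) by simp only [cm]; group]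
  exact ⟨mul_mem m2.1 k1.1, by
    rw [c.mul _ m2.1 _ k1.1, m2.2, c.mul _ k2.1 _ m1.1, k1.2, k2.2, m1.2, k9.2, zero_add, add_zero]⟩

/-- The non-simple positive roots. -/
def Up : List ℕ := [26, 28, 29, 30, 31, 32, 34, 35, 36, 37, 38, 39, 40, 41, 42, 43, 44, 45, 46, 47]

theorem Up_le {l : K} (l0 : l ≠ 0) (l1 : l ≠ 1) : GS x Up ≤ ⁅UU chevF4 x, UU chevF4 x⁆ := by
  have k : ∀ a b, x 28 (a * b) * x 30 (a * b ^ 2) ∈ ⁅UU chevF4 x, UU chevF4 x⁆ := fun a b => by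
    have := commutator_mem_commutator (GS_PP x ▸ x_mem (x := x) (r := 27) (by decide) (by decide) b)
      (GS_PP x ▸ x_mem (x := x) (r := 25) (by decide) (by decide) a)
    rw [show ⁅x 27 b, x 25 a⁆ = _ from cm_eq h (by decide) (by decide) (by decide) b a,
      ChevalleyDatum.commWord,
      show chevF4.commTerms 25 27 = [(28, 1, 1, 1), (30, -1, 1, 2)] by decide +kernel] at this
    simpa [wd, CharTwo.neg_eq] using this
  have k2 : ∀ a, x 30 a ∈ ⁅UU chevF4 x, UU chevF4 x⁆ := fun a => by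
    have l2 : l - 1 ≠ 0 := sub_ne_zero.2 l1
    have := mul_mem (inv_mem (k (a / (l - 1)) 1)) (k (a / (l - 1) / l) l)
    rw [div_mul_cancel₀ _ l0, mul_one, mul_inv_rev, mul_assoc, inv_mul_cancel_left,
      h.toSt.x_inv (R 30), h.toSt.add 30 (by decide)] at this
    convert this using 2
    field_simp; ring
  refine GS_le fun r hr a => ?_
  rcases (by decide : ∀ r ∈ Up, r = 30 ∨ r = 28 ∨ r ∈ U' ∧ r < 48) r hr with rfl | rfl | e
  · exact k2 a
  · simpa using (mul_mem_cancel_right (k2 _)).1 (k a 1)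
  · exact U'_le h (x_mem e.1 e.2 a)

omit h [CharP K 2] in
theorem Ch.of {U : Subgroup Y} (c : Ch U (GS x T))
    (e : (∀ r ∈ T, r ∈ T') ∧ ∀ r ∈ T', r ∈ T := by decide) : Ch U (GS x T') :=
  le_antisymm (GS_mono (x := x) e.1) (GS_mono e.2) ▸ c

/-- A torus element with prescribed action on the simple root subgroups. -/
theorem tor {a b c d : K} (ha : a ≠ 0) (hb : b ≠ 0) (hc : c ≠ 0) (hd : d ≠ 0) :
    ∃ y ∈ Ns (UU chevF4 x), ∀ u, y * x 24 u * y⁻¹ = x 24 (a * u) ∧ y * x 33 u * y⁻¹ = x 33 (b * u) ∧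
      y * x 25 u * y⁻¹ = x 25 (c * u) ∧ y * x 27 u * y⁻¹ = x 27 (d * u) := by
  have k : ∀ r : Rt chevF4, ∀ {l : K}, l ≠ 0 → hh chevF4 x r l ∈ Ns (UU chevF4 x) := fun r l hl =>
    mem_normalizer_of_cj_le (by
      rintro _ ⟨v, hv, rfl⟩
      refine conj_mem_of_gen (fun s hs y hy => ?_) hv
      obtain ⟨t, rfl⟩ := h.toSt.mem_XR.1 hy
      rw [h.toStN.hh_conj r s hl]
      exact x_mem_gen hs _)
  have h1 := mul_ne_zero hc hd
  have h2 := mul_ne_zero ha h1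
  refine ⟨_, mul_mem (k (R 47) h2) (mul_mem (k (R 46) h1) (mul_mem (k (R 45) hd) (k (R 44) hb))),
    fun u => ?_⟩
  have k2 : ∀ s : Rt chevF4, hh chevF4 x (R 47) (a * (c * d)) * (hh chevF4 x (R 46) (c * d) *
      (hh chevF4 x (R 45) d * hh chevF4 x (R 44) b)) * x s u * (hh chevF4 x (R 47) (a * (c * d)) *
      (hh chevF4 x (R 46) (c * d) * (hh chevF4 x (R 45) d * hh chevF4 x (R 44) b)))⁻¹ =
      x s ((a * (c * d)) ^ chevF4.pairing 47 s * ((c * d) ^ chevF4.pairing 46 s *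
        (d ^ chevF4.pairing 45 s * (b ^ chevF4.pairing 44 s * u)))) := fun s => by
    rw [← h.toStN.hh_conj (R 47) s h2, ← h.toStN.hh_conj (R 46) s h1, ← h.toStN.hh_conj (R 45) s hd,
      ← h.toStN.hh_conj (R 44) s hb]
    group
  have p : ([47, 46, 45, 44].map fun r => [24, 33, 25, 27].map fun s => chevF4.pairing r s) =
      [[1, 0, 0, 0], [-1, 0, 1, 0], [0, 0, -1, 1], [0, 1, 0, 0]] := by decide +kernel
  simp only [List.map, List.cons.injEq, and_true] at p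
  refine ⟨(k2 (R 24)).trans ?_, (k2 (R 33)).trans ?_, (k2 (R 25)).trans ?_, (k2 (R 27)).trans ?_⟩ <;>
  · simp only [p]; congr 1; field_simp

end F4

theorem jobNF : JobNF.{u} := fun F K _ _ _ _ _ _ X G _ _ e t G₁ c Us N => by
  have h := stB K
  have sq : ∀ a : K, X.σ a = a ^ Nat.card F := X.hf
  have hτ : ∀ T, ∀ u ∈ GS (xG chevF4 K) T, X.τF u ∈ GS (xG chevF4 K) T := fun T =>
    (H64.SG.gen_le_iff (K := (GS _ T).comap X.τF.toMonoidHom)).2 fun r hr a =>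
      mem_comap.2 ((fieldAut_xG (D := chevF4) X.σ r a).symm ▸ x_mem_gen hr _)
  have c0 : Ch (UF4 K) (GS (xG chevF4 K) PP) := fun _ a => inv_PP a
  have c1 : Ch (UF4 K) (GS (xG chevF4 K) Z1) := fun _ a => inv_Z1 h a
  have c2 : Ch (UF4 K) (GS (xG chevF4 K) Z2) := fun _ a => inv_Z2 h a
  have c3 : Ch (UF4 K) (GS (xG chevF4 K) Z3) := fun _ a => inv_Z3 h a
  have c4 : Ch (UF4 K) (GS (xG chevF4 K) U14) := fun _ a => inv_U14 h a
  have c5 : Ch (UF4 K) (GS (xG chevF4 K) Up) := fun _ a =>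
    (by decide +kernel : Cert U14 Z3 Z1 Up).inv h (by decide) a (c4 _ a) (c3 _ a) (c1 _ a)
  obtain ⟨f1, a1⟩ := (by decide +kernel : Pr 24 33 U14).co h c0.of c4
  obtain ⟨f2, a2⟩ := (by decide +kernel : Pr 46 40 Z1).co h c2.of c1
  obtain ⟨f3, a3⟩ := (by decide +kernel : Pr 47 44 []).co h c1.of fun _ a => inv_nil a
  obtain ⟨f4, a4⟩ := (by decide +kernel : Pr 25 27 Up).co h c4.of c5
  obtain ⟨f5, a5⟩ := (by decide +kernel : Pr 45 39 Z2).co h c3.of c2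
  obtain ⟨l, hl⟩ := H46.SF.exists_eta X
  have hU := GS_PP (xG chevF4 K) ▸ hτ PP
  refine N.le_of_flag hU ((H64.SG.gen_le_iff (K := (UF4 K).comap X.ιF)).2 fun r hr a =>
    mem_comap.2 ?_) (Up_le h (l := l) ?_ ?_) c4 c5
    fun θ a ⟨m, hm, h1⟩ h2 => ?_
  · exact (mapG_xG (D := chevF4) X.φ r a).symm ▸ x_mem_gen hr _
  · rintro rfl; simp at hl
  · rintro rfl; simp [CharTwo.add_self_eq_zero] at hl
  have aτ : AutOn (UF4 K) X.τF := H86.WR.autOn_St (H67.SA.mem_St_of_finite hU)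
  have k : ∀ {r s T T' f}, Co (UF4 K) (GS _ T) T' f (sx (xG chevF4 K) r s) →
      ∀ g ∈ GS (xG chevF4 K) T, X.τF g ∈ GS (xG chevF4 K) T ∧ f (X.τF g) = f g ^ Nat.card F :=
    fun a g hg => ⟨hτ _ g hg, by
      rw [a.th aτ hg, ← a.sec (_ ^ _)]
      simp only [sx, map_mul, fieldAut_xG, sq, Prod.pow_fst, Prod.pow_snd]⟩
  have hq : ∀ u : K × K, (u ^ Nat.card F) ^ Nat.card F = u := fun u =>
    Prod.ext (by simp only [Prod.pow_fst, ← sq, H46.SF.ss]) (by simp only [Prod.pow_snd, ← sq, H46.SF.ss])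
  obtain ⟨μ, ν, e1, e2⟩ := a1.iso a2 a3 ((by decide +kernel : Bil 24 33 U14 46 40 Z1 47 44 []).bil h
    a1 a2 a3) a hm h1 h2 (k a1) hq
  obtain ⟨μ', ν', e3, e4⟩ := a4.iso a5 a2 ((by decide +kernel : Bil 25 27 Up 45 39 Z2 46 40 Z1).bil h
    a4 a5 a2) a hm h1 h2 (k a4) hq
  obtain ⟨y, hy, e5⟩ := tor h (left_ne_zero_of_mul_eq_one (congrArg Prod.fst e1))
    (left_ne_zero_of_mul_eq_one (congrArg Prod.snd e1))
    (left_ne_zero_of_mul_eq_one (congrArg Prod.fst e3))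
    (left_ne_zero_of_mul_eq_one (congrArg Prod.snd e3))
  have k2 : ∀ {r s T T' f μ ν}, Co (UF4 K) T T' f (sx (xG chevF4 K) r s) → ν * μ = 1 →
      (∀ g ∈ T, f (θ g) = μ * f g) → (∀ u, y * xG chevF4 K r u * y⁻¹ = xG chevF4 K r (ν.1 * u)) →
      (∀ u, y * xG chevF4 K s u * y⁻¹ = xG chevF4 K s (ν.2 * u)) →
      ∀ u ∈ T, y * θ u * y⁻¹ * u⁻¹ ∈ T' := fun {r s T T' f μ ν} b l1 l2 l3 l4 u hu => by
    have l5 := b.ch _ a _ hu
    rw [← b.eq (b.ch.conj hy l5) hu, b.th (autOn_conj hy) l5, l2 u hu, sx, ← conj_mul, l3, l4]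
    exact (b.sec (ν * (μ * f u))).trans (by rw [← mul_assoc, l1, one_mul])
  exact ⟨y, hy, fun u hu => k2 a1 e1 e2 (fun u => (e5 u).1) (fun u => (e5 u).2.1) u
    (GS_mono (S := PP) (by decide) ((GS_PP _).ge hu)), fun u _ hu => k2 a4 e3 e4
      (fun u => (e5 u).2.2.1) (fun u => (e5 u).2.2.2) u (GS_mono (by decide) hu)⟩

end H86.NU
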