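import Cfsg.Agent.H86.F4Kit
import Cfsg.Agent.S2174
import Cfsg.Agent.S1054
import Cfsg.Agent.H18.SAK

/-! STD-F4, slot FA: the characteristic subgroups of `U` in `F₄(F)`, characteristic `2`. -/

set_option autoImplicit false
set_option linter.unusedSectionVars false

namespace H86.F4

open Cfsg.Lie H63 H64 H65 Subgroup H86.WR
open H64.SG (Cs Ns Cz UU x_mem_gen cjs)
open H67.SA (cm)
open H59.SO (AutOn NS)
open scoped commutatorElement

def Z1 : List ℕ := [44, 47]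
def Z2 : List ℕ := [40, 44, 46, 47]
def Z3 : List ℕ := [39, 40, 44, 45, 46, 47]
def Z4 : List ℕ := [38, 39, 40, 43, 44, 45, 46, 47]
/-- `O₂(P₁₄) = C_U(Z₂)` -/
def U14 : List ℕ :=
  [25, 26, 27, 28, 29, 30, 31, 32, 34, 35, 36, 37, 38, 39, 40, 41, 42, 43, 44, 45, 46, 47]
def D10 : List ℕ := [32, 37, 38, 39, 40, 43, 44, 45, 46, 47]
/-- `C_U(Z₄)` -/
def C14 : List ℕ := [29, 32, 36, 37, 38, 39, 40, 41, 42, 43, 44, 45, 46, 47]
def A10 : List ℕ := [36, 38, 39, 40, 42, 43, 44, 45, 46, 47]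
def A12 : List ℕ := [29, 36, 38, 39, 40, 41, 42, 43, 44, 45, 46, 47]
/-- `C_U(Z₃)` -/
def C18 : List ℕ := [28, 29, 30, 31, 32, 35, 36, 37, 38, 39, 40, 41, 42, 43, 44, 45, 46, 47]

theorem cZ1 : Cert PP PP [] Z1 := by decide +kernel
theorem cZ2 : Cert PP PP Z1 Z2 := by decide +kernel
theorem cZ3 : Cert PP PP Z2 Z3 := by decide +kernel
theorem cZ4 : Cert PP PP Z3 Z4 := by decide +kernel
theorem cU14 : Cert PP Z2 [] U14 := by decide +kernel
theorem cD10 : Cert U14 U14 Z3 D10 := by decide +kernel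
theorem cC14 : Cert PP Z4 [] C14 := by decide +kernel
theorem cA10 : Cert C14 C14 Z1 A10 := by decide +kernel
theorem cA12 : Cert PP A10 [] A12 := by decide +kernel
theorem cCD : Cert PP D10 [] D10 := by decide +kernel
theorem cCA : Cert PP A12 [] A10 := by decide +kernel
theorem cC18 : Cert PP Z3 [] C18 := by decide +kernel

section Grp

variable {F : Type*} [Field F] [CharP F 2] {G : Type*} [Group G] {x : ℕ → F → G}
  (h : StB chevF4 x)
include h

section Inv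

variable [Finite G] {θ : G → G} (a : AutOn (UU chevF4 x) θ)
include a

theorem inv_Z1 : ∀ u ∈ GS x Z1, θ u ∈ GS x Z1 :=
  cZ1.inv h (fun _ h => h) a (inv_PP a) (inv_PP a) (inv_nil a)
theorem inv_Z2 : ∀ u ∈ GS x Z2, θ u ∈ GS x Z2 :=
  cZ2.inv h (fun _ h => h) a (inv_PP a) (inv_PP a) (inv_Z1 h a)
theorem inv_Z3 : ∀ u ∈ GS x Z3, θ u ∈ GS x Z3 :=
  cZ3.inv h (fun _ h => h) a (inv_PP a) (inv_PP a) (inv_Z2 h a)
theorem inv_Z4 : ∀ u ∈ GS x Z4, θ u ∈ GS x Z4 :=
  cZ4.inv h (fun _ h => h) a (inv_PP a) (inv_PP a) (inv_Z3 h a)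
theorem inv_U14 : ∀ u ∈ GS x U14, θ u ∈ GS x U14 :=
  cU14.inv h (by decide) a (inv_PP a) (inv_Z2 h a) (inv_nil a)
theorem inv_D10 : ∀ u ∈ GS x D10, θ u ∈ GS x D10 :=
  cD10.inv h (by decide) a (inv_U14 h a) (inv_U14 h a) (inv_Z3 h a)
theorem inv_C14 : ∀ u ∈ GS x C14, θ u ∈ GS x C14 :=
  cC14.inv h (by decide) a (inv_PP a) (inv_Z4 h a) (inv_nil a)
theorem inv_A10 : ∀ u ∈ GS x A10, θ u ∈ GS x A10 :=
  cA10.inv h (by decide) a (inv_C14 h a) (inv_C14 h a) (inv_Z1 h a)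
theorem inv_A12 : ∀ u ∈ GS x A12, θ u ∈ GS x A12 :=
  cA12.inv h (by decide) a (inv_PP a) (inv_A10 h a) (inv_nil a)
theorem inv_C18 : ∀ u ∈ GS x C18, θ u ∈ GS x C18 :=
  cC18.inv h (by decide) a (inv_PP a) (inv_Z3 h a) (inv_nil a)

end Inv

/-- `x_c` is a commutator `[x_a, x_b]` modulo the root subgroups in `T`. -/
def Der (T : List ℕ) (c : ℕ) : Prop := ∃ a ∈ PP, ∃ b ∈ PP, ∃ k ∈ chevF4.commTerms b a,
  k.1 = c ∧ k.2.1 % 2 = 1 ∧ (k.2.2.1 = 1 ∨ k.2.2.2 = 1) ∧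
    ∀ k' ∈ chevF4.commTerms b a, k' ≠ k → k'.2.1 % 2 = 0 ∨ k'.1 ∈ T

omit h in
instance (T : List ℕ) (c : ℕ) : Decidable (Der T c) := by unfold Der; infer_instance

theorem Der.mem {T : List ℕ} {c : ℕ} (hd : Der T c) {K : Subgroup G}
    (h1 : ⁅UU chevF4 x, UU chevF4 x⁆ ≤ K) (h2 : ∀ r ∈ T, ∀ t, x r t ∈ K) (t : F) : x c t ∈ K := by
  obtain ⟨a, ha, b, hb, k, k1, rfl, k2, k3, k4⟩ := hd
  have e : a ≠ b := by rintro rfl; simp [(OT_self a ha).2] at k1
  have key : ∀ s u : F, x k.1 ((k.2.1 : F) * (-s) ^ k.2.2.1 * u ^ k.2.2.2) ∈ K := fun s u => by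
    have h3 := h1 (commutator_mem_commutator (GS_PP x ▸ x_mem ha (mem_PP.1 ha).2 (-u))
      (GS_PP x ▸ x_mem hb (mem_PP.1 hb).2 (-s)))
    rw [h.toSt.commutator_eq (r := R b (mem_PP.1 hb).2) (s := R a (mem_PP.1 ha).2)
      (fun e' => e (congrArg Fin.val e')) (fun e' => (OT_lt b hb a ha).2.2 (congrArg Fin.val e')),
      wd, ChevalleyDatum.commWord, List.map_map] at h3
    refine mem_of_prod (OT_lt b hb a ha).2.1 k1 (fun j j1 j2 => ?_) h3
    obtain ⟨h6, -⟩ := commTerms_spec (r := R b (mem_PP.1 hb).2) (s := R a (mem_PP.1 ha).2) j1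
    rcases k4 j j1 j2 with h7 | h7
    · simp only [Function.comp, cast_even (F := F) h7, zero_mul, h.toSt.x_zero ⟨_, h6⟩, one_mem]
    · exact h2 _ h7 _
  have c0 := cast_odd (F := F) k2
  rcases k3 with k3 | k3
  · have := key (-(t / k.2.1)) 1
    rwa [k3, neg_neg, pow_one, one_pow, mul_one, mul_div_cancel₀ _ c0] at this
  · have := key (-1) (t / k.2.1)
    rwa [k3, neg_neg, pow_one, one_pow, mul_one, mul_div_cancel₀ _ c0] at this

theorem der_le : ∀ T : List ℕ, (∀ l ∈ T.tails, ∀ c ∈ l.head?, Der l.tail c) →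
    ∀ r ∈ T, ∀ t, x r t ∈ ⁅UU chevF4 x, UU chevF4 x⁆
  | [], _ => by simp
  | c :: T, hT => by
    have ih := der_le T fun l hl => hT l (List.mem_cons_of_mem _ hl)
    intro r hr
    rcases List.mem_cons.1 hr with rfl | hr
    · exact (hT (r :: T) (by simp) r rfl).mem h le_rfl ih
    · exact ih r hr

/-- All non-simple positive roots except `28`, `30`. -/
def U' : List ℕ := [26, 29, 31, 32, 34, 35, 41, 36, 37, 38, 39, 40, 42, 43, 44, 45, 46, 47]

theorem U'_le : GS x U' ≤ ⁅UU chevF4 x, UU chevF4 x⁆ := GS_le (der_le h U' (by decide +kernel))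

end Grp

variable (F : Type) [Field F] [Finite F] [CharP F 2]

instance finXF : Finite (XF F) := inferInstance

theorem ns : NS (XF F) :=
  ⟨(Cfsg.Agent.S1054.result chevF4 (by simp)).1, fun _ hg => (adF F).conj_injective (by simpa)⟩

theorem card_U : Nat.card (UF4 F) = Nat.card F ^ 24 := (stB F).card_U

theorem isP_U : IsPGroup 2 (UF4 F) := (H64.SG.syl_UU chevF4 F).isPGroup

theorem cls (g : XF F) (hg : g * g = 1) : ∃ k, k * g * k⁻¹ ∈ GS (xG chevF4 F) Z3 := by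
  by_cases h0 : g = 1
  · exact ⟨1, by simp [h0]⟩
  have := Fintype.ofFinite F
  obtain ⟨y, y1, y2, k, k1, k2⟩ := (Cfsg.Agent.S2174.result (F := F)).2.1 g g.2 (by
    rw [orderOf_coe]; exact orderOf_eq_prime (by rw [pow_two, hg]) h0)
  refine ⟨⟨k, k1⟩, ?_⟩
  have e : ∀ z : XF F, ((z : GL chevF4.Idx F) : Matrix chevF4.Idx chevF4.Idx F) = y →
      (⟨k, k1⟩ : XF F) * g * ⟨k, k1⟩⁻¹ = z := fun z hz => Subtype.ext (k2.trans (Units.ext hz.symm))
  simp only [List.mem_cons, List.not_mem_nil, or_false] at y2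
  rcases y2 with h | h | h | h
  · rw [e (xG chevF4 F 47 1) h.symm]; exact x_mem (by decide) (by decide) _
  · rw [e (xG chevF4 F 44 1) h.symm]; exact x_mem (by decide) (by decide) _
  · rw [e (xG chevF4 F 47 1 * xG chevF4 F 44 1) h.symm]
    exact mul_mem (x_mem (by decide) (by decide) _) (x_mem (by decide) (by decide) _)
  · rw [e (xG chevF4 F 39 1 * xG chevF4 F 45 1) h.symm]
    exact mul_mem (x_mem (by decide) (by decide) _) (x_mem (by decide) (by decide) _)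

theorem count_cl : ∀ r : Rt chevF4, (r : ℕ) ∈ PP → 17 ≤
    (Finset.univ.filter fun s : Rt chevF4 => (s : ℕ) ∈ PP ∧ OT r s = []).card := by decide +kernel

theorem jobFA : JobFA := fun F _ _ _ => by
  have h := stB F
  have q2 : 2 ≤ Nat.card F := Finite.one_lt_card
  have hD : DF4 F = GS (xG chevF4 F) D10 := rfl
  have hA : AF4 F = GS (xG chevF4 F) A12 := rfl
  have c10 : ∀ l, Nm l → l.Nodup → l.length = 10 →
      Nat.card (GS (xG chevF4 F) l) = Nat.card F ^ 10 := fun l h1 h2 h3 => h3 ▸ h1.card h h2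
  refine ⟨ns F, H64.SG.syl_iff.2 (H64.SG.syl_UU chevF4 F), card_U F, q2,
    ⟨(GS_mono (by decide)).trans (U'_le h), (GS_mono (by decide)).trans (U'_le h)⟩,
    fun θ a => ⟨inv_D10 h a, inv_A12 h a⟩, fun u hu => cCD.2.2.1.sq h.toSt hu, ?_, ?_, ?_, ?_,
    fun g hg => ?_⟩
  · rw [hD, c10 _ (by decide +kernel) (by decide) rfl]
    exact lt_of_lt_of_le (by norm_num) (Nat.pow_le_pow_left q2 10)
  · rintro _ (rfl | rfl)
    · refine ⟨fun ζ h1 h2 => ?_, by rw [hD, cCD.cen h, c10 _ (by decide +kernel) (by decide) rfl]⟩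
      have := (cCD.cen h).le ⟨h1, h2⟩
      exact ⟨this, cCD.2.2.1.sq h.toSt this⟩
    · refine ⟨fun ζ h1 h2 => ?_, by rw [hA, cCA.cen h, c10 _ (by decide +kernel) (by decide) rfl]⟩
      have := (cCA.cen h).le ⟨h1, h2⟩
      exact ⟨GS_mono (by decide) this, (by decide +kernel : Cm A10 A10 []).sq h.toSt this⟩
  · refine H64.SG.gen_le_iff.2 fun r hr a => subset_closure ⟨x_mem_gen hr a, H64.SG.x_sq h.toSt r a, ?_⟩
    have h1 := H26.SGB.pow_le_card h (Finset.univ.filter fun s : Rt chevF4 =>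
      (s : ℕ) ∈ PP ∧ OT r s = []) (fun s hs => (pos_iff s).2 (Finset.mem_filter.1 hs).2.1)
      (K := Cz (xG chevF4 F r a) ⊓ UF4 F) fun s hs t => by
        have := (Finset.mem_filter.1 hs).2
        exact ⟨H64.SG.mem_Cz.2 (x_comm h.toSt ((pos_iff r).1 hr) this.1 this.2 _ _),
          x_mem_gen ((pos_iff s).2 this.1) t⟩
    have h2 := (Nat.pow_le_pow_right Nat.card_pos (count_cl r ((pos_iff r).1 hr))).trans h1
    have h3 := H18.SA.rel_mul_card (X := Cz (xG chevF4 F r a)) (A := UF4 F)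
    rw [card_U, show 24 = 7 + 17 from rfl, pow_add] at h3
    exact Nat.le_of_mul_le_mul_right ((Nat.mul_le_mul_left _ h2).trans h3.le)
      (Nat.pow_pos Nat.card_pos)
  · rw [eq_top_iff, ← (adF F).top]
    refine GG_le (x_mem_of_simple_neg h.toStN fun i t => ⟨subset_closure ⟨_, x_mem_gen (pos_simpleR i) t,
      1, Or.inl (one_mem _), by simp⟩, ?_⟩)
    obtain ⟨η, h1, h2⟩ := h.toStN.sgn_n i (simpleR i)
    refine subset_closure ⟨_, x_mem_gen (pos_simpleR i) (η * t), nn chevF4 (xG chevF4 F)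
      (chevF4.simple i) 1, ?_, ?_⟩
    · have : ∀ i : Fin chevF4.rank, (∀ r ∈ D10, chevF4.reflectRoot i r ∈ D10) ∨
          ∀ r ∈ A12, chevF4.reflectRoot i r ∈ A12 := by decide +kernel
      exact (this i).imp (n_mem_Ns h i) (n_mem_Ns h i)
    · have : ∀ i : Fin chevF4.rank, chevF4.reflectRoot i (chevF4.simple i) =
          chevF4.neg (chevF4.simple i) := by decide +kernel
      rw [(h2 _).1, ← mul_assoc, h1, one_mul, sperm_apply, sref_val, simpleR_val, this]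
  · obtain ⟨k, hk⟩ := cls F g hg
    refine ⟨cjs k⁻¹ (GS (xG chevF4 F) C18), fun u hu => ?_,
      ((isP_U F).to_le (GS_le_UU (by decide))).map _, ?_⟩
    · have := cC18.2.2.1.le_Cs h.toSt (H67.SA.mem_cjs.1 hu) _ hk
      rw [inv_inv, conj_mul, conj_mul, mul_left_inj, mul_right_inj] at this
      exact H64.SG.mem_Cz.2 this
    · rw [H67.SA.card_cjs, (by decide +kernel : Nm C18).card h (by decide)]
      exact Nat.pow_le_pow_right Nat.card_pos (by decide)

end H86.F4
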