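import Cfsg.Agent.H86.WRDef
import Cfsg.Agent.H86.F4Kit
import Cfsg.Agent.H64.SGK89

/-! STD-F4, wreath endgame: `JobW0`, `JobWU`, `JobW3`. -/

set_option autoImplicit false
set_option linter.unusedSectionVars false

namespace H86.WR

open H64.SG (O2 Syl Cz Cs Ns cjs Is2 Inv2 UF IsO2 fx mem_Cs mem_Cz mem_fx is2_of_sq)
open H67.SA (St cI cm mem_cjs conj_mem_cjs cm_eq_one)
open H59.SO Subgroup Function H98
open scoped commutatorElement

universe u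

section X

variable {X : Type} [Group X] [Finite X] {U D A R : Subgroup X} {q : ℕ}

theorem autOn_conj {u : X} (hu : u ∈ Ns U) : AutOn U fun a => u * a * u⁻¹ :=
  ⟨⟨fun _ ha => conj_mem_of_mem_normalizer hu ha, fun _ _ _ _ h => by simpa using h,
    fun a ha => ⟨u⁻¹ * a * u, conj_mem_of_mem_normalizer' hu ha, by simp [mul_assoc]⟩⟩,
    fun a _ b _ => conj_mul.symm⟩

theorem autOn_St {β : MulAut X} (hβ : β ∈ St U) : AutOn U β :=
  ⟨⟨fun a ha => (hβ a).1 ha, β.injective.injOn, fun a ha =>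
    ⟨β.symm a, (hβ _).2 (by simpa using ha), by simp⟩⟩, fun a _ b _ => map_mul β a b⟩

namespace FA

variable (h : FA U D A q)
include h

theorem leU (hR : R = D ∨ R = A) : R ≤ U := by
  rcases hR with rfl | rfl
  exacts [h.le.1.trans (commutator_le_self _), h.le.2.trans (commutator_le_self _)]

theorem invR (hR : R = D ∨ R = A) {θ : X → X} (a : AutOn U θ) : ∀ u ∈ R, θ u ∈ R := by
  rcases hR with rfl | rfl
  exacts [(h.inv θ a).1, (h.inv θ a).2]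

theorem leR (hR : R = D ∨ R = A) : R ≤ ⁅U, U⁆ := by
  rcases hR with rfl | rfl
  exacts [h.le.1, h.le.2]

theorem nor (hR : R = D ∨ R = A) : Ns U ≤ Ns R := fun _ hu => mem_normalizer_of_cj_le (by
  rintro _ ⟨a, ha, rfl⟩; exact h.invR hR (autOn_conj hu) a ha)

theorem st (hR : R = D ∨ R = A) : St U ≤ St R := fun _ hβ =>
  H67.SA.mem_St_of_finite (h.invR hR (autOn_St hβ))

theorem exD : ∃ y ∈ D, Inv2 y := by
  by_contra! k
  have := h.big
  rw [(eq_bot_iff_forall _).2 fun y hy => by_contra fun e => k y hy ⟨h.sq y hy, e⟩, card_bot] at this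
  omega

theorem abD : D ≤ Cs D := fun a ha b hb => by
  rw [← inv_eq_of_mul_eq_one_right (h.sq _ (mul_mem hb ha)), mul_inv_rev,
    inv_eq_of_mul_eq_one_right (h.sq a ha), inv_eq_of_mul_eq_one_right (h.sq b hb)]

theorem cenR (hR : R = D ∨ R = A) {z : X} (h1 : z ∈ U) (h2 : z ∈ Cs U) : z ∈ R :=
  ((h.cr R hR).1 z h1 (centralizer_le (h.leU hR) h2)).1

theorem exZ : ∃ z ∈ U, z ≠ 1 ∧ z ∈ Cs U := by
  obtain ⟨y, y1, y2⟩ := h.exD
  have : Nontrivial U := ⟨⟨⟨y, h.leU (.inl rfl) y1⟩, 1, fun e => y2.2 (congrArg Subtype.val e)⟩⟩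
  obtain ⟨⟨z, hz⟩, h2⟩ := (nontrivial_iff_exists_ne 1).1 h.syl.2.1.center_nontrivial
  exact ⟨z, z.2, fun e => h2 (Subtype.ext (Subtype.ext e)), fun a ha =>
    congrArg Subtype.val (mem_center_iff.1 hz ⟨a, ha⟩)⟩

end FA

end X

theorem jobW0 (hAB : JobAB.{u}) : JobW0.{u} := by
  intro X _ _ U D A q w G _ _ e t h e₁ e₂ c
  obtain ⟨y, y1, y2⟩ := w.exD
  refine w0 w.ns ⟨y, y2⟩ c h fun g f hf => ?_
  by_cases h0 : ∃ s, f s ≠ 1
  swap
  · push Not at h0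
    rintro _ ⟨s, rfl⟩; rw [h0]; exact one_mem _
  have h1 := (hAB X U D A q w G _ _ (h.cje g) (U.map f) ((map_le_range _ _).trans hf)
    (w.syl.2.1.map f)).1
  rw [← map_commutator, range_cje] at h1
  have h2 := top_of w.ns (N := (cjs g e.range).comap f) (fun a ha b => by
    rw [mem_comap, map_mul, map_mul, map_inv]
    exact conj_mem_of_mem_normalizer (range_cje (g := g) (e := e) ▸ (h.cje g).cz (hf ⟨b, rfl⟩)) ha)
    (h1 ⟨y, w.le.1 y1, rfl⟩) y2.2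
  rintro _ ⟨s, rfl⟩
  exact h2.ge (mem_top s)

theorem jobWU (hW0 : JobW0.{u}) (hSW : JobSW.{u}) : JobWU.{u} := by
  intro X _ _ U D A q w G _ _ e t h e₁ e₂ c
  have w0 := hW0 X U D A q w G e t h e₁ e₂ c
  have sw := hSW X U D A q w G e t h e₁ e₂ c w0
  have uf : UF (Ns (G12 e₁ e₂)) t := ⟨h.inv, t_mem c h.inv.1, fun g hg =>
    w0.ufs g (sw _ hg (isConj_iff.2 ⟨g, rfl⟩))⟩
  have tx : ∀ g, g * g = 1 → IsConj t (t * e g) := fun g hg =>
    isConj_iff.2 ⟨e₁ g, by rw [c.conj_t hg, h.comm]⟩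
  let V : Fin 3 → Subgroup X := ![U, D, A]
  have v1 : ∀ j, V j ≤ U ∧ U ≤ Ns (V j) := fun j => by
    fin_cases j
    exacts [⟨le_rfl, le_normalizer⟩, ⟨w.leU (.inl rfl), le_normalizer.trans (w.nor (.inl rfl))⟩,
      ⟨w.leU (.inr rfl), le_normalizer.trans (w.nor (.inr rfl))⟩]
  let S : Fin 3 → Set G := fun j => e '' {v | v * v = 1 ∧ v ∈ Ns (V j)}
  have s1 : ∀ j, ∀ p ∈ Ns (V j), ∀ u ∈ U, e (p * u * p⁻¹) ∈ closure (S j) := fun j p hp u hu => by
    have : closure {x | x ∈ U ∧ x * x = 1 ∧ (Cz x).relIndex U ≤ q ^ 7} ≤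
        (closure (S j)).comap (e.comp (MulAut.conj p).toMonoidHom) := (closure_le _).2 fun x hx =>
      subset_closure ⟨p * x * p⁻¹, ⟨by rw [conj_mul, hx.2.1]; simp,
        mul_mem (mul_mem hp ((v1 j).2 hx.1)) (inv_mem hp)⟩, rfl⟩
    exact this (w.cl hu)
  obtain ⟨z, -, z0, z1⟩ := w.exZ
  have key := H64.SG.jobK9 uf (Cs (G12 e₁ e₂)) e.range 0 (fun j => (V j).map e) S w0.odd
    (H64.SG.Cs_le_Ns _) (c.range_le.trans le_normalizer) h.range_le
    (c.range_le.trans fun a ha b hb => (hb a ha).symm) (fun j => map_mono (v1 j).1)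
    (map_le_range _ _) (w.syl.2.1.map e) (by
      rintro j _ ⟨v, hv, rfl⟩
      exact ⟨⟨v, rfl⟩, by rw [← map_mul, hv.1, map_one], map_mem_Ns hv.2, tx v hv.1⟩)
    (by rintro j _ ⟨u, hu, rfl⟩; simpa using s1 j 1 (one_mem _) u hu) (by
      rintro _ ⟨a, rfl⟩
      have : closure {g | ∃ u ∈ U, ∃ p, (p ∈ Ns D ∨ p ∈ Ns A) ∧ g = p * u * p⁻¹} ≤
          (closure (⋃ j, S j)).comap e := (closure_le _).2 (by
        rintro _ ⟨u, hu, p, hp | hp, rfl⟩
        · exact closure_mono (Set.subset_iUnion S 1) (s1 1 p hp u hu)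
        · exact closure_mono (Set.subset_iUnion S 2) (s1 2 p hp u hu))
      exact this (w.top.ge (mem_top a)))
    (fun j m m1 m2 => by
      fin_cases j
      · have := cM w.ns c h.toB1 w0 le_rfl (w.ct D (.inl rfl)) m1
          (centralizer_le (map_mono (w.leU (.inl rfl))) m2)
        exact ⟨fun k => map_mono (w.leU (.inl rfl)) (this.1 k), this.2⟩
      · exact cM w.ns c h.toB1 w0 le_rfl (w.ct D (.inl rfl)) m1 m2
      · exact cM w.ns c h.toB1 w0 le_rfl (w.ct A (.inr rfl)) m1 m2)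
    fun o o1 o2 => H64.SG.Cs_le_Ns _ (gen w.ns c z0 z1 o1 o2)
  exact ⟨⟨uf, c.range_le, w0.odd, tx⟩, w0.ne, w0.pm, w0.chg, w0.ufs, key 1, key 2, sw⟩

theorem jobW3 : JobW3.{u} := by
  intro X _ _ U D A q w G _ _ e t b e₁ e₂ c g y y1 y0
  have tt := b.inv.1
  have ti := b.inv_eq
  have yy := w.sq y y1
  have e1 : e₁ y * e₁ y = 1 := by rw [← map_mul, yy, map_one]
  have dd : e₁ y * t * (e₁ y * t) = e₁ y * e₂ y := by rw [← c.sw, ti]; group
  have d4 : Is2 (e₁ y * t) := H64.SG.Is2.of_pow (k := 1) (by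
    rw [pow_one, pow_two, dd]
    exact is2_of_sq (by rw [c.mul_mul, yy, map_one, map_one, mul_one]))
  have di : t * (e₁ y * t) * t⁻¹ = (e₁ y * t)⁻¹ := by
    rw [mul_inv_rev, ti, inv_eq_of_mul_eq_one_right e1, mul_assoc, mul_assoc, tt, mul_one]
  have dM : e₁ y * t ∈ Ns (G12 e₁ e₂) :=
    mul_mem (le_normalizer (mem_sup_left ⟨y, rfl⟩)) g.uf.mem
  have nsw : ∀ m ∈ Cz (e₁ y * t), m ∈ Ns e₁.range → m ∈ Ns e₂.range → cm m t = 1 ∧
      m * e₁ y * m⁻¹ = e₁ y ∧ m * e₂ y * m⁻¹ = e₂ y := fun m hm n1 n2 => by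
    have h1 : m * (e₁ y * t) * m⁻¹ = e₁ y * t := by rw [← mem_Cz.1 hm, mul_inv_cancel_right]
    have h2 := fix_both w.ns c n1 n2 (a := y) (b := y) (by rw [← dd, ← conj_mul, h1])
    refine ⟨?_, h2⟩
    rw [← conj_mul, h2.1, mul_right_inj] at h1
    rw [cm, h1, mul_inv_cancel]
  have s1 : cjs (e₁ y * t) e₁.range = e₂.range := (cj_cj _ _ _).symm.trans
    ((congrArg _ c.cjs_range).trans (cj_eq_self (c.G12_le_Ns' (mem_sup_left ⟨y, rfl⟩))))
  have s2 : cjs (e₁ y * t) e₂.range = e₁.range := (cj_cj _ _ _).symm.trans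
    ((congrArg _ (c.symm tt).cjs_range).trans (cj_eq_self (le_normalizer ⟨y, rfl⟩)))
  have ec : ∀ u ∈ Cz y, e u ∈ Cz (e₁ y * t) := fun u hu => mem_Cz.2 (by
    rw [mul_assoc, b.comm u, ← mul_assoc, ← mul_assoc, c.diag, ← mul_assoc, ← map_mul, mem_Cz.1 hu,
      map_mul, mul_assoc (e₁ u), c.comm y u, ← mul_assoc])
  generalize e₁ y * t = d at d4 di dM nsw s1 s2 ec
  have tN : t ∈ Ns (zpowers d) := mem_normalizer_of_cj_le (by
    rintro _ ⟨a, ha, rfl⟩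
    obtain ⟨j, rfl⟩ := mem_zpowers_iff.1 ha
    change t * _ * t⁻¹ ∈ _
    rw [← conj_zpow, di]
    exact zpow_mem (inv_mem (mem_zpowers _)) j)
  have cz : Cs (zpowers d) = Cz d := by
    ext m; rw [H64.SG.mem_Cs_zpowers, mem_Cz]
  have cN : Cz d ≤ Ns (zpowers d) := cz ▸ H64.SG.Cs_le_Ns _
  have tC : t ∈ Ns (Cz d) := cz ▸ normalizer_le_normalizer_centralizer _ tN
  have dec : ∀ h ∈ Cz d ⊔ zpowers t, h ∈ Cz d ∨ h * t ∈ Cz d := fun h hh =>
    (H67.SA.mem_sup_zp tC tt).1 hh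
  have hodd : ∀ h ∈ Cz d ⊔ zpowers t, Odd (orderOf h) → h ∈ Cz d := fun h hh ho => by
    refine H64.SG.mem_of_sq_mem ?_ ho
    rcases dec h hh with k | k
    · exact mul_mem k k
    · have := mul_mem k (conj_mem_of_mem_normalizer tC k)
      rwa [show h * t * (t * (h * t) * t⁻¹) = h * (t * t) * h by group, tt, mul_one] at this
  have hc : ∀ m ∈ Cz d, m ∈ Ns (G12 e₁ e₂) → cm m t ∈ zpowers d := fun m hm mM => by
    rcases g.pm m mM with h1 | h1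
    · rw [(nsw m hm h1.1 h1.2).1]; exact one_mem _
    · have h2 := (nsw (m * d) (mul_mem hm (mem_Cz.2 rfl))
        (cj_eq_self_iff.1 (by rw [← cj_cj]; exact (congrArg (cjs m) s1).trans h1.2))
        (cj_eq_self_iff.1 (by rw [← cj_cj]; exact (congrArg (cjs m) s2).trans h1.1))).1
      have h3 : cm d t ∈ zpowers d := by
        rw [show cm d t = d * (t * d * t⁻¹)⁻¹ by unfold cm; group, di]
        exact mul_mem (mem_zpowers _) (inv_mem (inv_mem (mem_zpowers _)))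
      rw [show cm (m * d) t = m * cm d t * m⁻¹ * cm m t by unfold cm; group,
        mul_eq_one_iff_inv_eq] at h2
      rw [← h2]
      exact inv_mem (conj_mem_of_mem_normalizer (cN hm) h3)
  have eM : ∀ u, e u ∈ Ns (G12 e₁ e₂) := fun u => le_normalizer (g.le ⟨u, rfl⟩)
  have eH : ∀ u ∈ Cz y, e u ∈ Ns (Cz d ⊔ zpowers t) := fun u hu =>
    le_normalizer (mem_sup_left (ec u hu))
  have Dy : D ≤ Cz y := fun u hu => mem_Cz.2 (w.abD hu y y1)
  refine le_trans le_sup_left (H67.SA.jobK10 g.uf (IsConj.refl t) g.uf.mem (Cz d ⊔ zpowers t)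
    (zpowers d) (mem_sup_right (mem_zpowers t)) (le_sup_of_le_left (zpowers_le.2 (mem_Cz.2 rfl)))
    (sup_le cN (zpowers_le.2 tN)) d4.zpowers (fun h h1 h2 => cz ▸ hodd h h1 h2)
    (fun m hm mM => ?_) (D.map e) ?_ (by rw [closure_eq]; exact g.cuD) fun O o1 o2 o3 v hv o ho => ?_)
  · rcases dec m hm with k | k
    · exact hc m k mM
    · exact H67.SA.cm_mul_t (t := t) m ▸ hc _ k (mul_mem mM g.uf.mem)
  · rintro _ ⟨u, hu, rfl⟩
    exact ⟨by rw [← map_mul, w.sq u hu, map_one], eM u, eH u (Dy hu), b.comm u, g.tx u (w.sq u hu)⟩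
  · obtain ⟨u, hu, rfl⟩ := hv
    have od := fun a (ha : a ∈ O) => H64.SG.odd_orderOf_of_mem o2 ha
    have fx : ∀ a ∈ O, a * e₁ y * a⁻¹ = e₁ y ∧ a * e₂ y * a⁻¹ = e₂ y := fun a ha =>
      (nsw a (hodd a (o1 ha).1 (od a ha)) (odd_nor g.toW0 (o1 ha).2 (od a ha)).1
        (odd_nor g.toW0 (o1 ha).2 (od a ha)).2).2
    have key : ∀ f₁ f₂ : X →* G, CW e t f₁ f₂ → (∀ a ∈ O, a * f₁ y * a⁻¹ = f₁ y) →
        ∀ a b, f₁ a * f₂ b ∈ O → a = 1 := fun f₁ f₂ c' hf a b hab => by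
      let O₁ : Subgroup X :=
        { carrier := {a | ∃ b, f₁ a * f₂ b ∈ O}
          one_mem' := ⟨1, by simp⟩
          mul_mem' := fun ⟨b, h1⟩ ⟨b', h2⟩ => ⟨b * b', c'.mul_mul _ _ _ _ ▸ mul_mem h1 h2⟩
          inv_mem' := fun {a} ⟨b, h1⟩ => ⟨b⁻¹, by
            rw [map_inv, map_inv, ← mul_inv_rev, ← c'.comm]; exact inv_mem h1⟩ }
      refine mem_bot.1 ((w.oc y ⟨yy, y0⟩ O₁ (fun a ⟨b, h1⟩ => mem_Cz.2 ?_)
        (H64.SG.odd_card_of_forall fun a ⟨b, h1⟩ => ?_) fun p hp => mem_normalizer_of_cj_le ?_).le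
        ⟨b, hab⟩)
      · exact (mul_inv_eq_iff_eq_mul.1 (((c'.ind₁ a b).eq_iff c'.inj).1 (hf _ h1))).symm
      · exact H64.SG.odd_orderOf_of_pow (od _ h1) (w.ns.cen _ (by
          rw [map_pow]; exact (c'.ind₁ a b).pow_eq_one c'.inj (pow_orderOf_eq_one _)))
      · rintro _ ⟨a, ⟨b, h1⟩, rfl⟩
        refine ⟨p * b * p⁻¹, ?_⟩
        have := conj_mem_of_mem_normalizer (o3 ⟨eH p hp, eM p⟩) h1
        rwa [← conj_mul, ind_e₁ c', ind_e₂ c'] at this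
    have h1 : cm o (e u) ∈ O := by
      rw [show cm o (e u) = o * (e u * o⁻¹ * (e u)⁻¹) by unfold cm; group]
      exact mul_mem ho (conj_mem_of_mem_normalizer (o3 ⟨eH u (Dy hu), eM u⟩) (inv_mem ho))
    obtain ⟨a, a', h2⟩ := c.mem_G12.1 (mul_mem (conj_mem_of_mem_normalizer (o1 ho).2
      (g.le ⟨u, rfl⟩)) (inv_mem (g.le ⟨u, rfl⟩)) : cm o (e u) ∈ G12 e₁ e₂)
    rw [cm, h2] at h1
    rw [key e₁ e₂ c (fun a ha => (fx a ha).1) a a' h1, key e₂ e₁ (c.symm tt)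
      (fun a ha => (fx a ha).2) a' a (c.comm a a' ▸ h1), map_one, map_one, mul_one] at h2
    exact mem_Cz.2 (cm_eq_one.1 h2).symm

end H86.WR
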