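import Cfsg.Agent.H86.NUA
import Cfsg.Agent.H86.F4FA
import Cfsg.Agent.H86.WRWU

/-! STD-F4, `N(U*) ≤ M`: transfer between `U*` and `U'`. -/

set_option autoImplicit false
set_option linter.unusedSectionVars false

namespace H86.NU

open H98 Subgroup H64.SG
open H67.SA (cm cm_eq_one)
open H59.SO (AutOn)
open H86.WR (XF UF4 autOn_conj)
open H64.SF (Q)
open scoped commutatorElement

universe u

variable {F : Type} [Field F] [Finite F] [CharP F 2] {Y : Type} [Group Y] [Finite Y] {G : Type u}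
  [Group G] [Finite G] {ι : XF F →* Y} {τ : MulAut Y} {U' A : Subgroup Y} {e : XF F →* G} {t : G}
  {G₁ : Subgroup G} {c : Cov Y G₁} {Us : Subgroup G} {g a b m n : G} {u : Y}

open Classical in
/-- The automorphism of `U'` induced by an element of `N(U*)`. -/
noncomputable def th (c : Cov Y G₁) (Us : Subgroup G) (n : G) (u : Y) : Y :=
  if h : ∃ g ∈ Us, c.pi g = u then c.pi (n * h.choose * n⁻¹) else u

/-- The subgroup of `U*` over `A`. -/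
def up (c : Cov Y G₁) (Us : Subgroup G) (A : Subgroup Y) : Subgroup G := Us ⊓ c.pre A

/-- `A` is invariant under the automorphisms of `U'`. -/
def Ch (U' A : Subgroup Y) : Prop := ∀ θ, AutOn U' θ → ∀ u ∈ A, θ u ∈ A

theorem Ch.conj (h : Ch U' A) {y : Y} (hy : y ∈ Ns U') (hu : u ∈ A) : y * u * y⁻¹ ∈ A :=
  h _ (autOn_conj hy) u hu

namespace NH

variable (N : NH ι τ U' e t G₁ c Us)
include N

theorem is2 (hg : g ∈ Us) : Is2 g := isPGroup_iff_is2.1 N.twoU g hg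

theorem pi_mem (hg : g ∈ Us) : c.pi g ∈ U' := N.im ▸ c.pi_mem_im hg (N.leU hg)

theorem mem_Us (h1 : g ∈ G₁) (h2 : Is2 g) (h3 : c.pi g ∈ U') : g ∈ Us :=
  c.mem_of_pi_mem_im N.twoU h1 h2 (N.im.symm ▸ h3)

theorem ex (hu : u ∈ U') : ∃ g ∈ Us, c.pi g = u := by
  obtain ⟨l, h1, -, h2⟩ := c.mem_im.1 (N.im.symm ▸ hu)
  exact ⟨l, h1, h2⟩

theorem pi_inj (ha : a ∈ Us) (hb : b ∈ Us) (h : c.pi a = c.pi b) : a = b :=
  c.eq_of_pi_eq (N.leU ha) (N.leU hb) (N.is2 ha) (N.is2 hb) h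

theorem th_pi (n : G) (hg : g ∈ Us) : th c Us n (c.pi g) = c.pi (n * g * n⁻¹) := by
  have h : ∃ g' ∈ Us, c.pi g' = c.pi g := ⟨g, hg, rfl⟩
  rw [th, dif_pos h, N.pi_inj h.choose_spec.1 hg h.choose_spec.2]

theorem th_aut (hn : n ∈ Ns Us) : AutOn U' (th c Us n) := by
  have k : ∀ {g}, g ∈ Us → n * g * n⁻¹ ∈ Us := conj_mem_of_mem_normalizer hn
  refine ⟨⟨fun u hu => ?_, fun u hu v hv h => ?_, fun u hu => ?_⟩, fun u hu v hv => ?_⟩
  · obtain ⟨g, hg, rfl⟩ := N.ex hu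
    rw [N.th_pi n hg]; exact N.pi_mem (k hg)
  · obtain ⟨a, ha, rfl⟩ := N.ex hu
    obtain ⟨b, hb, rfl⟩ := N.ex hv
    rw [N.th_pi n ha, N.th_pi n hb] at h
    have := N.pi_inj (k ha) (k hb) h
    rw [mul_left_inj, mul_right_inj] at this
    rw [this]
  · obtain ⟨g, hg, rfl⟩ := N.ex hu
    have := conj_mem_of_mem_normalizer' hn hg
    exact ⟨_, N.pi_mem this, by rw [N.th_pi n this]; congr 1; group⟩
  · obtain ⟨a, ha, rfl⟩ := N.ex hu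
    obtain ⟨b, hb, rfl⟩ := N.ex hv
    rw [← c.pi_mul _ (N.leU ha) _ (N.leU hb), N.th_pi n ha, N.th_pi n hb, N.th_pi n (mul_mem ha hb),
      ← c.pi_mul _ (N.leU (k ha)) _ (N.leU (k hb)), conj_mul]

theorem mem_up : g ∈ up c Us A ↔ g ∈ Us ∧ c.pi g ∈ A :=
  ⟨fun h => ⟨h.1, (c.mem_pre.1 h.2).2⟩, fun h => ⟨h.1, c.mem_pre.2 ⟨N.leU h.1, h.2⟩⟩⟩

theorem up_nor (h : Ch U' A) : Ns Us ≤ Ns (up c Us A) := fun n hn =>
  mem_normalizer_of_cj_le (by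
    rintro _ ⟨g, hg, rfl⟩
    obtain ⟨h1, h2⟩ := N.mem_up.1 hg
    exact N.mem_up.2 ⟨conj_mem_of_mem_normalizer hn h1, N.th_pi n h1 ▸ h _ (N.th_aut hn) _ h2⟩)

theorem mem_Ns (hm : m ∈ Ns G₁) (h : ∀ u ∈ U', c.ac m u ∈ U') : m ∈ Ns Us :=
  mem_normalizer_of_cj_le (by
    rintro _ ⟨g, hg, rfl⟩
    exact N.mem_Us (conj_mem_of_mem_normalizer hm (N.leU hg)) ((N.is2 hg).conj m)
      (c.ac_pi _ hm _ (N.leU hg) ▸ h _ (N.pi_mem hg)))

theorem mem_Ns' (hm : m ∈ G₁) (h : c.pi m ∈ Ns U') : m ∈ Ns Us :=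
  N.mem_Ns (le_normalizer hm) fun _ hu => by
    rw [c.ac_of_mem hm]; exact conj_mem_of_mem_normalizer h hu

theorem tU (h : ∀ u ∈ U', τ u ∈ U') : t ∈ Ns Us := N.mem_Ns N.tn (N.act.symm ▸ h)

theorem eG (v : XF F) : e v ∈ G₁ := N.le ⟨v, rfl⟩

theorem eU {v : XF F} (h2 : Is2 v) (h : ι v ∈ U') : e v ∈ Us :=
  N.mem_Us (N.eG v) (h2.map e) (N.pi v ▸ h)

theorem eU' (h : ∀ v ∈ UF4 F, ι v ∈ U') : (UF4 F).map e ≤ Us := by
  rintro _ ⟨v, hv, rfl⟩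
  exact N.eU (isPGroup_iff_is2.1 (F4.isP_U F) v hv) (h v hv)

theorem cs_le (h : ∀ v ∈ UF4 F, ι v ∈ U') : Cs Us ≤ Ns G₁ :=
  (centralizer_le ((map_mono (F4.GS_le_UU (by decide +kernel))).trans (N.eU' h))).trans N.cuS

theorem up_comm : up c Us ⁅U', U'⁆ ≤ ⁅Us, Us⁆ := fun g hg => by
  obtain ⟨h1, h2⟩ := N.mem_up.1 hg
  have l := commutator_le_self Us
  refine c.mem_of_pi_mem_im (N.twoU.to_le l) (N.leU h1) (N.is2 h1) (commutator_le.2
    (fun u hu v hv => ?_) h2)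
  obtain ⟨a, ha, rfl⟩ := N.ex hu
  obtain ⟨b, hb, rfl⟩ := N.ex hv
  have := c.pi_mem_im (commutator_mem_commutator ha hb) (N.leU (l (commutator_mem_commutator ha hb)))
  rwa [commutatorElement_def, c.pi_mul _ (N.leU (mul_mem (mul_mem ha hb) (inv_mem ha))) _
    (N.leU (inv_mem hb)), c.pi_conj (N.leU ha) (N.leU hb), c.pi_inv (N.leU hb)] at this

theorem cm_up (hn : n ∈ Ns Us) (hg : g ∈ Us) :
    cm n g ∈ up c Us A ↔ c.pi (n * g * n⁻¹) * (c.pi g)⁻¹ ∈ A := by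
  have k := conj_mem_of_mem_normalizer hn hg
  rw [N.mem_up, cm, c.pi_mul _ (N.leU k) _ (N.leU (inv_mem hg)), c.pi_inv (N.leU hg),
    and_iff_right (mul_mem k (inv_mem hg))]

theorem iota_inj : Function.Injective ι := (injective_iff_map_eq_one _).2 fun v hv =>
  (F4.ns F).eq_one fun w => N.inj (by
    rw [map_mul, map_mul, c.ker_cen _ (N.eG v) (N.pi v ▸ hv) _ (N.eG w)])

/-- The reduction to a statement on the automorphisms of `U'`. -/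
theorem le_of_flag {W₁ W₂ : Subgroup Y} (hτ : ∀ u ∈ U', τ u ∈ U') (hι : ∀ v ∈ UF4 F, ι v ∈ U')
    (l2 : W₂ ≤ ⁅U', U'⁆) (i1 : Ch U' W₁) (i2 : Ch U' W₂)
    (h : ∀ θ, AutOn U' θ → (∃ m, Odd m ∧ ∀ u ∈ U', θ^[m] u = u) → (∀ u ∈ U', τ (θ (τ (θ u))) = u) →
      ∃ y ∈ Ns U', (∀ u ∈ U', y * θ u * y⁻¹ * u⁻¹ ∈ W₁) ∧
        ∀ u ∈ U', u ∈ W₁ → y * θ u * y⁻¹ * u⁻¹ ∈ W₂) : Ns Us ≤ Ns G₁ := by
  have ht := N.tU hτ
  refine le_of_inv N.uf ht fun k hk ho hi => ?_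
  have k1 : ∀ {g}, g ∈ Us → k * g * k⁻¹ ∈ Us := conj_mem_of_mem_normalizer hk
  have k2 : ∀ {g}, g ∈ Us → τ (c.pi g) = c.pi (t * g * t⁻¹) := fun hg => by
    rw [c.ac_pi _ N.tn _ (N.leU hg), N.act]
  obtain ⟨y, hy, h1, h2⟩ := h _ (N.th_aut hk) ⟨orderOf k, ho, fun u hu => by
    obtain ⟨g, hg, rfl⟩ := N.ex hu
    have : ∀ j : ℕ, (th c Us k)^[j] (c.pi g) = c.pi (k ^ j * g * (k ^ j)⁻¹) := fun j => by
      induction j with
      | zero => simp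
      | succ j ih =>
        rw [Function.iterate_succ_apply', ih,
          N.th_pi k (conj_mem_of_mem_normalizer (pow_mem hk j) hg), pow_succ']
        congr 1; group
    rw [this, pow_orderOf_eq_one]; simp⟩ fun u hu => by
      obtain ⟨g, hg, rfl⟩ := N.ex hu
      have k3 := conj_mem_of_mem_normalizer ht (k1 hg)
      rw [N.th_pi k hg, k2 (k1 hg), N.th_pi k k3, k2 (k1 k3)]
      have : t * k * t * k = 1 := by
        rw [show t * k * t = t * k * t⁻¹ by rw [← mul_eq_one_iff_eq_inv.1 N.inv.1], hi,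
          inv_mul_cancel]
      rw [show t * (k * (t * (k * g * k⁻¹) * t⁻¹) * k⁻¹) * t⁻¹ =
        t * k * t * k * g * (t * k * t * k)⁻¹ by group, this]
      simp
  obtain ⟨l, hl, rfl⟩ := c.surj y
  have l1 := mul_mem (N.mem_Ns' hl hy) hk
  have k4 : ∀ {g}, g ∈ Us → c.pi (l * k * g * (l * k)⁻¹) =
      c.pi l * th c Us k (c.pi g) * (c.pi l)⁻¹ := fun hg => by
    rw [N.th_pi k hg, ← c.pi_conj hl (N.leU (k1 hg))]; congr 1; group
  refine (mul_mem_cancel_left (le_normalizer hl)).1 (mem_of_flag N.uf ht N.twoU (N.cs_le hι)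
    (W₁ := up c Us W₁) (W₂ := up c Us W₂) inf_le_left (le_trans (fun g hg => ?_) N.up_comm)
    (N.up_nor i1) (N.up_nor i2) l1 (fun s hs => ?_) fun s hs => ?_)
  · exact N.mem_up.2 ⟨hg.1, l2 (N.mem_up.1 hg).2⟩
  · rw [N.cm_up l1 hs, k4 hs]; exact h1 _ (N.pi_mem hs)
  · rw [N.cm_up l1 hs.1, k4 hs.1]; exact h2 _ (N.pi_mem hs.1) (N.mem_up.1 hs).2

end NH

end H86.NU
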