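import Cfsg.Agent.H86.NUT0

/-! STD-F4: the root group datum of type `F₄` of `²E₆(q)`. -/

set_option autoImplicit false
set_option linter.unusedSectionVars false

namespace H86.NT

open Cfsg.Lie H63 H64 H65 H98 Subgroup
open H64.SG (Cs Ns Cz UU Is2 x_mem_gen)
open H64.SF (x n S L ip ad rf Qx TY Z)
open H46.SF
open H67.SA (cm cm_eq_one)
open H68 (rhoE6)
open H86.F4 (PP mem_PP pos_iff R)
open H86.NU (posE)

variable {F K : Type} [Field F] [Finite F] [CharP F 2] [Field K] [Fintype K] [CharP K 2]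
  (X : Qx F K) {r s : ℕ}

local notation "Y" => twistedE6 K (Nat.card F)
local notation "xE" => xG chevE6 K

theorem adE : Ad chevE6 xE := H64.SG.ad chevE6 K

theorem fixd (g : Y) : gE K (mapG chevE6 (X.σ : K →+* K) (jT X g)) = jT X g :=
  (mem_range_inc X.hq X.hK X.hf).1 ⟨g, rfl⟩

theorem yP_eq' (h : S r) {u v : K × K} (e : yP K r u = yP K r v) : u = v := by
  have := yP_inj h (a := u + v) (by
    rw [← yP_add h, e, yP_add h, show v + v = (0, 0) from Prod.ext (CharTwo.add_self_eq_zero _)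
      (CharTwo.add_self_eq_zero _), yP, xE_zero, xE_zero, one_mul])
  exact Prod.ext (CharTwo.add_eq_zero.1 (congrArg Prod.fst this))
    (CharTwo.add_eq_zero.1 (congrArg Prod.snd this))

variable {X}

theorem fixS (h : S r) {g : Y} {a b : K} (e : jT X g = xE (p1 r) a * xE (p2 r) b) : g = yQ X r a := by
  have := fixd X g
  rw [e, map_mul, mapG_xG, mapG_xG] at this
  have := congrArg Prod.snd (yP_eq' h (v := (a, b)) ((gE_yP h (X.σ a, X.σ b)).symm.trans this))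
  exact jT_inj X (by rw [jT_yQ X h, e, ← show X.σ a = b from this]; rfl)

theorem fixL (h : L r) {g : Y} {a : K} (e : jT X g = xE (o1 r) a) :
    ∃ c, X.φ c = a ∧ g = X.ιT (x F r c) := by
  have h1 := (o_facts r h.1).1
  have := fixd X g
  rw [e, mapG_xG, gE_x h1, show rhoE6 (o1 r) = o1 r from o2_of_long h.2] at this
  obtain ⟨c, rfl⟩ := (X.hφ a).1 (CharTwo.add_eq_zero.1 ((adE.toStB.eq_zero_of_x_eq_one ⟨_, h1⟩)
    (by rw [xE_add, this, ← xE_add, CharTwo.add_self_eq_zero, xE_zero])))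
  exact ⟨c, rfl, jT_inj X (by rw [jT_x X h.1, iE_L h, e])⟩

variable (X)

theorem jL (h : L r) (c : F) : jT X (X.ιT (x F r c)) = xE (o1 r) (X.φ c) := by
  rw [jT_x X h.1, iE_L h]

theorem jS (h : S r) (a : K) : jT X (yQ X r a) = xE (p1 r) a * xE (p2 r) (X.σ a) := jT_yQ X h a

theorem ty : ∃ η, TY X.ιT X.τT X.φ X.σ η (yQ X) := (exists_eta X).imp fun _ => tyQ X

/-- The root subgroups. -/
noncomputable def XT (r : Rt chevF4) : Subgroup Y :=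
  if sh r then closure (Set.range (yQ X r)) else (Z F r).map X.ιT

/-- The torus. -/
noncomputable def HT : Subgroup Y := (HH chevE6 xE).comap (jT X)

variable {X}

theorem mem_S {r : Rt chevF4} (h : sh r = true) {g : Y} : g ∈ XT X r ↔ ∃ a, g = yQ X r a := by
  obtain ⟨η, T⟩ := ty X
  have k := T.add r ⟨r.2, h⟩
  have k0 : yQ X r 0 = 1 := by simpa using k 0 0
  rw [XT, if_pos h]
  refine ⟨fun hg => ?_, by rintro ⟨a, rfl⟩; exact subset_closure ⟨a, rfl⟩⟩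
  induction hg using closure_induction with
  | mem g hg => exact hg.imp fun _ => Eq.symm
  | one => exact ⟨0, k0.symm⟩
  | mul a b _ _ ha hb => obtain ⟨a, rfl⟩ := ha; obtain ⟨b, rfl⟩ := hb; exact ⟨_, k a b⟩
  | inv a _ ha =>
    obtain ⟨a, rfl⟩ := ha
    exact ⟨-a, inv_eq_of_mul_eq_one_right (by rw [k, add_neg_cancel, k0])⟩

theorem mem_L {r : Rt chevF4} (h : sh r = false) {g : Y} :
    g ∈ XT X r ↔ ∃ c, g = X.ιT (x F r c) := by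
  rw [XT, if_neg (by simp [h])]
  exact ⟨by rintro ⟨u, hu, rfl⟩; obtain ⟨c, rfl⟩ := (SF.mem_Z r.2).1 hu; exact ⟨c, rfl⟩,
    by rintro ⟨c, rfl⟩; exact mem_map_of_mem _ ((SF.mem_Z r.2).2 ⟨c, rfl⟩)⟩

theorem y_mem (h : S r) (a : K) : yQ X r a ∈ XT X ⟨r, h.1⟩ := (mem_S h.2).2 ⟨a, rfl⟩

theorem i_mem (h : r < 48) (c : F) : X.ιT (x F r c) ∈ XT X ⟨r, h⟩ := by
  cases e : sh r
  · exact (mem_L e).2 ⟨c, rfl⟩
  · obtain ⟨η, T⟩ := ty X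
    exact T.yx r ⟨h, e⟩ c ▸ y_mem ⟨h, e⟩ _

theorem j_mem {r : Rt chevF4} {g : Y} (hg : g ∈ XT X r) :
    ∃ a b, jT X g = xE (p1 r) a * xE (p2 r) b := by
  cases e : sh r
  · obtain ⟨c, rfl⟩ := (mem_L e).1 hg
    exact ⟨X.φ c, 0, by rw [jL X ⟨r.2, e⟩, xE_zero, mul_one, ((tE r r.2).2.2.2.1 e).1]⟩
  · obtain ⟨a, rfl⟩ := (mem_S e).1 hg
    exact ⟨_, _, jS X ⟨r.2, e⟩ a⟩

theorem mem_of_j {r : Rt chevF4} {g : Y} {a b : K} (h : jT X g = xE (p1 r) a * xE (p2 r) b) :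
    g ∈ XT X r := by
  cases e : sh r
  · rw [((tE r r.2).2.2.2.1 e).1, ((tE r r.2).2.2.2.1 e).2, ← xE_add] at h
    obtain ⟨c, -, rfl⟩ := fixL ⟨r.2, e⟩ h
    exact i_mem r.2 c
  · exact fixS ⟨r.2, e⟩ h ▸ y_mem ⟨r.2, e⟩ a

variable (X) in
theorem exists_hT (hs : s < 48) {l : K} (hl : l ≠ 0) : ∃ g ∈ HT X,
    jT X g = hh chevE6 xE (p1 s) l * hh chevE6 xE (p2 s) (X.σ l) := by
  obtain ⟨⟨h1, h2, h3, h4⟩, -⟩ := tE s hs
  have k : ∀ ρ < 72, ∀ a, gE K (mapG chevE6 (X.σ : K →+* K) (hh chevE6 xE ρ a)) =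
      hh chevE6 xE (rhoE6 ρ) (X.σ a) := fun ρ hρ a => by
    simp only [hh_eq, nn_eq, map_mul, mapG_xG, gE_x hρ, gE_x (rho_neg ρ hρ).2, (rho_neg ρ hρ).1,
      map_neg, map_inv₀, map_one, RingHom.coe_coe]
  have m1 := hh_mem_HH chevE6 xE ⟨_, h1⟩ hl
  have m2 := hh_mem_HH chevE6 xE ⟨_, h2⟩ ((map_ne_zero X.σ).2 hl)
  obtain ⟨g, hg⟩ := (mem_range_inc X.hq X.hK X.hf).2 (show gE K (mapG chevE6 (X.σ : K →+* K)
    (hh chevE6 xE (p1 s) l * hh chevE6 xE (p2 s) (X.σ l))) = _ by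
      rw [map_mul, map_mul, k _ h1, k _ h2, h3, h4, ss, HH_comm adE m1 m2])
  exact ⟨g, mem_comap.2 (hg ▸ mul_mem m1 m2), hg⟩

theorem hT_conj (hs : s < 48) {l : K} (hl : l ≠ 0) {g : Y}
    (hg : jT X g = hh chevE6 xE (p1 s) l * hh chevE6 xE (p2 s) (X.σ l)) {ρ : ℕ} (h : ρ < 72) (a : K) :
    jT X g * xE ρ a * (jT X g)⁻¹ =
      xE ρ (l ^ chevE6.pairing (p1 s) ρ * X.σ l ^ chevE6.pairing (p2 s) ρ * a) := by
  obtain ⟨⟨h1, h2, -⟩, -⟩ := tE s hs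
  rw [mul_assoc (l ^ _), ← adE.toStN.hh_conj ⟨_, h1⟩ ⟨_, h⟩ hl,
    ← adE.toStN.hh_conj ⟨_, h2⟩ ⟨_, h⟩ ((map_ne_zero X.σ).2 hl), hg]
  group

theorem hT_S (hs : s < 48) {l : K} (hl : l ≠ 0) {g : Y}
    (hg : jT X g = hh chevE6 xE (p1 s) l * hh chevE6 xE (p2 s) (X.σ l)) (h : S r) (a : K) :
    g * yQ X r a * g⁻¹ =
      yQ X r (l ^ chevE6.pairing (p1 s) (p1 r) * X.σ l ^ chevE6.pairing (p2 s) (p1 r) * a) :=
  fixS h (by
    rw [map_mul, map_mul, map_inv, jS X h, ← conj_mul, hT_conj hs hl hg (tE r h.1).1.1,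
      hT_conj hs hl hg (tE r h.1).1.2.1])

theorem comm_XT {a b : Rt chevF4} (ha : (a : ℕ) ∈ PP) (hb : (b : ℕ) ∈ PP) {A : Subgroup Y}
    (hA : ∀ c : Rt chevF4, (c : ℕ) ∈ O3 a b → XT X c ≤ A) {u v : Y} (hu : u ∈ XT X a)
    (hv : v ∈ XT X b) : cm u v ∈ A := by
  obtain ⟨η, T⟩ := ty X
  have k1 : ∀ {a b : Rt chevF4}, (∀ c : Rt chevF4, (c : ℕ) ∈ O3 a b → XT X c ≤ A) →
      ∀ h : ad a b < 48, XT X ⟨_, h⟩ ≤ A := fun hA h => hA _ (by simp [O3, h])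
  have k : ∀ {a b : Rt chevF4}, sh a = true → sh b = false →
      (∀ c : Rt chevF4, (c : ℕ) ∈ O3 a b → XT X c ≤ A) → ∀ u c, cm (yQ X a u) (X.ιT (x F b c)) ∈ A :=
    fun {a b} e1 e2 hA u c => by
      rcases lt_or_ge (ip a b) 0 with e | e
      · obtain ⟨m, hm⟩ := (X.hφ (u * X.σ u)).1 (by simp [ss, mul_comm])
        obtain ⟨l1, l2, l3, -⟩ := SF.ad_lt2 a a.2 b b.2 e1 e2 e
        rw [T.cl a b ⟨a.2, e1⟩ ⟨b.2, e2⟩ e u c m hm]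
        exact mul_mem (k1 hA l1 (y_mem ⟨l1, l3⟩ _)) (hA ⟨_, l2⟩ (by simp [O3, l2]) (i_mem l2 _))
      · rw [cm_eq_one.2 (T.cp a ⟨a.2, e1⟩ b (SF.mem_lY.2 ⟨b.2, by rw [e1, e2]; simp; omega⟩) u c)]
        exact one_mem _
  have t1 := (tO a ha b hb).1
  cases e1 : sh a <;> cases e2 : sh b
  · obtain ⟨c, rfl⟩ := (mem_L e1).1 hu
    obtain ⟨d, rfl⟩ := (mem_L e2).1 hv
    rw [cm, ← map_inv, ← map_inv, ← map_mul, ← map_mul, ← map_mul]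
    rcases lt_or_ge (ip a b) 0 with e | e
    · have l1 := ((SF.ad_lt a a.2 b b.2).1 ⟨e1.trans e2.symm, e, t1⟩).1
      rw [← cm, SF.x_c1 a.2 b.2 (e1.trans e2.symm) e t1 c d]
      exact k1 hA l1 (i_mem l1 _)
    · rw [SF.x_c0 a.2 b.2 e]; simp
  · obtain ⟨c, rfl⟩ := (mem_L e1).1 hu
    obtain ⟨d, rfl⟩ := (mem_S e2).1 hv
    simpa [cm, mul_assoc] using inv_mem (k e2 e1 (fun c hc => hA c (O3_comm ha hb hc)) d c)
  · obtain ⟨c, rfl⟩ := (mem_S e1).1 hu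
    obtain ⟨d, rfl⟩ := (mem_L e2).1 hv
    exact k e1 e2 hA c d
  obtain ⟨c, rfl⟩ := (mem_S e1).1 hu
  obtain ⟨d, rfl⟩ := (mem_S e2).1 hv
  rcases tI a ha b hb e1 e2 with e | e | e | e
  · rw [← e, cm_eq_one.2 (by
      rw [T.add a ⟨a.2, e1⟩, T.add a ⟨a.2, e1⟩, add_comm])]
    exact one_mem _
  · rw [cm_eq_one.2 (T.c60 a b ⟨a.2, e1⟩ ⟨b.2, e2⟩ e c d)]; exact one_mem _
  · obtain ⟨m, hm⟩ := (X.hφ (c * X.σ d + X.σ c * d)).1 (by simp [ss, add_comm])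
    have l1 := ((SF.ad_lt a a.2 b b.2).2.1 ⟨e1, e2, e⟩).1
    exact T.c90 a b ⟨a.2, e1⟩ ⟨b.2, e2⟩ e c d m hm ▸ k1 hA l1 (i_mem l1 _)
  · have l1 := (t_120 a a.2 b b.2 e1 e2 e).1
    exact T.c120 a b ⟨a.2, e1⟩ ⟨b.2, e2⟩ e c d ▸ k1 hA l1.1 (y_mem ⟨l1.1, l1.2.1⟩ _)

theorem n_conj (hs : s < 48) {r v : Rt chevF4} (hv : (v : ℕ) = rf s r) {g : Y} (hg : g ∈ XT X r) :
    X.ιT (n F s) * g * (X.ιT (n F s))⁻¹ ∈ XT X v := by
  obtain ⟨η, T⟩ := ty X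
  obtain ⟨v, h⟩ := v
  obtain rfl : v = rf s r := hv
  rcases (sh r).eq_false_or_eq_true.symm with e | e
  · obtain ⟨c, rfl⟩ := (mem_L e).1 hg
    rw [← map_inv, ← map_mul, ← map_mul, SF.n_conj hs r.2]
    exact i_mem _ _
  · obtain ⟨a, rfl⟩ := (mem_S e).1 hg
    rw [T.nw r ⟨r.2, e⟩ s hs]
    exact y_mem ⟨h, (SF.rf_lt s hs r r.2).2.2.1.trans e⟩ _

theorem h_conj {h : Y} (hh : h ∈ HT X) (r : Rt chevF4) {g : Y} (hg : g ∈ XT X r) :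
    h * g * h⁻¹ ∈ XT X r := by
  obtain ⟨a, b, e⟩ := j_mem hg
  obtain ⟨c, -, h1⟩ := adE.toStN.HH_conj hh ⟨_, (tE r r.2).1.1⟩
  obtain ⟨d, -, h2⟩ := adE.toStN.HH_conj hh ⟨_, (tE r r.2).1.2.1⟩
  exact mem_of_j (by rw [map_mul, map_mul, map_inv, e, ← conj_mul, (h1 a).1, (h2 b).1])

theorem n_H (hs : s < 48) {h : Y} (hh : h ∈ HT X) : X.ιT (n F s) * h * (X.ιT (n F s))⁻¹ ∈ HT X := by
  have k := fun ρ => (adE (K := K)).toStB.nn_mem_N ρ one_ne_zero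
  rw [HT, mem_comap, map_mul, map_mul, map_inv, jT_n X hs]
  refine adE.toStB.rgd.conj_H ?_ hh
  cases e : sh s
  · exact iE_nL (K := K) ⟨hs, e⟩ ▸ k ⟨_, (o_facts s hs).1⟩
  · exact iE_nS (K := K) ⟨hs, e⟩ ▸ mul_mem (k ⟨_, (tE s hs).1.1⟩) (k ⟨_, (tE s hs).1.2.1⟩)

theorem sqrt {E : Type} [Field E] [Finite E] [CharP E 2] (a : E) : ∃ b, b ^ 2 = a :=
  surjective_frobenius E 2 a

theorem exists_tor (r : Rt chevF4) {g : Y} (hg : g ∈ XT X (negR r)) (h1 : g ≠ 1) :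
    ∃ h ∈ HT X, g = h * X.ιT (x F (47 - r) 1) * h⁻¹ := by
  obtain ⟨η, T⟩ := ty X
  have e0 : ((negR r : Rt chevF4) : ℕ) = 47 - r := (negR_val r).trans (SF.neg_eq r r.2)
  have l0 : 47 - (r : ℕ) < 48 := by omega
  have e1 : sh (47 - r) = sh r := SF.neg_eq r r.2 ▸ (t_neg r r.2).2.1
  obtain ⟨-, -, -, -, t1, t2⟩ := tE r r.2
  cases e : sh r
  · obtain ⟨c, rfl⟩ := (mem_L (e0 ▸ e1.trans e)).1 hg
    obtain ⟨d, rfl⟩ := sqrt c
    obtain ⟨d, rfl⟩ := sqrt d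
    have d0 : d ≠ 0 := by rintro rfl; exact h1 (by rw [e0]; simp [SF.x_zero l0])
    have d1 := inv_ne_zero ((map_ne_zero X.φ).2 d0)
    obtain ⟨h, h2, h3⟩ := exists_hT X r.2 d1
    refine ⟨h, h2, jT_inj X ?_⟩
    rw [map_mul, map_mul, map_inv, e0, jL X ⟨l0, e1.trans e⟩, jL X ⟨l0, e1.trans e⟩,
      hT_conj r.2 d1 h3 (o_facts _ l0).1, map_inv₀, s_phi, ← zpow_add₀ d1,
      ← ((tE _ l0).2.2.2.1 (e1.trans e)).1, t1, e]
    congr 1; simp; ring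
  · obtain ⟨a, rfl⟩ := (mem_S (e0 ▸ e1.trans e)).1 hg
    obtain ⟨d, rfl⟩ := sqrt a
    have d0 : d ≠ 0 := by
      rintro rfl; exact h1 (by rw [e0]; simpa [SF.x_zero l0] using T.yx _ ⟨l0, e1.trans e⟩ 0)
    have d1 := inv_ne_zero ((map_ne_zero X.σ).2 d0)
    obtain ⟨h, h2, h3⟩ := exists_hT X r.2 d1
    rw [t2 e, zero_add, e] at t1
    refine ⟨h, h2, ?_⟩
    rw [← T.yx _ ⟨l0, e1.trans e⟩, hT_S r.2 d1 h3 ⟨l0, e1.trans e⟩, t2 e, t1, e0, map_inv₀, ss]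
    congr 1; simp

theorem gen_pos : gen (XT X) {r | Pos r} ≤ (UU chevE6 xE).comap (jT X) := gen_le fun r hr g hg => by
  obtain ⟨a, b, e⟩ := j_mem hg
  obtain ⟨⟨h1, h2, -⟩, h3, h4, -⟩ := tE r r.2
  have := (mem_PP.1 ((pos_iff r).1 hr)).1
  exact mem_comap.2 (e ▸ mul_mem (x_mem_gen (r := ⟨_, h1⟩) ((posE _).2 (h3.2 this)) a)
    (x_mem_gen (r := ⟨_, h2⟩) ((posE _).2 (h4.2 this)) b))

theorem gen_neg : gen (XT X) {r | ¬ Pos r} ≤ (gen (XR chevE6 xE) {r | ¬ Pos r}).comap (jT X) :=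
  gen_le fun r hr g hg => by
    obtain ⟨a, b, e⟩ := j_mem hg
    obtain ⟨⟨h1, h2, -⟩, h3, h4, -⟩ := tE r r.2
    have : ¬ 24 ≤ (r : ℕ) := fun h => hr ((pos_iff r).2 (mem_PP.2 ⟨h, r.2⟩))
    rw [mem_comap, e]
    exact mul_mem (x_mem_gen (r := ⟨_, h1⟩) (by exact fun h => this (h3.1 ((posE _).1 h))) a)
      (x_mem_gen (r := ⟨_, h2⟩) (by exact fun h => this (h4.1 ((posE _).1 h))) b)

theorem rank_one (r : Rt chevF4) {g : Y} (hg : g ∈ XT X (negR r)) (h1 : g ≠ 1) :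
    ∃ a ∈ XT X r, ∃ b ∈ XT X r, ∃ h ∈ HT X, g = a * X.ιT (n F r) * h * b := by
  obtain ⟨h, h2, rfl⟩ := exists_tor r hg h1
  have l := r.2
  have m := h_conj h2 _ (i_mem (X := X) l 1)
  refine ⟨_, m, _, m, _, mul_mem (n_H l h2) (inv_mem h2), ?_⟩
  have e : x F (47 - r) 1 = x F r 1 * (n F r)⁻¹ * x F r 1 := by
    rw [SF.n_inv l, SF.n_eq l, ← mul_assoc, ← mul_assoc, SF.x_sq l, one_mul, mul_assoc, SF.x_sq l,
      mul_one]
  have e2 : X.ιT (n F r) * X.ιT (n F r) = 1 := by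
    rw [← map_mul, mul_eq_one_iff_eq_inv.2 (SF.n_inv l).symm, map_one]
  rw [e, map_mul, map_mul, map_inv, ← mul_assoc, mul_assoc _ (X.ιT (n F r)), ← mul_assoc (X.ιT (n F r)),
    ← mul_assoc (X.ιT (n F r)), ← mul_assoc (X.ιT (n F r)), e2]
  group

theorem borel_neg {u h : Y} (hu : u ∈ gen (XT X) {r | Pos r}) (hh : h ∈ HT X)
    (hv : u * h ∈ gen (XT X) {r | ¬ Pos r}) : u * h = 1 := jT_inj X (by
  have h1 := mem_comap.1 (gen_neg hv)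
  rw [map_mul] at h1
  rw [map_mul, map_one]
  exact (adE (K := K)).toStB.borel_neg _ (mem_comap.1 (gen_pos hu)) _ (mem_comap.1 hh) h1)

variable (X) in
/-- The root group datum. -/
noncomputable def TT : RGD (H64.wdata chevF4) Y where
  X := XT X
  H := HT X
  n i := X.ιT (n F (simpleR i))
  ht r := (H63.ht r).toNat
  h_conj _ hh r _ hg := h_conj hh r hg
  n_conj i r _ hg := n_conj (simpleR i).2 ((sref_val i r).trans (SF.rf_simple i i.2 r r.2)) hg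
  n_H i _ hh := n_H (simpleR i).2 hh
  n_sq i := by
    rw [← map_mul, mul_eq_one_iff_eq_inv.2 (SF.n_inv (simpleR i).2).symm, map_one]; exact one_mem _
  rank_one i _ hg h1 := rank_one (simpleR i) hg h1
  nontriv i := ⟨_, i_mem (simpleR i).2 1, fun e => one_ne_zero ((SF.x_eq_one (simpleR i).2).1
    (iT_inj X.hq X.hK X.hf X.hφ (e.trans (map_one _).symm)))⟩
  comm a b ha hb _ u hu v hv := comm_XT ((pos_iff a).1 ha) ((pos_iff b).1 hb) (fun c hc => by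
    obtain ⟨i, hi, j, hj, e⟩ := tB a ((pos_iff a).1 ha) b ((pos_iff b).1 hb) c hc
    have k : ∀ i ∈ [(1 : ℤ), 2], 1 ≤ i := by decide
    obtain ⟨h1, h2⟩ := btw_of_eq (u := c) ha hb (k i hi) (k j hj) (funext fun k => e k k.2)
    exact le_gen (XT X) (by exact ⟨h1.1, h1.2, h2⟩)) hu hv
  borel_neg _ hu _ hh hv := borel_neg hu hh hv

theorem gen_top {A : Subgroup Y} (h : ∀ r, XT X r ≤ A) : A = ⊤ :=
  yT_gen X.hq X.hK X.hf fun r hr a ha => h ⟨r, hr⟩ (by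
    cases e : sw r
    · exact mem_of_j (a := a) (b := if sh r then X.σ a else 0) (by
        rw [jT, inc_yT X.hq X.hK X.hf hr ha, yE, p1, p2, e]; split_ifs <;> simp_all [xE_zero])
    · have : ∀ r < 48, sw r = true → sh r = true := by decide +kernel
      exact mem_of_j (a := X.σ a) (b := a) (by
        rw [jT, inc_yT X.hq X.hK X.hf hr ha, yE_short (this r hr e), p1, p2, e, o_comm hr]; rfl))

theorem Gp_top : (TT X).Gp = ⊤ := gen_top (TT X).X_le_Gp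

theorem H_two {h : Y} (hh : h ∈ HT X) (h2 : Is2 h) : h = 1 := by
  obtain ⟨k, h1⟩ := h2
  exact jT_inj X ((adE.eq_one_of_pow 2 hh (k := k) (by rw [← map_pow, h1, map_one])).trans
    (map_one _).symm)

theorem odd_H {h : Y} (hh : h ∈ HT X) : Odd (orderOf h) := by
  obtain ⟨i, j, e, h1, h2⟩ := H64.SG.exists_two_odd h
  rwa [e, H_two (pow_mem hh i) h1, one_mul]

theorem isP : IsPGroup 2 (NU.UT X) :=
  (H64.SG.syl_UU chevE6 K).isPGroup.comap_of_injective _ (jT_inj X)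

theorem U_eq : (TT X).U = NU.UT X := by
  refine (gen_pos (X := X)).eq_or_lt.resolve_right fun h => ?_
  refine (lt_inf_normalizer (isP (X := X)) h).not_ge fun g hg => ?_
  obtain ⟨u, hu, k, hk, rfl⟩ := (TT X).mem_B.1 ((normalizer_U (Gp_top (X := X))).le hg.2)
  rwa [H_two hk (H64.SG.isPGroup_iff_is2.1 (isP (X := X)) _ ((mul_mem_cancel_left (h.le hu)).1 hg.1)), mul_one]

theorem i_ne (h : r < 48) {c : F} (hc : c ≠ 0) : X.ιT (x F r c) ≠ 1 := fun e =>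
  hc ((SF.x_eq_one h).1 (iT_inj X.hq X.hK X.hf X.hφ (e.trans (map_one _).symm)))

theorem key_XT {a b k : Rt chevF4} (ha : (a : ℕ) ∈ PP) (hb : (b : ℕ) ∈ PP) (hk : (k : ℕ) = ad a b)
    {u : Y} (hu : u ∈ XT X a) (h1 : u ≠ 1) : ∃ v ∈ XT X b, ∃ w ∈ XT X k, w ≠ 1 ∧ ∀ A : Subgroup Y,
      (∀ c : Rt chevF4, (c : ℕ) ∈ O3 a b → c ≠ k → XT X c ≤ A) → cm u v ∈ A → w ∈ A := by
  obtain ⟨η, T⟩ := ty X
  obtain ⟨k, h⟩ := k
  obtain rfl : k = ad a b := hk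
  obtain ⟨t1, t2, -⟩ := tO a ha b hb
  have z : ∀ {r}, S r → yQ X r 0 = 1 := fun h => by simpa using T.add _ h 0 0
  have t3 := tA a ha b hb h
  cases e1 : sh a <;> cases e2 : sh b
  · obtain ⟨c, rfl⟩ := (mem_L e1).1 hu
    refine ⟨_, i_mem b.2 1, _, i_mem h c, i_ne h (by rintro rfl; simp [SF.x_zero a.2] at h1),
      fun A _ hA => ?_⟩
    rwa [cm, ← map_inv, ← map_inv, ← map_mul, ← map_mul, ← map_mul, ← cm,
      SF.x_c1 a.2 b.2 (e1.trans e2.symm) (t3.resolve_right (by simp [e1])) t1, mul_one] at hA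
  · obtain ⟨c, rfl⟩ := (mem_L e1).1 hu
    have e := SF.ip_comm a b ▸ t3.resolve_right (by simp [e1])
    obtain ⟨l1, l2, l3, l4, -⟩ := SF.ad_lt2 b b.2 a a.2 e2 e1 e
    have := T.cl b a ⟨b.2, e2⟩ ⟨a.2, e1⟩ e 1 c 1 (by simp)
    rw [t2] at l2 l3 l4 this
    refine ⟨_, y_mem ⟨b.2, e2⟩ 1, _, y_mem ⟨h, l3⟩ (1 * X.φ c), fun e => h1 ?_, fun A h2 hA => ?_⟩
    · have := T.inj _ ⟨h, l3⟩ _ e
      rw [one_mul, map_eq_zero] at this
      rw [this, SF.x_zero a.2, map_one]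
    · rw [← mul_mem_cancel_right (h2 ⟨_, l2⟩ (by simp [O3, l2]) (fun e => by
        rw [Fin.mk.inj_iff.1 e, l3] at l4; cases l4) (i_mem l2 (c * 1))), ← this]
      simpa [cm, mul_assoc] using inv_mem hA
  · obtain ⟨c, rfl⟩ := (mem_S e1).1 hu
    have e := t3.resolve_right (by simp [e2])
    obtain ⟨m, hm⟩ := (X.hφ (c * X.σ c)).1 (by simp [ss, mul_comm])
    obtain ⟨l1, l2, l3, l4, -⟩ := SF.ad_lt2 a a.2 b b.2 e1 e2 e
    refine ⟨_, i_mem b.2 1, _, y_mem ⟨h, l3⟩ (c * X.φ 1), fun e => h1 ?_, fun A h2 hA => ?_⟩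
    · have := T.inj _ ⟨h, l3⟩ _ e
      rw [map_one, mul_one] at this
      rw [this, z ⟨a.2, e1⟩]
    · rwa [T.cl a b ⟨a.2, e1⟩ ⟨b.2, e2⟩ e c 1 m hm, mul_mem_cancel_right (h2 ⟨_, l2⟩
        (by simp [O3, l2]) (fun e => by rw [Fin.mk.inj_iff.1 e, l3] at l4; cases l4) (i_mem l2 _))] at hA
  obtain ⟨c, rfl⟩ := (mem_S e1).1 hu
  have c0 : c ≠ 0 := by rintro rfl; exact h1 (z ⟨a.2, e1⟩)
  rcases t3 with e | ⟨-, -, e⟩
  · have e3 : ip a b = -2 := by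
      rcases tI a ha b hb e1 e2 with e3 | e3
      · have := SF.ip_pos a a.2; rw [← e3] at e; omega
      · omega
    have l := (t_120 a a.2 b b.2 e1 e2 e3).1.2.1
    refine ⟨_, y_mem ⟨b.2, e2⟩ 1, _, y_mem ⟨h, l⟩ (X.σ (c * 1)), fun e => c0 ?_, fun A _ hA => ?_⟩
    · simpa using T.inj _ ⟨h, l⟩ _ e
    · rwa [T.c120 a b ⟨a.2, e1⟩ ⟨b.2, e2⟩ e3] at hA
  · refine ⟨_, y_mem ⟨b.2, e2⟩ (η / X.σ c), _, i_mem h 1, i_ne h one_ne_zero, fun A _ hA => ?_⟩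
    rwa [T.c90 a b ⟨a.2, e1⟩ ⟨b.2, e2⟩ e c _ 1 (by
      rw [map_div₀, ss, T.rg.eta, mul_div_cancel₀ _ c0, mul_div_cancel₀ _ ((map_ne_zero X.σ).2 c0),
        map_one, add_right_comm, CharTwo.add_self_eq_zero, zero_add])] at hA

end H86.NT
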