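import Cfsg.Agent.H86.WRWU

/-! STD-F4, wreath endgame: `JobNU`. -/

set_option autoImplicit false
set_option linter.unusedSectionVars false

namespace H86.WR

open H64.SG (O2 Syl Cz Cs Ns cjs Is2 Inv2 UF IsO2 fx mem_Cs mem_Cz mem_fx is2_of_sq)
open H67.SA (St cI cm mem_cjs conj_mem_cjs cm_eq_one)
open H59.SO Subgroup Function H98
open scoped commutatorElement

universe u

variable {X : Type} [Group X] [Finite X] {U D A R : Subgroup X} {q : ℕ} {G : Type u} [Group G]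
  [Finite G] {e e₁ e₂ : X →* G} {t n : G}

theorem GW.symm (h : GW D A e t e₁ e₂) (c : CW e t e₁ e₂) : GW D A e t e₂ e₁ := by
  have hG : G12 e₂ e₁ = G12 e₁ e₂ := G12_comm
  have h0 := h.toW0.symm c h.uf.inv
  refine ⟨by rw [hG]; exact h.toEB, h0.ne, h0.pm, h0.chg, h0.ufs, by rw [hG]; exact h.cuD,
    by rw [hG]; exact h.cuA, fun s hs c' => ?_⟩
  rw [hG] at hs
  exact H67.SA.cjs_swap (H9.UF.inv2_conj h.uf.inv c').1 (h.sw s hs c')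

theorem GW.cu (h : GW D A e t e₁ e₂) (hR : R = D ∨ R = A) : Cs (R.map e) ≤ Ns (G12 e₁ e₂) := by
  rcases hR with rfl | rfl
  exacts [h.cuD, h.cuA]

/-- The projection to the first factor. -/
def pr (c : CW e t e₁ e₂) (K : Subgroup G) : Subgroup X where
  carrier := {a | ∃ b, e₁ a * e₂ b ∈ K}
  one_mem' := ⟨1, by simp⟩
  mul_mem' := fun ⟨b, h1⟩ ⟨b', h2⟩ => ⟨b * b', c.mul_mul _ _ _ _ ▸ mul_mem h1 h2⟩
  inv_mem' := fun {a} ⟨b, h1⟩ => ⟨b⁻¹, by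
    rw [map_inv, map_inv, ← mul_inv_rev, ← c.comm]; exact inv_mem h1⟩

theorem pr_le (hs : NS X) (c : CW e t e₁ e₂) {K : Subgroup G} (h : K ≤ two e₁ e₂ U) :
    pr c K ≤ U := fun a ⟨b, h1⟩ => by
  obtain ⟨a', h2, b', -, h3⟩ := c.mem_two.1 (h h1)
  exact (c.inj2 hs h3).1 ▸ h2

theorem pr_or (w : WG U D A q) (c : CW e t e₁ e₂) {P Q : Subgroup G} (h1 : P ⊔ Q = two e₁ e₂ U)
    (h2 : P ≤ Cs Q) : pr c P ≤ Cs U ∨ pr c Q ≤ Cs U := by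
  refine w.ind _ (pr_le w.ns c (le_sup_left.trans h1.le)) _ (pr_le w.ns c (le_sup_right.trans h1.le))
    (fun u hu => ?_) fun a ⟨b, ha⟩ a' ⟨b', ha'⟩ => ?_
  · obtain ⟨p, hp, r, hr, h3⟩ := (mem_sup_left_norm (h2.trans (H64.SG.Cs_le_Ns _))).1
      (h1.ge (mem_sup_left ⟨u, hu, rfl⟩))
    obtain ⟨a, -, b, -, rfl⟩ := c.mem_two.1 (h1.le (mem_sup_left hp))
    obtain ⟨a', -, b', -, rfl⟩ := c.mem_two.1 (h1.le (mem_sup_right hr))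
    rw [(c.inj2 w.ns (a := u) (b := 1) (c := a * a') (d := b * b') (by
      rw [map_one, mul_one, h3, c.mul_mul])).1]
    exact mul_mem (mem_sup_left ⟨b, hp⟩) (mem_sup_right ⟨b', hr⟩)
  · have := h2 ha _ ha'
    rw [c.mul_mul, c.mul_mul] at this
    exact (c.inj2 w.ns this).1

/-- `U₁ Z₂` -/
abbrev EE (U : Subgroup X) (e₁ e₂ : X →* G) : Subgroup G := U.map e₁ ⊔ (U ⊓ Cs U).map e₂

theorem le_EE (c : CW e t e₁ e₂) (ht : t * t = 1) {P : Subgroup G}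
    (h1 : P ≤ two e₁ e₂ U) (h2 : pr (c.symm ht) P ≤ Cs U) : P ≤ EE U e₁ e₂ := fun g hg => by
  obtain ⟨a, ha, b, hb, rfl⟩ := c.mem_two.1 (h1 hg)
  exact c.mem_sup.2 ⟨a, ha, b, ⟨hb, h2 ⟨a, c.comm a b ▸ hg⟩⟩, rfl⟩

theorem comm_EE (c : CW e t e₁ e₂) : ⁅EE U e₁ e₂, EE U e₁ e₂⁆ ≤ ⁅U, U⁆.map e₁ :=
  commutator_le.2 fun g hg k hk => by
    obtain ⟨a, ha, b, hb, rfl⟩ := c.mem_sup.1 hg
    obtain ⟨a', ha', b', hb', rfl⟩ := c.mem_sup.1 hk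
    refine ⟨_, commutator_mem_commutator ha ha', ?_⟩
    rw [eq_comm, commutatorElement_def, mul_assoc, ← mul_inv_rev, mul_inv_eq_iff_eq_mul, c.mul_mul,
      c.mul_mul, hb.2 b' hb'.1, ← mul_assoc, ← map_mul, commutatorElement_def]
    simp

theorem cj_comm (c : CW e t e₁ e₂) {f : X →* G} (h : cjs n (U.map f) ≤ EE U e₁ e₂) :
    cjs n (⁅U, U⁆.map f) ≤ ⁅U, U⁆.map e₁ := by
  rw [map_commutator U U f]
  exact (cj_commutator _ _ _).le.trans ((commutator_mono h h).trans (comm_EE c))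

theorem not_both (w : WG U D A q) (c : CW e t e₁ e₂) (ht : t * t = 1) {f : X →* G}
    (hf : Injective f) (h1 : cjs n (U.map f) ≤ EE U e₁ e₂) (h2 : cjs n (U.map f) ≤ EE U e₂ e₁) :
    False := by
  obtain ⟨y, y1, y2⟩ := w.exD
  have h3 : n * f y * n⁻¹ ∈ cjs n (⁅U, U⁆.map f) := conj_mem_cjs.2 ⟨y, w.le.1 y1, rfl⟩
  have := c.eq_one w.ns (map_le_range _ _ (cj_comm c h1 h3))
    (map_le_range _ _ (cj_comm (c.symm ht) h2 h3))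
  exact y2.2 ((map_eq_one_iff _ hf).1 (conj_eq_one_iff.1 this))

theorem fix_EE (w : WG U D A q) (c : CW e t e₁ e₂) (ht : t * t = 1) (hn : n ∈ Ns (two e₁ e₂ U))
    (ho : Odd (orderOf n)) : cjs n (U.map e₁) ≤ EE U e₁ e₂ ∧ cjs n (U.map e₂) ≤ EE U e₂ e₁ := by
  have c' := c.symm ht
  have h1 : cjs n (U.map e₁) ⊔ cjs n (U.map e₂) = two e₁ e₂ U := (cj_sup _ _ _).symm.trans (cj_eq_self hn)
  have h2 : cjs n (U.map e₁) ≤ Cs (cjs n (U.map e₂)) := by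
    rw [← H64.SG.cj_Cs]
    exact cj_mono n (((map_le_range _ _).trans c.le_Cs').trans (Cs_range_le _))
  have p1 := le_sup_left.trans h1.le
  have p2 := le_sup_right.trans h1.le
  have hT : two e₂ e₁ U = two e₁ e₂ U := two_comm U
  have k1 := (pr_or w c' (h1.trans hT.symm) h2).imp (le_EE c ht p1) (le_EE c ht p2)
  have k2 := (pr_or w c h1 h2).imp (le_EE c' ht (p1.trans hT.ge)) (le_EE c' ht (p2.trans hT.ge))
  rcases k1 with k1 | k1 <;> rcases k2 with k2 | k2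
  · exact (not_both w c ht c.inj k1 k2).elim
  · exact ⟨k1, k2⟩
  · exfalso
    have h3 := H64.SG.mem_of_sq_mem (K := Ns (⁅U, U⁆.map e₁)) (mem_normalizer_of_cj_le
      ((cj_cj _ _ _).symm.trans_le ((cj_mono n (cj_comm c' k2)).trans (cj_comm c k1)))) ho
    obtain ⟨y, y1, y2⟩ := w.exD
    exact y2.2 ((map_eq_one_iff _ c.inj).1 (c.eq_one w.ns ⟨y, rfl⟩ (map_le_range _ _
      (cj_comm c' k2 ((cj_eq_self h3).ge ⟨y, w.le.1 y1, rfl⟩)))))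
  · exact (not_both w c ht c.inj₂ k1 k2).elim

theorem norR (w : WG U D A q) (c : CW e t e₁ e₂) (hn : n ∈ Ns (two e₁ e₂ U))
    (h : cjs n (U.map e₁) ≤ EE U e₁ e₂) (hR : R = D ∨ R = A) : n ∈ Ns (R.map e₁) := by
  classical
  have h1 : ∀ u ∈ U, ∃ a ∈ U, ∃ z ∈ U ⊓ Cs U, n * e₁ u * n⁻¹ = e₁ a * e₂ z := fun u hu =>
    c.mem_sup.1 (h (conj_mem_cjs.2 ⟨u, hu, rfl⟩))
  choose! θ h2 ζ h3 h4 using h1
  have h5 : ∀ u ∈ ⁅U, U⁆, n * e₁ u * n⁻¹ = e₁ (θ u) := fun u hu => by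
    obtain ⟨a, -, ha⟩ := cj_comm c h (conj_mem_cjs.2 ⟨u, hu, rfl⟩)
    rw [← (c.inj2 w.ns (a := a) (b := 1) (c := θ u) (d := ζ u) (by
      rw [map_one, mul_one, ha, ← h4 u (commutator_le_self _ hu)])).1, ha]
  have h6 : Set.InjOn θ U := fun u hu v hv h6 => by
    have k0 := mul_mem (inv_mem hu) hv
    have k1 : n * e₁ (u⁻¹ * v) * n⁻¹ = e₂ ((ζ u)⁻¹ * ζ v) := by
      rw [map_mul, map_inv, ← conj_mul, ← conj_inv, h4 u hu, h4 v hv, h6, map_mul, map_inv]; group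
    have k2 : u⁻¹ * v ∈ Cs U := fun a ha => (e_comm_iff c.inj).1 (by
      obtain ⟨b, -, d, hd, k3⟩ := c.mem_two.1 (conj_mem_of_mem_normalizer hn (mem_sup_left ⟨a, ha, rfl⟩))
      have : n * e₁ a * n⁻¹ * (n * e₁ (u⁻¹ * v) * n⁻¹) = n * e₁ (u⁻¹ * v) * n⁻¹ * (n * e₁ a * n⁻¹) := by
        rw [k1, k3, mul_assoc, ← map_mul, (mul_mem (inv_mem (h3 u hu)) (h3 v hv)).2 d hd, map_mul,
          ← mul_assoc, c.comm, mul_assoc]
      rwa [conj_mul, conj_mul, mul_left_inj, mul_right_inj] at this)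
    have k3 := h5 _ (w.le.1 (w.cenR (.inl rfl) k0 k2))
    have k4 := c.eq_one w.ns ⟨_, k3.symm⟩ ⟨_, k1.symm⟩
    exact inv_mul_eq_one.1 ((map_eq_one_iff _ c.inj).1 (conj_eq_one_iff.1 k4))
  have a : AutOn U θ := ⟨((Set.toFinite _).injOn_iff_bijOn_of_mapsTo h2).1 h6, fun a ha b hb =>
    (c.inj2 w.ns (b := ζ (a * b)) (d := ζ a * ζ b) (by
      rw [← h4 _ (mul_mem ha hb), ← c.mul_mul, ← h4 a ha, ← h4 b hb, conj_mul, map_mul])).1⟩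
  refine mem_normalizer_of_cj_le ?_
  rintro _ ⟨_, ⟨u, hu, rfl⟩, rfl⟩
  exact ⟨_, w.invR hR a u hu, (h5 u (w.leR hR hu)).symm⟩

theorem stepB (w : WG U D A q) (c : CW e t e₁ e₂) (g : GW D A e t e₁ e₂) (hR : R = D ∨ R = A)
    (h : cjs n (U.map e₁) ≤ two e₁ e₂ U) (n1 : n ∈ Ns (R.map e₁)) (n2 : n ∈ Ns (R.map e₂))
    {p u : X} (hp : p ∈ Ns R) (hu : u ∈ U) : n * e₁ (p * u * p⁻¹) * n⁻¹ ∈ G12 e₁ e₂ := by
  have tt := g.uf.inv.1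
  have t1 : t⁻¹ = t := inv_eq_of_mul_eq_one_right tt
  have key : ∀ a ∈ Ns R, n * e₁ a * n⁻¹ ∈ Ns (R.map e₁) ∧ n * e₁ a * n⁻¹ ∈ Cs (R.map e₂) :=
    fun a ha => ⟨mul_mem (mul_mem n1 (map_mem_Ns ha)) (inv_mem n1), conj_mem_of_mem_normalizer
      (normalizer_le_normalizer_centralizer _ n2) (Cs_range_le _ (c.le_Cs' ⟨a, rfl⟩))⟩
  have cM : Cs (R.map e₁) ⊓ Cs (R.map e₂) ≤ Ns (G12 e₁ e₂) :=
    (centralizer_sup _ _).ge.trans ((centralizer_le (c.map_le R)).trans (g.cu hR))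
  have cc : ∀ a b : G, a ∈ Ns (R.map e₁) → a ∈ Cs (R.map e₂) → b ∈ Cs (R.map e₁) →
      b ∈ Ns (R.map e₂) → cm a b ∈ Cs (R.map e₁) ⊓ Cs (R.map e₂) := fun a b a1 a2 b1 b2 =>
    mem_inf.2 ⟨mul_mem (conj_mem_of_mem_normalizer (normalizer_le_normalizer_centralizer _ a1) b1)
      (inv_mem b1), by
      have := mul_mem a2 (conj_mem_of_mem_normalizer
        (normalizer_le_normalizer_centralizer _ b2) (inv_mem a2))
      simpa only [cm, mul_assoc] using this⟩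
  obtain ⟨r1, r2⟩ := key p hp
  obtain ⟨u1, u2⟩ := key u (w.nor hR (le_normalizer hu))
  have u3 : Is2 (n * e₁ u * n⁻¹) :=
    ((H64.SG.isPGroup_iff_is2.1 w.syl.2.1 u hu).map e₁).map (MulAut.conj n).toMonoidHom
  obtain ⟨a, -, z, -, u4⟩ := c.mem_two.1 (h (conj_mem_cjs.2 ⟨u, hu, rfl⟩))
  rw [map_mul, map_mul, map_inv, ← conj_mul, ← conj_mul, ← conj_inv]
  generalize n * e₁ p * n⁻¹ = r at r1 r2
  generalize n * e₁ u * n⁻¹ = v at u1 u2 u3 u4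
  have s1 : t * r * t⁻¹ ∈ Cs (R.map e₁) := by
    rw [← (c.symm tt).cjs_map, ← H64.SG.cj_Cs]; exact conj_mem_cj r2
  have s2 : t * r * t⁻¹ ∈ Ns (R.map e₂) := by
    rw [← c.cjs_map, ← H64.SG.cj_Ns]; exact conj_mem_cj r1
  have k1 : r * (t * r * t⁻¹) ∈ Ns (G12 e₁ e₂) := g.uf.uf _ (by
    have : r * (t * r * t⁻¹) * t * (r * (t * r * t⁻¹))⁻¹ = cm r (t * r * t⁻¹) * t := by
      simp only [cm, mul_inv_rev, t1, mul_assoc]
      rw [← mul_assoc t t, tt, one_mul, mul_one]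
    rw [this]
    exact mul_mem (cM (cc _ _ r1 r2 s1 s2)) g.uf.mem)
  generalize t * r * t⁻¹ = s at s1 s2 k1
  have k2 := inv_mem (cc _ _ u1 u2 (inv_mem s1) (inv_mem s2))
  obtain ⟨y, y1, y2, y3⟩ := w.exZ
  obtain ⟨k3, k4⟩ := (g.pm _ (cM k2)).resolve_right fun k => y2 ((map_eq_one_iff _ c.inj).1
    (c.eq_one w.ns ⟨y, rfl⟩ (by
      rw [← k.1, mem_cjs, mul_assoc, k2.1 _ ⟨y, w.cenR hR y1 y3, rfl⟩, inv_mul_cancel_left]
      exact ⟨y, rfl⟩)))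
  obtain ⟨β₁, i1⟩ := exists_ind c.inj k3
  obtain ⟨β₂, i2⟩ := exists_ind c.inj₂ k4
  obtain ⟨ζ₁, -, -, rfl⟩ := w.ct R hR β₁ (i1.fix c.inj k2.1)
  obtain ⟨ζ₂, -, -, rfl⟩ := w.ct R hR β₂ (i2.fix c.inj₂ k2.2)
  have j1 := i1.mul (u4 ▸ c.ind₁ a z : Ind e₁ v _)
  have j2 := i2.mul (u4 ▸ c.ind₂ a z : Ind e₂ v _)
  rw [← map_mul, show (cm v s⁻¹)⁻¹ * v = s⁻¹ * v * s⁻¹⁻¹ by unfold cm; group] at j1 j2
  have k5 := dec2 w.ns c g.odd (u3.map (MulAut.conj s⁻¹).toMonoidHom) j1 j2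
  rw [show r * v * r⁻¹ = r * s * (s⁻¹ * v * s⁻¹⁻¹) * (r * s)⁻¹ by group]
  exact conj_mem_of_mem_normalizer k1 (c.mem_G12.2 ⟨_, _, k5⟩)

theorem cj_range (w : WG U D A q) (c : CW e t e₁ e₂) (g : GW D A e t e₁ e₂)
    (hn : n ∈ Ns (two e₁ e₂ U)) (ho : Odd (orderOf n)) : cjs n e₁.range ≤ G12 e₁ e₂ := by
  have tt := g.uf.inv.1
  obtain ⟨h1, h2⟩ := fix_EE w c tt hn ho
  have : closure {g | ∃ u ∈ U, ∃ p, (p ∈ Ns D ∨ p ∈ Ns A) ∧ g = p * u * p⁻¹} ≤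
      (G12 e₁ e₂).comap (cje n e₁) := (closure_le _).2 (by
    have k : ∀ R, R = D ∨ R = A → ∀ p ∈ Ns R, ∀ u ∈ U, n * e₁ (p * u * p⁻¹) * n⁻¹ ∈ G12 e₁ e₂ :=
      fun R hR p hp u hu => stepB w c g hR (cj_le_of_le le_sup_left hn) (norR w c hn h1 hR)
        (norR w (c.symm tt) (by rwa [two_comm]) h2 hR) hp hu
    rintro _ ⟨u, hu, p, hp | hp, rfl⟩
    exacts [k D (.inl rfl) p hp u hu, k A (.inr rfl) p hp u hu])
  rintro _ ⟨_, ⟨a, rfl⟩, rfl⟩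
  exact this (w.top.ge (mem_top a))

theorem jobNU : JobNU.{u} := by
  intro X _ _ U D A q w G _ _ e t b e₁ e₂ c g
  refine H67.SA.jobK11 g.uf (IsConj.refl t) g.uf.mem _ (c.t_mem_Ns b.inv.1 U) fun n hn ho =>
    mem_normalizer_of_cj_le ((cj_sup _ _ _).le.trans (sup_le (cj_range w c g hn ho) ?_))
  exact (cj_range w (c.symm b.inv.1) (g.symm c) (by rwa [two_comm]) ho).trans G12_comm.le

end H86.WR
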