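/- Tower CK: the case `r = 4` reduces to a generalised pentagon. -/
import Cfsg.Agent.H53.CKSpec

set_option autoImplicit false

namespace H86.CK4

open Module Submodule H53.CK

universe u v

variable {F : Type u} [Field F] {V : Type v} [AddCommGroup V] [Module F V]

theorem ind3_iff {x y z : V} :
    Ind3 F x y z ↔ ∀ a b c : F, a • x + b • y + c • z = 0 → a = 0 ∧ b = 0 ∧ c = 0 := by
  refine ⟨fun h a b c h0 => ?_, fun h => ⟨⟨fun h0 => ?_, fun h0 => ?_⟩, fun h0 => ?_⟩⟩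
  · have hc : c = 0 := by
      by_contra hc
      refine h.2 (mem_span_pair.2 ⟨-(c⁻¹ * a), -(c⁻¹ * b), ?_⟩)
      rw [← inv_smul_smul₀ hc z, eq_neg_of_add_eq_zero_right h0]
      module
    rw [hc, zero_smul, add_zero] at h0
    have hb : b = 0 := by
      by_contra hb
      refine h.1.2 (mem_span_singleton.2 ⟨-(b⁻¹ * a), ?_⟩)
      rw [← inv_smul_smul₀ hb y, eq_neg_of_add_eq_zero_right h0]
      module
    rw [hb, zero_smul, add_zero] at h0
    exact ⟨(smul_eq_zero.1 h0).resolve_right h.1.1, hb, hc⟩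
  · exact one_ne_zero (h 1 0 0 (by simp [h0])).1
  · obtain ⟨a, rfl⟩ := mem_span_singleton.1 h0
    exact one_ne_zero (neg_eq_zero.1 (h a (-1) 0 (by module)).2.1)
  · obtain ⟨a, b, rfl⟩ := mem_span_pair.1 h0
    exact one_ne_zero (neg_eq_zero.1 (h a b (-1) (by module)).2.2)

theorem i12 {x y z : V} (h : Ind3 F x y z) : Ind3 F y x z := ind3_iff.2 fun a b c h0 => by
  obtain ⟨h1, h2, h3⟩ := ind3_iff.1 h b a c (by rw [← h0]; module)
  exact ⟨h2, h1, h3⟩

theorem i23 {x y z : V} (h : Ind3 F x y z) : Ind3 F x z y := ind3_iff.2 fun a b c h0 => by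
  obtain ⟨h1, h2, h3⟩ := ind3_iff.1 h a c b (by rw [← h0]; module)
  exact ⟨h1, h3, h2⟩

theorem iadd {x y z : V} (h : Ind3 F x y z) (s t : F) : Ind3 F x y (z + s • x + t • y) :=
  ind3_iff.2 fun a b c h0 => by
    obtain ⟨h1, h2, h3⟩ := ind3_iff.1 h (a + c * s) (b + c * t) c (by rw [← h0]; module)
    rw [h3, zero_mul, add_zero] at h1 h2
    exact ⟨h1, h2, h3⟩

theorem iadd' {x y z : V} (h : Ind3 F x y z) (t : F) : Ind3 F x y (z + t • y) := by
  simpa using iadd h 0 t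

variable [FiniteDimensional F V]

theorem rk_pair {x y : V} (h : Ind F x y) : finrank F (span F {x, y}) = 2 := by
  rw [Set.pair_comm, span_insert, sup_comm, finrank_sup_span_singleton h.2,
    finrank_span_singleton h.1]

theorem rk_triple {x y z : V} (h : Ind3 F x y z) : finrank F (span F {x, y, z}) = 3 := by
  have : ({x, y, z} : Set V) = insert z {x, y} := by ext; simp; tauto
  rw [this, span_insert, sup_comm, finrank_sup_span_singleton h.2, rk_pair h.1]

theorem exists_sub {P S : Submodule F V} (h : P ≤ S) {u : V} (hu : u ∈ S) (hu' : u ∉ P)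
    (hr : finrank F S ≤ finrank F P + 1) {s : V} (hs : s ∈ S) : ∃ a : F, s - a • u ∈ P := by
  have h1 : P ⊔ (F ∙ u) = S := eq_of_le_of_finrank_le
    (sup_le h ((span_singleton_le_iff_mem _ _).2 hu)) (by rwa [finrank_sup_span_singleton hu'])
  obtain ⟨p, hp, w, hw, rfl⟩ := mem_sup.1 (h1 ▸ hs)
  obtain ⟨a, rfl⟩ := mem_span_singleton.1 hw
  exact ⟨a, by simpa using hp⟩

/-- `q + 1` different points of a line are all its points. -/
theorem cover2 [Finite F] {P B S : Submodule F V} {A : F → Submodule F V} (hPB : P ≤ B)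
    (hBS : B ≤ S) (h1 : finrank F B = finrank F P + 1) (h2 : finrank F S = finrank F P + 2)
    (hPA : ∀ c, P ≤ A c) (hAS : ∀ c, A c ≤ S) (hn : ∀ c, ¬ A c ≤ B)
    (hd : ∀ c c', c ≠ c' → A c ⊓ A c' ≤ B) {t : V} (ht : t ∈ S) : t ∈ B ∨ ∃ c, t ∈ A c := by
  obtain ⟨u, hu, hu'⟩ := H62.exists_mem_notMem (Z := P) (W := B) (by omega)
  obtain ⟨w, hw, hw'⟩ := H62.exists_mem_notMem (Z := B) (W := S) (by omega)
  have hs : ∀ s ∈ S, s ∉ B → ∃ a b : F, a ≠ 0 ∧ s - a • (w + b • u) ∈ P := fun s hs hs' => by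
    obtain ⟨a, ha⟩ := exists_sub hBS hw hw' (by omega) hs
    have ha0 : a ≠ 0 := fun h => hs' (by simpa [h] using ha)
    obtain ⟨b, hb⟩ := exists_sub hPB hu hu' h1.le ha
    exact ⟨a, a⁻¹ * b, ha0, by rwa [smul_add, smul_smul, mul_inv_cancel_left₀ ha0, ← sub_sub]⟩
  have hf : ∀ c, ∃ b : F, w + b • u ∈ A c := fun c => by
    obtain ⟨s, h3, h4⟩ := SetLike.not_le_iff_exists.1 (hn c)
    obtain ⟨a, b, ha, h5⟩ := hs s (hAS c h3) h4
    exact ⟨b, (smul_mem_iff _ ha).1 (by simpa using sub_mem h3 (hPA c h5))⟩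
  choose f hf using hf
  have hi : Function.Injective f := fun c c' h => by
    by_contra h3
    have h4 := hd c c' h3 ⟨hf c, h ▸ hf c'⟩
    exact hw' (by simpa using sub_mem h4 (smul_mem B (f c) hu))
  refine or_iff_not_imp_left.2 fun h => ?_
  obtain ⟨a, b, -, h3⟩ := hs t ht h
  obtain ⟨c, rfl⟩ := Finite.injective_iff_surjective.1 hi b
  exact ⟨c, by simpa using add_mem (hPA c h3) (smul_mem _ a (hf c))⟩

variable {G : Subgroup (V ≃ₗ[F] V)} {T : TS G}

omit [FiniteDimensional F V] in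
theorem W_comm {x y : V} (h : Ind F x y) : T.W y x = T.W x y :=
  T.congr x y y x h h.symm (subset_span (by simp)) (subset_span (by simp))

omit [FiniteDimensional F V] in
theorem W_smul {x : V} (hx : x ≠ 0) {c : F} (hc : c ≠ 0) (y : V) : T.W x (c • y) = T.W x y := by
  by_cases hy : y ∈ F ∙ x
  · rw [T.dep x y hy, T.dep x _ (smul_mem _ c hy)]
  · exact T.congr x y x _ ⟨hx, hy⟩ ⟨hx, by rwa [smul_mem_iff _ hc]⟩ (subset_span (by simp))
      (smul_mem _ c (subset_span (by simp)))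

/-- `{y | W x y ≤ S}` -/
def cir (T : TS G) {x : V} (hx : x ≠ 0) (S : Submodule F V) (hS : x ∈ S) : Submodule F V where
  carrier := {y | T.W x y ≤ S}
  zero_mem' := by
    change T.W x 0 ≤ S
    rwa [T.dep x 0 (zero_mem _), span_singleton_le_iff_mem]
  add_mem' := fun {a b} ha hb => (T.add x a b hx).trans (sup_le ha hb)
  smul_mem' := fun c y hy => by
    change T.W x (c • y) ≤ S
    by_cases hc : c = 0
    · rwa [hc, zero_smul, T.dep x 0 (zero_mem _), span_singleton_le_iff_mem]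
    · rwa [W_smul hx hc]

omit [FiniteDimensional F V] in
theorem W_le {x : V} (hx : x ≠ 0) {S : Submodule F V} (hS : x ∈ S) {s : Set V}
    (h : ∀ y ∈ s, T.W x y ≤ S) {y : V} (hy : y ∈ span F (insert x s)) : T.W x y ≤ S := by
  refine (span_le (p := cir T hx S hS)).2 (Set.insert_subset ?_ h) hy
  change T.W x x ≤ S
  rwa [T.dep x x (mem_span_singleton_self x), span_singleton_le_iff_mem]

/-- special triples -/
def Sp (T : TS G) (x y z : V) : Prop := Ind3 F x y z ∧ z ∈ T.W x y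

omit [FiniteDimensional F V] in
theorem Sp.s12 {x y z : V} (h : Sp T x y z) : Sp T y x z := ⟨i12 h.1, W_comm (T := T) h.1.1 ▸ h.2⟩

omit [FiniteDimensional F V] in
theorem Sp.s23 {x y z : V} (h : Sp T x y z) : Sp T x z y :=
  ⟨i23 h.1, T.symm x y z h.1.1.1 (i23 h.1).1.2 h.2⟩

omit [FiniteDimensional F V] in
theorem Sp.le {x y z : V} (h : Sp T x y z) : span F {x, y, z} ≤ T.W x y :=
  span_le.2 (Set.insert_subset (T.left _ _) (Set.insert_subset (T.right _ _ h.1.1.1)
    (Set.singleton_subset_iff.2 h.2)))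

omit [FiniteDimensional F V] in
theorem Sp.add {x y z : V} (h : Sp T x y z) (c : F) : Sp T x y (z + c • y) :=
  ⟨iadd' h.1 c, add_mem h.2 (smul_mem _ c (T.right _ _ h.1.1.1))⟩

omit [FiniteDimensional F V] in
theorem swap23 (x y z : V) : span F {x, z, y} = span F {x, y, z} := by rw [Set.pair_comm]

theorem Sp.inf (hc : T.Cod 4) {x y z : V} (h : Sp T x y z) :
    T.W x y ⊓ T.W x z = span F {x, y, z} :=
  (eq_of_le_of_finrank_le (le_inf h.le (swap23 (F := F) x y z ▸ h.s23.le)) (by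
    have := hc x y z h.1 h.2
    rw [rk_triple h.1]
    omega)).symm

theorem Sp.rk_sup (hf : TF T 4) (hc : T.Cod 4) {x y z : V} (h : Sp T x y z) :
    finrank F ↥(T.W x y ⊔ T.W x z) = 5 := by
  have h1 := finrank_sup_add_finrank_inf_eq (T.W x y) (T.W x z)
  have h2 := hc x y z h.1 h.2
  rw [hf.rk x y h.1.1, hf.rk x z h.s23.1.1] at h1
  omega

variable [Finite F]

/-- cover lemma -/
theorem Sp.cover (hf : TF T 4) (hc : T.Cod 4) {x y z : V} (h : Sp T x y z) {t : V}
    (ht : t ∈ T.W x y ⊔ T.W x z) : t ∈ T.W x y ∨ ∃ c : F, t ∈ T.W x (z + c • y) := by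
  have hx := h.1.1.1
  have he : ∀ c : F, span F {x, y, z + c • y} = span F {x, y, z} := fun c =>
    eq_of_le_of_finrank_le (span_le.2 (Set.insert_subset (subset_span (by simp))
      (Set.insert_subset (subset_span (by simp)) (Set.singleton_subset_iff.2
        (add_mem (subset_span (by simp)) (smul_mem _ c (subset_span (by simp))))))))
      (by rw [rk_triple h.1, rk_triple (h.add c).1])
  refine cover2 (P := span F {x, y, z}) h.le le_sup_left
    (by rw [rk_triple h.1, hf.rk x y h.1.1]) (by rw [rk_triple h.1, h.rk_sup hf hc])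
    (fun c => he c ▸ swap23 (F := F) x y (z + c • y) ▸ (h.add c).s23.le)
    (fun c => W_le hx (mem_sup_left (T.left _ _)) (s := {y, z}) (by
      rintro _ (rfl | rfl)
      exacts [le_sup_left, le_sup_right])
      (add_mem (subset_span (by simp)) (smul_mem _ c (subset_span (by simp)))))
    (fun c h1 => ?_) (fun c c' h1 => ?_) ht
  · have h2 := (h.add c).inf hc
    rw [inf_eq_right.2 h1] at h2
    have h3 := hf.rk x _ (h.add c).s23.1.1
    rw [h2, rk_triple (h.add c).1] at h3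
    omega
  · have h2 : Sp T x (z + c • y) (z + c' • y) := by
      refine ⟨ind3_iff.2 fun a b d h0 => ?_, ?_⟩
      · obtain ⟨h3, h4, h5⟩ := ind3_iff.1 h.1 a (b * c + d * c') (b + d) (by rw [← h0]; module)
        have h6 : d * (c' - c) = 0 := by linear_combination h4 - c * h5
        have h7 : d = 0 := (mul_eq_zero.1 h6).resolve_right (sub_ne_zero.2 h1.symm)
        exact ⟨h3, by simpa [h7] using h5, h7⟩
      · refine (h.add c).s23.le ?_
        rw [swap23, he]
        exact add_mem (subset_span (by simp)) (smul_mem _ c' (subset_span (by simp)))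
    rw [h2.inf hc]
    exact span_le.2 (Set.insert_subset (T.left _ _) (Set.insert_subset (h.add c).2
      (Set.singleton_subset_iff.2 (h.add c').2)))

theorem Sp.beta (hf : TF T 4) (hc : T.Cod 4) {x y z : V} (h : Sp T x y z) :
    ¬ T.W y z ≤ T.W x y ⊔ T.W x z := fun h1 => by
  have hyz : Ind F y z := h.s12.s23.1.1
  obtain ⟨t, ht, ht'⟩ := H62.exists_mem_notMem (Z := span F {x, y, z}) (W := T.W y z)
    (by rw [rk_triple h.1, hf.rk y z hyz]; omega)
  rcases h.cover hf hc (h1 ht) with h2 | ⟨c, h2⟩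
  · have h3 := h.s12.inf hc
    rw [W_comm h.1.1, Set.insert_comm] at h3
    exact ht' (h3 ▸ ⟨h2, ht⟩)
  · have h3 := (h.add c).s23.s12
    have h4 := h3.inf hc
    rw [W_comm h3.s12.1.1, T.congr y z _ y hyz h3.s23.1.1 (add_mem (subset_span (by simp))
      (smul_mem _ c (subset_span (by simp)))) (subset_span (by simp))] at h4
    refine ht' (span_le.2 ?_ (h4 ▸ ⟨h2, ht⟩ : t ∈ span F {z + c • y, x, y}))
    exact Set.insert_subset (add_mem (subset_span (by simp))
      (smul_mem _ c (subset_span (by simp)))) (Set.insert_subset (subset_span (by simp))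
        (Set.singleton_subset_iff.2 (subset_span (by simp))))

/-- the span of the second neighbourhood -/
def Bl (T : TS G) (x y : V) : Submodule F V := ⨆ z : T.W x y, T.W x z

omit [FiniteDimensional F V] [Finite F] in
theorem le_Bl {x y z : V} (h : z ∈ T.W x y) : T.W x z ≤ Bl T x y :=
  le_iSup (fun z : T.W x y => T.W x z) ⟨z, h⟩

omit [FiniteDimensional F V] [Finite F] in
theorem Bl_map {g : V ≃ₗ[F] V} (hg : g ∈ G) {x y t : V} (ht : t ∈ Bl T x y) :
    g t ∈ Bl T (g x) (g y) := by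
  have : Bl T x y ≤ (Bl T (g x) (g y)).comap (g : V →ₗ[F] V) := iSup_le fun z s hs =>
    le_Bl (T.map g hg x y z z.2) (T.map g hg x z s hs)
  exact this ht

omit [FiniteDimensional F V] [Finite F] in
theorem Bl_comm_le (hp : PL G) {x y : V} (h : Ind F x y) : Bl T x y ≤ Bl T y x := fun t ht => by
  by_cases h1 : t ∈ span F {x, y}
  · refine le_Bl (T.right y x h.symm.1) (span_le.2 ?_ h1)
    exact Set.insert_subset (T.right y x h.symm.1) (Set.singleton_subset_iff.2 (T.left y x))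
  have h2 : Ind3 F t y x := i12 (i23 (i12 ⟨h, h1⟩))
  have h3 : Ind3 F t y (x + y) := by simpa using iadd' h2 1
  have h4 : Ind3 F t x (x + y) := by simpa [add_comm] using iadd' (i23 h2) 1
  obtain ⟨g1, hg1, a1, b1, c1⟩ := hp t y x h2 0 1
  obtain ⟨g2, hg2, a2, b2, c2⟩ := hp t (x + y) y (i23 h3) 0 (-1)
  obtain ⟨g3, hg3, a3, b3, c3⟩ := hp t x (x + y) h4 0 (-1)
  have h5 := Bl_map hg3 (Bl_map hg2 (Bl_map hg1 ht))
  have e1 : g1 x = x + y := by rw [c1]; module
  have e2 : g2 y = (-1 : F) • x := by rw [c2]; module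
  have e3 : g3 (x + y) = y := by rw [c3]; module
  rw [a1, a2, a3, e1, b1, b2, e2, e3, map_smul, b3] at h5
  rwa [Bl, W_smul h.symm.1 (neg_ne_zero.2 (one_ne_zero (α := F)))] at h5

omit [Finite F] in
theorem Bl_eq (hf : TF T 4) {x y z z' : V} (h : Sp T x y z) (h1 : z' ∈ T.W x y)
    (h2 : z' ∉ span F {x, y, z}) : Bl T x y = T.W x y ⊔ T.W x z ⊔ T.W x z' := by
  have hx := h.1.1.1
  refine le_antisymm (iSup_le fun s => ?_)
    (sup_le (sup_le (le_Bl (T.right x y hx)) (le_Bl h.2)) (le_Bl h1))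
  obtain ⟨a, ha⟩ := exists_sub h.le h1 h2 (by rw [rk_triple h.1, hf.rk x y h.1.1]) s.2
  refine W_le hx (mem_sup_right (T.left _ _)) (s := {y, z, z'}) (by
    rintro _ (rfl | rfl | rfl)
    exacts [le_sup_of_le_left le_sup_left, le_sup_of_le_left le_sup_right, le_sup_right]) ?_
  rw [← sub_add_cancel s.1 (a • z')]
  exact add_mem (span_mono (by intro; simp; tauto) ha) (smul_mem _ a (subset_span (by simp)))

omit [FiniteDimensional F V] [Finite F] in
theorem Sp.other {x y z z' : V} (h : Sp T x y z) (h1 : z' ∈ T.W x y)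
    (h2 : z' ∉ span F {x, y, z}) : Sp T x y z' :=
  ⟨⟨h.1.1, fun h3 => h2 (span_mono (by intro; simp; tauto) h3)⟩, h1⟩

theorem Sp.Bl (hp : PL G) (hf : TF T 4) (hc : T.Cod 4) {x y z : V} (h : Sp T x y z) :
    finrank F (Bl T x y) = 6 ∧ Bl T x y = T.W x y ⊔ T.W x z ⊔ T.W y z := by
  obtain ⟨z', h1, h2⟩ := H62.exists_mem_notMem (Z := span F {x, y, z}) (W := T.W x y)
    (by rw [rk_triple h.1, hf.rk x y h.1.1]; omega)
  have h3 := h.other h1 h2
  have h4 : finrank F (CK4.Bl T x y) ≤ 6 := by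
    have h4 := finrank_sup_add_finrank_inf_eq (T.W x y ⊔ T.W x z) (T.W x z')
    have h5 : finrank F ↥(T.W x y ⊓ T.W x z') ≤ finrank F ↥((T.W x y ⊔ T.W x z) ⊓ T.W x z') :=
      finrank_mono (inf_le_inf_right _ le_sup_left)
    have h6 := hc x y z' h3.1 h3.2
    rw [h.rk_sup hf hc, hf.rk x z' h3.s23.1.1, ← Bl_eq hf h h1 h2] at h4
    omega
  have h5 : T.W x y ⊔ T.W x z ⊔ T.W y z ≤ CK4.Bl T x y :=
    sup_le (sup_le (le_Bl (T.right x y h.1.1.1)) (le_Bl h.2))
      ((le_Bl h.s12.2).trans (Bl_comm_le hp h.1.1.symm))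
  have h6 := finrank_lt_finrank_of_lt (left_lt_sup.2 (h.beta hf hc))
  rw [h.rk_sup hf hc] at h6
  have h7 := finrank_mono h5
  exact ⟨by omega, (eq_of_le_of_finrank_le h5 (by omega)).symm⟩

theorem Bl_adj (hp : PL G) (hf : TF T 4) (hc : T.Cod 4) {x y z : V} (h : Ind F x y)
    (h1 : z ∈ T.W x y) (h2 : z ∉ F ∙ x) : Bl T x z = Bl T x y := by
  by_cases h3 : z ∈ span F {x, y}
  · rw [Bl, Bl, T.congr x y x z h ⟨h.1, h2⟩ (subset_span (by simp)) h3]
  · have h4 : Sp T x y z := ⟨⟨h, h3⟩, h1⟩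
    rw [(h4.Bl hp hf hc).2, (h4.s23.Bl hp hf hc).2, sup_comm (T.W x z),
      W_comm h4.s12.s23.1.1]

theorem Sp.inf5 (hp : PL G) (hf : TF T 4) (hc : T.Cod 4) {x y z z' : V} (h : Sp T x y z)
    (h1 : z' ∈ T.W x y) (h2 : z' ∉ span F {x, y, z}) :
    (T.W x y ⊔ T.W x z) ⊓ (T.W x y ⊔ T.W x z') = T.W x y := by
  have h3 := finrank_sup_add_finrank_inf_eq (T.W x y ⊔ T.W x z) (T.W x y ⊔ T.W x z')
  rw [h.rk_sup hf hc, (h.other h1 h2).rk_sup hf hc, ← sup_sup_distrib_left, ← sup_assoc,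
    ← Bl_eq hf h h1 h2, (h.Bl hp hf hc).1] at h3
  exact (eq_of_le_of_finrank_le (le_inf le_sup_left le_sup_left)
    (by rw [hf.rk x y h.1.1]; omega)).symm

theorem Bl_cover (hp : PL G) (hf : TF T 4) (hc : T.Cod 4) {x y t : V} (h : Ind F x y)
    (ht : t ∈ Bl T x y) : ∃ a ∈ T.W x y, t ∈ T.W x a := by
  obtain ⟨z, hz, hz'⟩ := T.nt x y h
  have h0 : Sp T x y z := ⟨⟨h, hz'⟩, hz⟩
  obtain ⟨z', h1, h2⟩ := H62.exists_mem_notMem (Z := span F {x, y, z}) (W := T.W x y)
    (by rw [rk_triple h0.1, hf.rk x y h]; omega)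
  have h3 := h0.other h1 h2
  have hm : ∀ c : F, z' + c • z ∈ T.W x y := fun c => add_mem h1 (smul_mem _ c hz)
  have hn : ∀ c : F, z' + c • z ∉ span F {x, y, z} := fun c h4 =>
    h2 (by simpa using sub_mem h4 (smul_mem _ c (subset_span (by simp) : z ∈ span F {x, y, z})))
  have hs : ∀ c : F, Sp T x y (z' + c • z) := fun c => h0.other (hm c) (hn c)
  have key : ∀ s, Sp T x y s → t ∈ T.W x y ⊔ T.W x s → ∃ a ∈ T.W x y, t ∈ T.W x a :=
    fun s h4 h5 => by
      rcases h4.cover hf hc h5 with h6 | ⟨c, h6⟩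
      exacts [⟨y, T.right x y h.1, h6⟩, ⟨_, (h4.add c).2, h6⟩]
  rcases cover2 (P := T.W x y) (B := T.W x y ⊔ T.W x z) (S := Bl T x y)
    (A := fun c => T.W x y ⊔ T.W x (z' + c • z)) le_sup_left
    (sup_le (le_Bl (T.right x y h.1)) (le_Bl hz)) (by rw [h0.rk_sup hf hc, hf.rk x y h])
    (by rw [(h0.Bl hp hf hc).1, hf.rk x y h]) (fun _ => le_sup_left)
    (fun c => sup_le (le_Bl (T.right x y h.1)) (le_Bl (hm c))) (fun c h4 => by
      have h5 := h0.inf5 hp hf hc (hm c) (hn c)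
      have h6 := (hs c).rk_sup hf hc
      rw [inf_eq_right.2 h4] at h5
      rw [h5, hf.rk x y h] at h6
      omega) (fun c c' h4 => by
      refine ((hs c).inf5 hp hf hc (hm c') fun h5 => hn c ?_).trans_le le_sup_left
      have h6 : z ∈ span F {x, y, z' + c • z} := by
        rw [← smul_mem_iff _ (sub_ne_zero.2 h4.symm)]
        convert sub_mem h5 (subset_span (by simp) : z' + c • z ∈ span F {x, y, z' + c • z})
          using 1
        module
      have h7 : span F {x, y, z} = span F {x, y, z' + c • z} := eq_of_le_of_finrank_le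
        (span_le.2 (Set.insert_subset (subset_span (by simp)) (Set.insert_subset
          (subset_span (by simp)) (Set.singleton_subset_iff.2 h6))))
        (by rw [rk_triple h0.1, rk_triple (hs c).1])
      exact h7 ▸ subset_span (by simp)) ht with h4 | ⟨c, h4⟩
  exacts [key z h0 h4, key _ (hs c) h4]

theorem W_le_Bl (hp : PL G) (hf : TF T 4) (hc : T.Cod 4) {x y t : V} (h : Ind F x y)
    (ht : t ∈ Bl T x y) (h1 : t ∉ F ∙ x) : T.W x t ≤ Bl T x y := by
  obtain ⟨a, ha, h2⟩ := Bl_cover hp hf hc h ht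
  have h3 : a ∉ F ∙ x := fun h3 => h1 (T.dep x a h3 ▸ h2)
  rw [← Bl_adj hp hf hc h ha h3]
  exact le_Bl h2

theorem rk_inf_le (hp : PL G) (hf : TF T 4) (hc : T.Cod 4) {x t t' : V} (h : Ind F x t)
    (h1 : t' ∉ T.W x t) : finrank F ↥(T.W x t ⊓ T.W x t') ≤ 2 := by
  by_contra h2
  have hx : x ∈ T.W x t ⊓ T.W x t' := ⟨T.left _ _, T.left _ _⟩
  have ht : t ∉ T.W x t ⊓ T.W x t' := fun h3 => h1 (T.symm x t' t h.1 h.2 h3.2)
  obtain ⟨m, hm, hm'⟩ := H62.exists_mem_notMem (Z := F ∙ x) (W := T.W x t ⊓ T.W x t')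
    (by rw [finrank_span_singleton h.1]; omega)
  obtain ⟨m', hn, hn'⟩ := H62.exists_mem_notMem (Z := span F {x, m}) (W := T.W x t ⊓ T.W x t')
    (by rw [rk_pair ⟨h.1, hm'⟩]; omega)
  have h3 : Sp T x t m := ⟨i23 ⟨⟨h.1, hm'⟩, fun h3 => ht (span_le.2 (Set.insert_subset hx
    (Set.singleton_subset_iff.2 hm)) h3)⟩, hm.1⟩
  have h4 : m' ∉ span F {x, t, m} := fun h4 => by
    obtain ⟨a, b, c, rfl⟩ := mem_span_triple.1 h4
    by_cases hb : b = 0
    · exact hn' (mem_span_pair.2 ⟨a, c, by simp [hb]⟩)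
    · refine ht ((smul_mem_iff _ hb).1 ?_)
      convert sub_mem (sub_mem hn (smul_mem _ a hx)) (smul_mem _ c hm) using 1
      module
  refine h1 (h3.inf5 hp hf hc hn.1 h4 ▸ ⟨mem_sup_right (T.symm x t' m h.1 hm' hm.2),
    mem_sup_right (T.symm x t' m' h.1 (fun h5 => hn' (span_mono (by simp) h5)) hn.2)⟩)

omit [Finite F] in
theorem rk_comap {D S : Submodule F V} {x : V} {φ : Dual F V} (h : φ x = 1) (hx : x ∈ S)
    (hS : S ≤ D) : finrank F (S.comap (D ⊓ LinearMap.ker φ).subtype) + 1 = finrank F S := by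
  rw [← finrank_map_subtype_eq, map_comap_subtype, inf_right_comm, inf_eq_right.2 hS]
  have h1 := H62.finrank_le_finrank_inf_ker_add_one S φ
  have h2 : S ⊓ LinearMap.ker φ < S := lt_of_le_of_ne inf_le_left fun h2 => by
    have : φ x = 0 := (h2.ge hx).2
    simp [h] at this
  have h3 := finrank_lt_finrank_of_lt h2
  omega

theorem jobR4 : JobR4.{u, v} := fun hP F _ _ V _ _ _ G T hp hf hc h2 => by
  have : Nontrivial V := Module.nontrivial_of_finrank_pos (R := F) (by omega)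
  obtain ⟨x, hx⟩ := exists_ne (0 : V)
  obtain ⟨y, h⟩ := exists_ind h2 hx
  obtain ⟨z, hz, hz'⟩ := T.nt x y h
  have h6 := (Sp.Bl hp hf hc ⟨⟨h, hz'⟩, hz⟩).1
  obtain ⟨φ, hφ⟩ := H62.exists_dual_of_ne_zero (F := F) hx
  have hxD : x ∈ Bl T x y := le_Bl (T.right x y hx) (T.left _ _)
  have hn : ∀ a : ↥(Bl T x y ⊓ LinearMap.ker φ), a ≠ 0 → (a : V) ∉ F ∙ x := fun a ha h3 => by
    obtain ⟨c, hc⟩ := mem_span_singleton.1 h3
    have h4 : φ a = 0 := a.2.2
    rw [← hc, map_smul, hφ, smul_eq_mul, mul_one] at h4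
    exact ha (Subtype.ext (by rw [← hc, h4, zero_smul]; rfl))
  have hle : ∀ a : ↥(Bl T x y ⊓ LinearMap.ker φ), a ≠ 0 → T.W x a ≤ Bl T x y := fun a ha =>
    W_le_Bl hp hf hc h a.2.1 (hn a ha)
  have hi : ∀ a b : ↥(Bl T x y ⊓ LinearMap.ker φ), a ≠ 0 →
      finrank F ↥((T.W x a).comap (Bl T x y ⊓ LinearMap.ker φ).subtype ⊓
        (T.W x b).comap (Bl T x y ⊓ LinearMap.ker φ).subtype) + 1 =
      finrank F ↥(T.W x a ⊓ T.W x b) := fun a b ha => by
    rw [← comap_inf]
    exact rk_comap hφ ⟨T.left _ _, T.left _ _⟩ (inf_le_left.trans (hle a ha))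
  refine hP F ↥(Bl T x y ⊓ LinearMap.ker φ)
    (fun a => (T.W x a).comap (Bl T x y ⊓ LinearMap.ker φ).subtype) ?_ (fun a => T.right x a hx)
    (fun c a hc => by rw [coe_smul, W_smul hx hc]) (fun a b _ hb h3 => T.symm x a b hx (hn b hb) h3)
    (fun a ha => ?_) (fun a b ha h3 h4 => ?_) (fun a b ha h3 => ?_)
  · have h3 := rk_comap hφ hxD le_rfl
    rw [comap_subtype_eq_top.2 inf_le_left, finrank_top] at h3
    omega
  · have h3 := rk_comap hφ (T.left x a) (hle a ha)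
    rw [hf.rk x a ⟨hx, hn a ha⟩] at h3
    omega
  · have h5 := hc x a b ⟨⟨hx, hn a ha⟩, fun h5 => h4 ?_⟩ h3
    · have h7 := hi a b ha
      omega
    · obtain ⟨c, d, h7⟩ := mem_span_pair.1 h5
      have h8 := congrArg φ h7
      rw [map_add, map_smul, map_smul, hφ, show φ a = 0 from a.2.2, show φ b = 0 from b.2.2] at h8
      refine mem_span_singleton.2 ⟨d, Subtype.ext ?_⟩
      rw [← h7, show c = 0 by simpa using h8]
      simp
  · have hb : b ≠ 0 := fun h4 => h3 (h4 ▸ zero_mem _)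
    have h4 := rk_inf_le (t' := b) hp hf hc ⟨hx, hn a ha⟩ h3
    have h5 := finrank_sup_add_finrank_inf_eq (T.W x a) (T.W x b)
    have h7 := finrank_mono (sup_le (hle a ha) (hle b hb))
    have h8 := hi a b ha
    rw [hf.rk x a ⟨hx, hn a ha⟩, hf.rk x b ⟨hx, hn b hb⟩] at h5
    omega

end H86.CK4
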