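import Cfsg.Agent.H86.NUDef
import Cfsg.Agent.H78.NU1
import Cfsg.Agent.H9.UfK4

/-! STD-F4, `N(U*) ≤ M`: the type-free lemmas. -/

set_option autoImplicit false
set_option linter.unusedSectionVars false

namespace H86.NU

open H98 Subgroup H64.SG
open H67.SA (cm cm_eq_one)
open H9.UF (cz_le of_conj le_of_pg pg_zp mem_nor_zp)
open H78.NU (le_of_odd le_of_le_sup_comm)

universe u

section Self

variable {Q : Type*} [Group Q] [Finite Q]

theorem mem_zp {t x : Q} (h1 : t * t = 1) (hx : x ∈ zpowers t) : x = 1 ∨ x = t := by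
  obtain ⟨k, rfl⟩ := mem_zpowers_iff.1 hx
  have h2 : t ^ (2 : ℤ) = 1 := by rw [zpow_two, h1]
  obtain ⟨j, rfl | rfl⟩ := Int.even_or_odd' k
  · left; rw [zpow_mul, h2, one_zpow]
  · right; rw [zpow_add, zpow_mul, h2, one_zpow, one_mul, zpow_one]

theorem cz_of_nor {t x : Q} (h1 : t * t = 1) (h0 : t ≠ 1) (hx : x ∈ Ns (zpowers t)) :
    t * x = x * t := by
  rcases mem_zp h1 (conj_mem_of_mem_normalizer hx (mem_zpowers t)) with e | e
  · exact absurd (by simpa using e) h0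
  · exact (mul_inv_eq_iff_eq_mul.1 e).symm

/-- If an involution is self-centralising then the elements of odd order commute. -/
theorem comm_of_self {t : Q} (h1 : t * t = 1) (h0 : t ≠ 1)
    (hc : ∀ x, t * x = x * t → x = 1 ∨ x = t) {a b : Q} (ha : Odd (orderOf a))
    (hb : Odd (orderOf b)) : a * b = b * a := by
  have k0 : Ns (zpowers t) ≤ zpowers t := fun x hx => by
    rcases hc x (cz_of_nor h1 h0 hx) with rfl | rfl
    exacts [one_mem _, mem_zpowers _]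
  obtain ⟨P, hP⟩ := isSyl_top_iff.1 (isSyl_of_isSyl_normalizer (p := 2) (Q := zpowers t) (H := ⊤) (by
    rw [top_inf_eq, show normalizer _ = zpowers t from le_antisymm k0 le_normalizer]
    exact isSyl_self (pg_zp h1)))
  have k1 : normalizer ((P : Subgroup Q) : Set Q) ≤ centralizer ((P : Subgroup Q) : Set Q) := by
    rw [hP]; exact fun x hx => mem_Cs_zpowers.2 (cz_of_nor h1 h0 hx)
  set f := MonoidHom.transferSylow P k1
  have k2 : ∀ x, Odd (orderOf x) → x ∈ f.ker := fun x hx =>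
    Is2.eq_one (P.2 (f x)) (hx.of_dvd_nat (orderOf_map_dvd f x))
  have k3 : t ∉ f.ker := fun h => h0 (disjoint_def.1
    (MonoidHom.ker_transferSylow_disjoint P k1 _ (pg_zp h1)) h (mem_zpowers t))
  have k4 : ∀ r ∈ f.ker, t * r * t⁻¹ = r⁻¹ := fun r hr => by
    let g : f.ker → f.ker := fun k => ⟨k * (t * (k : Q)⁻¹ * t⁻¹),
      mul_mem k.2 (f.normal_ker.conj_mem _ (inv_mem k.2) t)⟩
    have hi : Function.Injective g := fun x y h => by
      have e : (x : Q) * (t * (x : Q)⁻¹ * t⁻¹) = y * (t * (y : Q)⁻¹ * t⁻¹) := congrArg Subtype.val h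
      rcases hc ((y : Q)⁻¹ * x) (by
        calc t * ((y : Q)⁻¹ * x) = (y : Q)⁻¹ * (y * (t * (y : Q)⁻¹ * t⁻¹)) * t * x := by group
          _ = _ := by rw [← e]; group) with e' | e'
      · exact Subtype.ext (inv_mul_eq_one.1 e').symm
      · exact absurd (e' ▸ mul_mem (inv_mem y.2) x.2) k3
    obtain ⟨k, hk⟩ := Finite.surjective_of_injective hi ⟨r, hr⟩
    rw [← show (k : Q) * (t * (k : Q)⁻¹ * t⁻¹) = r from congrArg Subtype.val hk]
    calc _ = t * k * t⁻¹ * (t * t) * (k : Q)⁻¹ * (t * t)⁻¹ := by group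
      _ = _ := by rw [h1]; group
  have := k4 _ (mul_mem (k2 a ha) (k2 b hb))
  rw [← conj_mul, k4 _ (k2 a ha), k4 _ (k2 b hb), ← mul_inv_rev, inv_inj] at this
  exact this.symm

end Self

variable {G : Type u} [Group G] [Finite G] {M U : Subgroup G} {t : G}

theorem inv_conj {a b : G} (ha : a * a = 1) (hb : b * b = 1) : b * (a * b) * b⁻¹ = (a * b)⁻¹ := by
  rw [mul_inv_rev, ← mul_eq_one_iff_eq_inv.1 hb, ← mul_eq_one_iff_eq_inv.1 ha, mul_assoc, mul_assoc,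
    hb, mul_one]

theorem pg_dih {d : G} (h1 : t * t = 1) (hd : Is2 d) (h : t * d * t⁻¹ = d⁻¹) :
    IsPGroup 2 ↥(zpowers t ⊔ zpowers d) :=
  (pg_zp h1).to_sup_of_normal_right' hd.zpowers (zpowers_le.2 (mem_nor_zp h))

/-- It is enough to look at the elements of odd order inverted by `t`. -/
theorem le_of_inv (uf : UF M t) (ht : t ∈ Ns U)
    (h : ∀ k ∈ Ns U, Odd (orderOf k) → t * k * t⁻¹ = k⁻¹ → k ∈ M) : Ns U ≤ M := fun n hn => by
  have h1 : n * t * n⁻¹ * (n * t * n⁻¹) = 1 := by rw [conj_mul, uf.inv.1]; simp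
  have h2 := inv_conj h1 uf.inv.1
  have h3 : n * t * n⁻¹ * t ∈ Ns U := mul_mem (mul_mem (mul_mem hn ht) (inv_mem hn)) ht
  refine uf.uf n ((mul_mem_cancel_right uf.mem).1 ?_)
  generalize n * t * n⁻¹ * t = d at h2 h3
  obtain ⟨i, j, e, e1, e2⟩ := exists_two_odd d
  rw [e]
  exact mul_mem (le_of_pg uf (pg_dih uf.inv.1 e1 (by rw [← conj_pow, h2, inv_pow]))
    (mem_sup_left (mem_zpowers t)) (mem_sup_right (mem_zpowers _)))
    (h _ (pow_mem h3 j) e2 (by rw [← conj_pow, h2, inv_pow]))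

section Sec

variable {ι : Type} (U) (S T : ι → Subgroup G) (hT : ∀ i, Ns U ≤ Ns (T i))

/-- The elements of `N(U)` that act trivially on the sections `S i / T i`. -/
def NT : Subgroup G where
  carrier := {n | n ∈ Ns U ∧ ∀ i, ∀ s ∈ S i, cm n s ∈ T i}
  one_mem' := ⟨one_mem _, fun i s _ => by simp [cm]⟩
  mul_mem' {a b} ha hb := ⟨mul_mem ha.1 hb.1, fun i s hs => by
    rw [show cm (a * b) s = a * cm b s * a⁻¹ * cm a s by simp only [cm]; group]
    exact mul_mem (conj_mem_of_mem_normalizer (hT i ha.1) (hb.2 i s hs)) (ha.2 i s hs)⟩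
  inv_mem' {a} ha := ⟨inv_mem ha.1, fun i s hs => by
    rw [show cm a⁻¹ s = a⁻¹ * (cm a s)⁻¹ * a by simp only [cm]; group]
    exact conj_mem_of_mem_normalizer' (hT i ha.1) (inv_mem (ha.2 i s hs))⟩

variable {U S T}

theorem NT_le : NT U S T hT ≤ Ns U := fun _ h => h.1

theorem NT_nor (hS : ∀ i, Ns U ≤ Ns (S i)) : Ns U ≤ Ns (NT U S T hT) := fun g hg =>
  mem_normalizer_of_cj_le (by
    rintro _ ⟨n, hn, rfl⟩
    refine ⟨mul_mem (mul_mem hg hn.1) (inv_mem hg), fun i s hs => ?_⟩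
    have := conj_mem_of_mem_normalizer (hT i hg)
      (hn.2 i _ (conj_mem_of_mem_normalizer' (hS i hg) hs))
    simpa [cm, mul_assoc] using this)

theorem Cs_le_NT (hS : ∀ i, S i ≤ U) : Cs U ≤ NT U S T hT := fun g hg =>
  ⟨Cs_le_Ns U hg, fun i s hs => by rw [cm_eq_one.2 (hg s (hS i hs)).symm]; exact one_mem _⟩

/-- Coprime action on a section. -/
theorem exists_fix {n : G} (hn : n ∈ NT U S T hT) (ho : Odd (orderOf n)) {i : ι}
    (h2 : IsPGroup 2 (T i)) {s : G} (hs : s ∈ S i) : ∃ w ∈ T i, w * s ∈ Cz n := by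
  obtain ⟨e, he⟩ := h2.exists_card_eq
  obtain ⟨w, w1, w2⟩ := H1.exists_centralizer_mem_coset' (A := zpowers n) (N := T i)
    (zpowers_le.2 (hT i hn.1))
    (by rw [he, Nat.card_zpowers]; exact (Nat.coprime_two_right.2 ho).pow_right e)
    (Or.inl inferInstance) s fun b hb => (zpowers_le.2 hn hb).2 i s hs
  exact ⟨w, w1, mem_Cz.2 (mem_Cs_zpowers.1 w2)⟩

end Sec

/-- The stabiliser of a flag `U ≥ W₁ ≥ W₂`, `W₂ ≤ U'`, lies in `M`. -/
theorem mem_of_flag (uf : UF M t) (ht : t ∈ Ns U) (hU : IsPGroup 2 U) (hc : Cs U ≤ M)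
    {W₁ W₂ : Subgroup G} (l1 : W₁ ≤ U) (l2 : W₂ ≤ ⁅U, U⁆) (n1 : Ns U ≤ Ns W₁) (n2 : Ns U ≤ Ns W₂)
    {n : G} (hn : n ∈ Ns U) (h1 : ∀ s ∈ U, cm n s ∈ W₁) (h2 : ∀ s ∈ W₁, cm n s ∈ W₂) : n ∈ M := by
  have hT : ∀ i : Bool, Ns U ≤ Ns (bif i then W₁ else W₂) := fun i => by cases i <;> assumption
  have l3 := l2.trans (commutator_le_self U)
  refine le_of_odd uf (H := NT U (fun i => bif i then U else W₁) _ hT)
    (NT_nor hT (fun i => by cases i; exacts [n1, le_rfl]) ht) (fun g hg ho => hc fun u hu => ?_)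
    ⟨hn, fun i => by cases i <;> assumption⟩
  refine (mem_Cz.1 (le_of_le_sup_comm hU (C := U ⊓ Cz g) inf_le_left (fun v hv => ?_) hu).2).symm
  obtain ⟨w, w1, w2⟩ := exists_fix hT hg ho (i := true) (hU.to_le l1) hv
  obtain ⟨z, z1, z2⟩ := exists_fix hT hg ho (i := false) (hU.to_le l3) w1
  rw [show v = (z * w)⁻¹ * z * (w * v) by group]
  exact mul_mem (mul_mem (inv_mem (mem_sup_left ⟨mul_mem (l3 z1) (l1 w1), z2⟩))
    (mem_sup_right (l2 z1))) (mem_sup_left ⟨mul_mem (l1 w1) hv, w2⟩)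

/-- Coprime action of a group generated by two commuting elements of square `1`. -/
theorem four {O L : Subgroup G} {a b : G} (ha : a * a = 1) (hb : b * b = 1) (hc : a * b = b * a)
    (hO : Odd (Nat.card O)) (na : a ∈ Ns O) (nb : b ∈ Ns O) (h1 : O ⊓ Cz a ≤ L) (h2 : O ⊓ Cz b ≤ L)
    (h3 : O ⊓ Cz (a * b) ≤ L) : O ≤ L := by
  have k : ∀ {x : G}, x = 1 → O ⊓ Cz x ≤ L → O ≤ L := fun e h g hg => h ⟨hg, mem_Cz.2 (by simp [e])⟩
  by_cases e1 : a = 1
  · exact k e1 h1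
  by_cases e2 : b = 1
  · exact k e2 h2
  by_cases e3 : a = b
  · exact k (e3 ▸ ha) h3
  exact H14.le_of_four (orderOf_eq_prime (by rw [pow_two, ha]) e1)
    (orderOf_eq_prime (by rw [pow_two, hb]) e2) hc e3 (Nat.coprime_two_right.2 hO) na nb h1 h2 h3

/-- `N(P) ≤ N(D)` by the `Z*` lemma. -/
theorem nor_le {P D : Subgroup G} (uf : UF M t) (tP : t ∈ Ns P) (DP : D ≤ Ns P) (Dt : D ≤ Cz t)
    (hN : ∀ m ∈ M, m ∈ Ns P → m ∈ Ns D)
    (hC : ∀ x ∈ Cs D, x ∈ Cz t → Is2 x → x = 1 ∨ x = t)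
    (hO : ∀ N ≤ D, Odd (Nat.card N) → D ≤ Ns N → N = ⊥)
    (V : G → Prop) (hV : ∀ v, V v → v * v = 1 ∧ v ∈ Ns P ∧ t * v = v * t ∧ IsConj t (t * v))
    (hg : ∀ K : Subgroup G, D ≤ Ns K →
      (∀ v v', V v → V v' → v * v' = v' * v → v * v' ∈ D → v * v' ∈ K) → D ≤ K) : Ns P ≤ Ns D := by
  have tD : t ∈ Cs D := fun d hd => (mem_Cz.1 (Dt hd)).symm
  obtain ⟨O, o1, o2, o3, o4⟩ := H9.UF.jobK5 uf (IsConj.refl t) uf.mem (Ns P) ⊥ tP bot_le
    (le_normalizer_bot _) IsPGroup.of_bot (fun h _ _ => by simp) fun m h1 h2 h3 => by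
      have e1 : m * t * m⁻¹ * (m * t * m⁻¹) = 1 := by rw [conj_mul, uf.inv.1]; simp
      have e2 := inv_conj e1 uf.inv.1
      have e3 : m * t * m⁻¹ * t ∈ Cs D := mul_mem (conj_mem_of_mem_normalizer
        (normalizer_le_normalizer_centralizer D (hN m h2 h1)) tD) tD
      have e4 : m * t * m⁻¹ * t ≠ t := fun e => uf.inv.2 (by simpa using e)
      rw [← mul_eq_one_iff_eq_inv.1 uf.inv.1] at h3 ⊢
      generalize m * t * m⁻¹ * t = d at e2 e3 e4 h3
      rcases (le_sup_left : zpowers t ≤ zpowers t ⊔ zpowers d).eq_or_lt with e | e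
      · exact (mem_zp uf.inv.1 (e ▸ mem_sup_right (mem_zpowers d))).resolve_right e4
      obtain ⟨x, x1, x2⟩ := SetLike.exists_of_lt (lt_inf_normalizer (pg_dih uf.inv.1 h3 e2) e)
      rcases hC x (sup_le (zpowers_le.2 tD) (zpowers_le.2 e3) x1.1)
        (mem_Cz.2 (cz_of_nor uf.inv.1 uf.inv.2 x1.2))
        (isPGroup_iff_is2.1 (pg_dih uf.inv.1 h3 e2) x x1.1) with rfl | rfl
      exacts [absurd (one_mem _) x2, absurd (mem_zpowers _) x2]
  have k1 : O ⊓ M ≤ Cs D := fun o ho d hd => by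
    have := hO (O ⊓ D) inf_le_right (o3.of_dvd_nat (card_dvd_of_le inf_le_left))
      (le_normalizer_inf (DP.trans o2) le_normalizer)
    refine cm_eq_one.1 (mem_bot.1 (this ▸ mem_inf.2 ⟨mul_mem
      (conj_mem_of_mem_normalizer (o2 (DP hd)) ho.1) (inv_mem ho.1), ?_⟩))
    rw [show cm d o = d * (o * d⁻¹ * o⁻¹) by simp only [cm]; group]
    exact mul_mem hd (conj_mem_of_mem_normalizer (hN o ho.2 (o1 ho.1)) (inv_mem hd))
  have k2 : D ≤ Cs O := hg _ (le_normalizer_centralizer (DP.trans o2)) fun v v' h1 h2 e hd => by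
    obtain ⟨a1, a2, a3, a4⟩ := hV v h1
    obtain ⟨b1, b2, b3, b4⟩ := hV v' h2
    have k3 : ∀ {a : G}, IsConj t a → a ∈ M → O ⊓ Cz a ≤ Cz (v * v') := fun c m o ho =>
      mem_Cz.2 (k1 ⟨ho.1, cz_le (of_conj uf c m) ho.2⟩ _ hd)
    have k4 : ∀ {a : G}, t * a = a * t → t * a ∈ M := fun e =>
      mul_mem uf.mem (cz_le uf (mem_Cz.2 e))
    have k5 : ∀ {a : G}, a ∈ Ns P → v * a = a * v → a ∈ Ns (O ⊓ Cz v) := fun h e =>
      le_normalizer_inf (zpowers_le.2 (o2 h)) (le_normalizer_of_le (zpowers_le.2 (mem_Cz.2 e)))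
        (mem_zpowers _)
    refine fun o ho => (mem_Cz.1 (four uf.inv.1 a1 a3 o3 (o2 tP) (o2 a2) (k3 (IsConj.refl t) uf.mem)
      (four uf.inv.1 b1 b3 (o3.of_dvd_nat (card_dvd_of_le inf_le_left)) (k5 tP a3.symm) (k5 b2 e)
        ((inf_le_inf_right _ inf_le_left).trans (k3 (IsConj.refl t) uf.mem)) (fun x hx => ?_)
        ((inf_le_inf_right _ inf_le_left).trans (k3 b4 (k4 b3)))) (k3 a4 (k4 a3)) ho)).symm
    rw [mem_Cz, mul_assoc, mem_Cz.1 hx.2, ← mul_assoc, mem_Cz.1 hx.1.2, mul_assoc]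
  intro g hg
  obtain ⟨o, h1, m, h2, h3, rfl⟩ := o4 g hg
  exact mul_mem (Cs_le_Ns D (le_centralizer_iff.1 k2 h1)) (hN m h3 h2)

/-- `N₁ / U C` has a self-centralising involution; move `k` into the normaliser of `⟨h⟩ C`. -/
theorem le_of_tor {C N : Subgroup G} {h : G} (uf : UF M t) (hU : IsPGroup 2 U)
    (syl : Syl (U ⊔ zpowers t) M) (oC : Odd (Nat.card C)) (CU : C ≤ Cs U)
    (hC : ∀ g ∈ Cs U, Odd (orderOf g) → g ∈ C) (UN : U ≤ N) (CN : C ≤ N) (tN : t ∈ N) (hN : h ∈ N)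
    (oh : Odd (orderOf h)) (n1 : N ≤ Ns U) (n2 : Ns U ≤ Ns N)
    (hc : ∀ g ∈ N, g ∈ Cz t → Odd (orderOf g) → g ∈ C)
    (cob : ∀ v ∈ U, IsConj t (v * t) → ∃ w ∈ U, v * t = w * t * w⁻¹)
    (hP : Ns (zpowers h ⊔ C) ⊓ Ns U ≤ M) : Ns U ≤ M := by
  have UM : U ≤ M := le_sup_left.trans syl.1
  by_cases tU : t ∈ U
  · exact fun n hn => uf.uf n (UM (conj_mem_of_mem_normalizer hn tU))
  have nC : Ns U ≤ Ns C := fun g hg => mem_normalizer_of_cj_le (by
    rintro _ ⟨c, hc, rfl⟩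
    exact hC _ (conj_mem_of_mem_normalizer (normalizer_le_normalizer_centralizer U hg) (CU hc))
      (by rw [MulEquiv.toMonoidHom_eq_coe, MonoidHom.coe_coe, MulEquiv.orderOf_eq]
          exact odd_orderOf_of_mem oC hc))
  have dec : ∀ x ∈ U ⊔ C, ∃ u ∈ U, ∃ c ∈ C, x = u * c := fun x hx =>
    (mem_sup_right_norm (CU.trans (Cs_le_Ns U))).1 hx
  have one : ∀ c ∈ C, c ∈ U → c = 1 := fun c h1 h2 =>
    (isPGroup_iff_is2.1 hU c h2).eq_one (odd_orderOf_of_mem oC h1)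
  have : ((U ⊔ C).subgroupOf N).Normal := normal_subgroupOf_of_le_normalizer
    (le_normalizer_sup n1 (n1.trans nC))
  let π := QuotientGroup.mk' ((U ⊔ C).subgroupOf N)
  have ker : ∀ x : N, π x = 1 ↔ (x : G) ∈ U ⊔ C := fun x => QuotientGroup.eq_one_iff x
  have t0 : π ⟨t, tN⟩ ≠ 1 := fun e => by
    obtain ⟨u, hu, c, hc, e⟩ := dec t ((ker _).1 e)
    have e1 : u * u * (c * c) = 1 := by
      rw [← uf.inv.1, e, mul_assoc, mul_assoc, ← mul_assoc u c c, ← mul_assoc c u c, CU hc u hu]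
    have e2 := mem_of_sq_mem (K := U) (eq_inv_of_mul_eq_one_right e1 ▸ inv_mem (mul_mem hu hu))
      (odd_orderOf_of_mem oC hc)
    exact tU (e ▸ mul_mem hu e2)
  have self : ∀ x, π ⟨t, tN⟩ * x = x * π ⟨t, tN⟩ → x = 1 ∨ x = π ⟨t, tN⟩ := fun x hx => by
    obtain ⟨x, rfl⟩ := QuotientGroup.mk'_surjective _ x
    obtain ⟨u, hu, c, hc', e⟩ := dec _ ((ker (x * ⟨t, tN⟩ * x⁻¹ * ⟨t, tN⟩⁻¹)).1 (by
      simp only [map_mul, map_inv]
      rw [mul_inv_eq_one, mul_inv_eq_iff_eq_mul]; exact hx.symm))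
    replace e : (x : G) * t * (x : G)⁻¹ = u * c * t := mul_inv_eq_iff_eq_mul.1 e
    have c1 := conj_mem_of_mem_normalizer (nC (n1 tN)) hc'
    have u1 := conj_mem_of_mem_normalizer (n1 tN) hu
    have e1 : u * (t * u * t⁻¹) * (c * (t * c * t⁻¹)) = 1 := by
      have : u * c * t * (u * c * t) = 1 := by rw [← e, conj_mul, uf.inv.1]; simp
      rw [mul_assoc, ← mul_assoc _ c, CU hc' _ u1, ← this, ← mul_eq_one_iff_eq_inv.1 uf.inv.1]
      calc _ = u * c * t * u * (t * t) * c * t := by group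
        _ = _ := by rw [uf.inv.1]; group
    have e2 := one _ (mul_mem hc' c1) (eq_inv_of_mul_eq_one_right e1 ▸ inv_mem (mul_mem hu u1))
    obtain ⟨j, hj⟩ := odd_orderOf_of_mem oC hc'
    have e3 : c ^ j * (u * c * t) * (c ^ j)⁻¹ = u * t := by
      have e4 : t * (c ^ j)⁻¹ * t⁻¹ = c ^ j := by
        rw [← conj_inv, ← conj_pow, eq_inv_of_mul_eq_one_right e2, inv_pow, inv_inv]
      have e5 : c ^ j * c * c ^ j = 1 := by
        rw [← pow_succ, ← pow_add, ← pow_orderOf_eq_one c, hj]; congr 1; ring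
      calc _ = c ^ j * u * c * (t * (c ^ j)⁻¹ * t⁻¹) * t := by group
        _ = u * (c ^ j * c * c ^ j) * t := by
          rw [e4, ← CU (pow_mem hc' j) u hu]; group
        _ = _ := by rw [e5, mul_one]
    obtain ⟨w, hw, e6⟩ := cob u hu (isConj_iff.2 ⟨c ^ j * x, by rw [← e3, ← e]; group⟩)
    have y1 : w⁻¹ * c ^ j * x ∈ N := mul_mem (mul_mem (inv_mem (UN hw)) (CN (pow_mem hc' j))) x.2
    have y2 : w⁻¹ * c ^ j * x ∈ Cz t := mem_Cz.2 (by
      calc _ = w⁻¹ * (w * t * w⁻¹) * c ^ j * x := by group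
        _ = _ := by rw [← e6, ← e3, ← e]; group)
    obtain ⟨i, l, e7, e8, e9⟩ := exists_two_odd (w⁻¹ * c ^ j * x)
    have y3 := hc _ (pow_mem y1 l) (pow_mem y2 l) e9
    have y4 : (w⁻¹ * c ^ j * x) ^ i ∈ U ⊔ zpowers t :=
      (syl_iff.1 syl).le_of_le_normalizer' e8.zpowers (zpowers_le.2 (cz_le uf (pow_mem y2 i)))
        (le_normalizer_sup (zpowers_le.2 (n1 (pow_mem y1 i))) (le_normalizer_of_le_centralizer
          (zpowers_le.2 (mem_Cs_zpowers.2 (mem_Cz.1 (pow_mem y2 i)))))) (mem_zpowers _)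
    obtain ⟨a, ha, b, hb, e10⟩ := (mem_sup_right_norm (zpowers_le.2 (n1 tN))).1 y4
    have y5 : π x = π ⟨b, zpowers_le.2 tN hb⟩ := by
      have e11 : (x : G) = (c ^ j)⁻¹ * w * a * b * (w⁻¹ * c ^ j * x) ^ l := by
        rw [mul_assoc _ a, ← e10, mul_assoc, ← e7]; group
      have k : ∀ g (hg : g ∈ U ⊔ C), π ⟨g, sup_le UN CN hg⟩ = 1 := fun g hg => (ker _).2 hg
      rw [show x = ⟨_, sup_le UN CN (mul_mem (mul_mem (mem_sup_right (inv_mem (pow_mem hc' j)))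
        (mem_sup_left hw)) (mem_sup_left ha))⟩ * ⟨b, zpowers_le.2 tN hb⟩ *
          ⟨_, sup_le UN CN (mem_sup_right y3)⟩ from Subtype.ext e11, map_mul, map_mul,
        k _ (mem_sup_right y3), k, one_mul, mul_one]
      exact mul_mem (mul_mem (mem_sup_right (inv_mem (pow_mem hc' j))) (mem_sup_left hw))
        (mem_sup_left ha)
    change π x = 1 ∨ π x = _
    rw [y5]
    rcases mem_zp uf.inv.1 hb with rfl | rfl
    exacts [Or.inl (map_one π), Or.inr rfl]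
  have oP : Odd (Nat.card ↥(zpowers h ⊔ C)) := odd_card_of_forall fun g hg => by
    obtain ⟨a, ha, c, hc, rfl⟩ := (mem_sup_left_norm (zpowers_le.2 (nC (n1 hN)))).1 hg
    refine odd_orderOf_of_pow_mem oC oh ?_
    have : ((C.subgroupOf (Ns C))).Normal := normal_subgroupOf_of_le_normalizer le_rfl
    have a1 : a ∈ Ns C := zpowers_le.2 (nC (n1 hN)) ha
    have := (QuotientGroup.eq_one_iff (N := C.subgroupOf (Ns C))
      ((⟨a, a1⟩ * ⟨c, le_normalizer hc⟩) ^ orderOf h)).1 (by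
        rw [QuotientGroup.mk_pow, QuotientGroup.mk_mul,
          (QuotientGroup.eq_one_iff (⟨c, le_normalizer hc⟩ : Ns C)).2 hc, mul_one,
          ← QuotientGroup.mk_pow, show (⟨a, a1⟩ : Ns C) ^ orderOf h = 1 from Subtype.ext (by
            simpa using orderOf_dvd_iff_pow_eq_one.1 (orderOf_dvd_of_mem_zpowers ha))]
        rfl)
    exact this
  have NM : N ≤ M := le_of_odd uf (le_normalizer tN) fun k hk ho => by
    have o : ∀ g (hg : g ∈ N), Odd (orderOf g) → Odd (orderOf (π ⟨g, hg⟩)) := fun g hg h =>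
      h.of_dvd_nat ((orderOf_map_dvd π _).trans (orderOf_mk _ _).dvd)
    have e := comm_of_self (by rw [← map_mul]; exact (ker _).2 (by simp [uf.inv.1])) t0 self
      (o k hk ho) (o h hN oh)
    obtain ⟨d, hd⟩ := hU.exists_card_eq
    have PN : zpowers h ⊔ C ≤ N := sup_le (zpowers_le.2 hN) CN
    obtain ⟨u, u1, u2⟩ := H1.exists_conj_le_of_le_mul (cj k (zpowers h ⊔ C)) U (zpowers h ⊔ C)
      (cj_le_of_le_of_mem (PN.trans n1) (n1 hk))
      (by rw [hd, card_cj]; exact (Nat.coprime_two_right.2 oP).pow_right d)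
      (Or.inr (have := hU.isNilpotent; inferInstance)) fun a ha => by
        have : cj k (zpowers h ⊔ C) ≤ U ⊔ (zpowers h ⊔ C) := by
          rw [cj_sup, cj_eq_self (nC (n1 hk)), cj, MonoidHom.map_zpowers]
          refine sup_le (zpowers_le.2 ?_) (le_sup_right.trans le_sup_right)
          have := (ker (⟨k, hk⟩ * ⟨h, hN⟩ * ⟨k, hk⟩⁻¹ * ⟨h, hN⟩⁻¹)).1 (by
            simp only [map_mul, map_inv]; rw [e]; group)
          exact (mul_mem_cancel_right (inv_mem (mem_sup_right (mem_sup_left (mem_zpowers h))))).1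
            (sup_le_sup_left le_sup_right U this)
        exact (mem_sup_right_norm (PN.trans n1)).1 (this ha)
    exact (mul_mem_cancel_left (UM u1)).1 (hP ⟨mem_normalizer_of_cj_le (by rw [← cj_cj]; exact u2),
      mul_mem (le_normalizer u1) (n1 hk)⟩)
  exact fun n hn => uf.uf n (NM (conj_mem_of_mem_normalizer (n2 hn) tN))

end H86.NU
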