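import Cfsg.Agent.H64.YEMod
import Cfsg.Agent.H59.SOAll
import Cfsg.Agent.H86.SPIFin

/-! STD-SP (row S3129), endgame: the orthogonal model `X = Stab w ≤ Y = Ω(V, Q)`, `τ` the reflection
in `w`.  Slots for `H64.YE.JobMO`.  Notes: `blueprints/STDSP_O.md`. -/

set_option autoImplicit false
set_option linter.unusedSectionVars false

namespace H86.SPO

open H64.SG (O2 Syl Cz Cs Ns cjs Is2 Inv2 IsO2 fx)
open H64.YE (QS MI M1 M2 M3 ON NA ME MC RD RA RZ OB OH OS OC OU OQ PO LS Ac tw Good Co T2 AllM MB RtO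
  Mod JobNA)
open H67.SP (Lr Sr)
open H67.UA (XU)
open H67.SA (St cm)
open H64.SF (Outer)
open H59.SO (Om Au E gam Lin TS Root Ru Xl Fr Par FA2 FB2 FC2 FG2 FS)
open H56 H58 QuadraticMap Module Subgroup

section Geo

variable {F V : Type} [Field F] [AddCommGroup V] [Module F V] (Q : QuadraticForm F V)

/-- conjugation by the reflection in `a` -/
noncomputable def ta (a : V) : Au Q := gam Q (Gam.ofO Q (refl Q a))

/-- `y` fixes a nonsingular vector. -/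
def Nv (y : Om Q) : Prop := ∃ a, Q a ≠ 0 ∧ y.1 a = a

/-- an Eichler transformation of type `c₂` -/
def Ec (y : Om Q) : Prop :=
  ∃ u a, u ≠ 0 ∧ Q u = 0 ∧ polar Q u a = 0 ∧ Q a ≠ 0 ∧ y = E Q u a

/-- `[V, g] ⊥ [V, h]` -/
def Pr (g h : Om Q) : Prop := ∀ x y, polar Q (g.1 x + x) (h.1 y + y) = 0

/-- the group generated by the `E u a` of type `c₂` with `u, a ⊥ x, y` -/
def Gc (x y : V) : Subgroup (Om Q) := closure {g | ∃ u a, u ≠ 0 ∧ Q u = 0 ∧ polar Q u a = 0 ∧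
  Q a ≠ 0 ∧ polar Q x u = 0 ∧ polar Q x a = 0 ∧ polar Q y u = 0 ∧ polar Q y a = 0 ∧ g = E Q u a}

/-- `E(e, a^⊥)` -/
def R0 (e a : V) : Subgroup (Om Q) :=
  closure {g | ∃ x, polar Q e x = 0 ∧ polar Q a x = 0 ∧ g = E Q e x}

/-- Vectors, reflections, Eichler transformations. -/
structure KG : Prop where
  p3 : ∀ x y z : V, ∃ b, Q b = 1 ∧ polar Q x b = 0 ∧ polar Q y b = 0 ∧ polar Q z b = 0
  p4 : finrank F V ≠ 8 → ∀ x y z s : V, ∃ b, Q b = 1 ∧ polar Q x b = 0 ∧ polar Q y b = 0 ∧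
    polar Q z b = 0 ∧ polar Q s b = 0
  sm : ∀ x y z a : V, Q x = 0 → Q y = 0 → Q z = 0 → Q a = 0 → polar Q x y = 0 → polar Q x z = 0 →
    polar Q y z = 0 → polar Q x a = 0 → polar Q y a = 0 → polar Q z a = 0 →
    ∃ b, polar Q x b = 0 ∧ polar Q y b = 0 ∧ polar Q z b = 0 ∧ Q b ≠ 0 ∧ Q (a + b) ≠ 0
  /-- scaling to norm `1` -/
  nm : ∀ a : V, Q a ≠ 0 → ∃ s : F, s ≠ 0 ∧ Q (s • a) = 1
  w1 : ∀ a b : V, Q a = 1 → Q b = 1 → ∃ g : Om Q, g.1 a = b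
  val : ∀ (a : V) (y : Om Q), (ta Q a y).1 = refl Q a * y.1 * refl Q a
  t2 : ∀ a : V, ta Q a * ta Q a = 1
  tE : ∀ a u x : V, ta Q a (E Q u x) = E Q (refl Q a u) (refl Q a x)
  fx : ∀ (a : V) (y : Om Q), Q a ≠ 0 → (ta Q a y = y ↔ y.1 a = a)
  tw : ∀ (a : V) (g : Om Q), tw (ta Q a) g = ta Q (g.1 a)
  sc : ∀ (a : V) (s : F), s ≠ 0 → ta Q (s • a) = ta Q a
  gm : ∀ (a : V) (T : Gam Q), gam Q T * ta Q a * (gam Q T)⁻¹ = ta Q (T a)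
  out : ∀ a : V, Q a ≠ 0 → Outer (ta Q a)
  inj : ∀ S T : Gam Q, (S.c : F) = 1 → (T.c : F) = 1 → gam Q S = gam Q T → S = T
  /-- a semisimilarity with trivial multiplier and trivial field part is an isometry -/
  iso : ∀ T : Gam Q, (T.c : F) = 1 → T.σ = 1 → ∃ k, T = Gam.ofO Q k
  rr : ∀ a x : V, Q a = 1 → Q x = 0 → polar Q x a = 0 → (E Q x a).1 = refl Q (a + x) * refl Q a
  ec : ∀ y y' : Om Q, Ec Q y → (IsConj y y' ↔ Ec Q y')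
  eg : ∀ (T : Gam Q) (y : Om Q), Ec Q y → Ec Q (gam Q T y)
  en : ∀ y : Om Q, Ec Q y → ¬ Root Q y ∧ Inv2 y ∧ Nv Q y ∧ ∃ x, Q (y.1 x + x) ≠ 0
  rn : ∀ y : Om Q, Root Q y → Nv Q y ∧ ∀ x, Q (y.1 x + x) = 0
  /-- `[V, E u v] ≤ ⟨u, v⟩` -/
  mv : ∀ u v x : V, ∃ a b : F, (E Q u v).1 x + x = a • u + b • v
  cE : ∀ (g : Om Q) (u a : V), u ≠ 0 → Q u = 0 → polar Q u a = 0 → Q a ≠ 0 →
    (g * E Q u a = E Q u a * g ↔ g.1 u = u ∧ ∃ s : F, g.1 a = a + s • u)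
  cG : ∀ (T : Gam Q) (u a : V), (T.c : F) = 1 → u ≠ 0 → Q u = 0 → polar Q u a = 0 → Q a = 1 →
    gam Q T (E Q u a) = E Q u a → T u = u ∧ ∃ s : F, T a = a + s • u

/-- Commuting roots. -/
structure KR : Prop where
  cl : ∀ g h : Om Q, Root Q g → Root Q h → g * h = h * g → Ec Q (g * h) ∨ Pr Q g h
  cf : ∀ g h : Om Q, Root Q g → Root Q h → g * h = h * g → g * h = 1 ∨ Root Q (g * h) →
    ∃ a, Q a ≠ 0 ∧ g.1 a = a ∧ h.1 a = a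
  d8 : finrank F V = 8 → ∀ g h : Om Q, Root Q g → Root Q h → Pr Q g h → Nv Q (g * h) →
    g * h = 1 ∨ Root Q (g * h)
  /-- a root and an involution of type `c₂` that commute -/
  rc : ∀ g h : Om Q, Root Q g → Ec Q h → g * h = h * g → ∃ a, Q a ≠ 0 ∧ g.1 a = a ∧ h.1 a = a

/-- Involutions without nonsingular fixed vectors. -/
structure KN : Prop where
  alt : ∀ y : Om Q, y * y = 1 → ¬ Nv Q y → ∀ x, Q (y.1 x + x) = 0 ∧ polar Q x (y.1 x) = 0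
  im : ∀ y : Om Q, y * y = 1 → ¬ Nv Q y → ∀ m, y.1 m = m ↔ ∃ x, m = y.1 x + x
  cj : ∀ y y' : Om Q, y * y = 1 → y' * y' = 1 → ¬ Nv Q y → ¬ Nv Q y' →
    ∃ k, y' = gam Q (Gam.ofO Q k) y
  on : ∀ y : Om Q, y * y = 1 → ¬ Nv Q y → ∃ A ≤ O2 (Cz y), Nat.card F < Nat.card A ∧
    ∀ a ∈ A, a * a = 1 ∧ IsConj y (y * a)

/-- Triality. -/
structure KL : Prop where
  lin : finrank F V ≠ 8 → ∀ β, Lin Q β
  tri : finrank F V = 8 → (∃ y : Om Q, y * y = 1 ∧ ¬ Nv Q y) → ∃ β, ¬ Lin Q β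
  ac : ∀ y y' : Om Q, Ec Q y → Ac y y' → Nv Q y' → Ec Q y'

variable {Q} (r : Fr Q)

/-- The pointwise stabilisers of `e₀` and of `e₀, e₁`. -/
structure KS : Prop where
  g1 : ∀ g : Om Q, g.1 (r.e 0) = r.e 0 → g ∈ Gc Q (r.e 0) (r.e 0)
  g2 : ∀ g : Om Q, g.1 (r.e 0) = r.e 0 → g.1 (r.e 1) = r.e 1 → g ∈ Gc Q (r.e 0) (r.e 1)

/-- All facts on `(V, Q)`. -/
structure KK : Prop extends KG Q, KR Q, KN Q, KL Q, KS r

/-- `c = E(e₀, w + e₁)` -/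
noncomputable abbrev cc (w : V) : Om Q := E Q (r.e 0) (w + r.e 1)

end Geo

section Dict

variable {n : ℕ} {F V : Type} [Field F] [StarRing F] [TrivialStar F] [CharP F 2] [Finite F]
  [AddCommGroup V] [Module F V] {Q : QuadraticForm F V} (ι : XU n F →* Om Q) (r : Fr Q) (w : V)

/-- `X` is the stabiliser of `w`. -/
structure Dc : Prop where
  par : Par Q
  qw : Q w = 1
  we : ∀ i, polar Q (r.e i) w = 0
  wf : ∀ i, polar Q (r.f i) w = 0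
  inj : Function.Injective ι
  rng : ∀ y, y ∈ ι.range ↔ y.1 w = w
  stU : ta Q w ∈ St r.U
  lr : ∀ u, Lr u ↔ ∃ x, x ≠ 0 ∧ Q x = 0 ∧ polar Q x w = 0 ∧ ι u = E Q x w
  sr : ∀ u, Sr u ↔ Root Q (ι u)
  lie : Cfsg.IsLieTypeChar 2 (Om Q)

/-- Translation of the abstract notions. -/
structure KD : Prop where
  mi : ∀ y, MI ι y ↔ Nv Q y
  tf : ∀ a, Q a ≠ 0 → ∃ g, tw (ta Q w) g = ta Q a
  /-- two elements are fixed by a conjugate of `τ` -/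
  tf2 : ∀ x y : Om Q, (∃ a, Q a ≠ 0 ∧ x.1 a = a ∧ y.1 a = a) →
    ∃ g, tw (ta Q w) g x = x ∧ tw (ta Q w) g y = y
  rt : ∀ y, IsConj (r.z 1) y ↔ Root Q y
  cE : Ec Q (cc r w)
  ec : ∀ y, IsConj (cc r w) y ↔ Ec Q y
  er : ∀ B : Subgroup (Om Q), ∀ y ∈ B, Root Q y → y.1 w = w → y ∈ H64.YE.EG ι LS B
  ee : ∀ B : Subgroup (Om Q), ∀ b ∈ B, ∀ (u : V) (s : F), Q u = 0 → polar Q u (b.1 w) = 0 →
    E Q u (s • b.1 w) ∈ B → E Q u (s • b.1 w) ∈ H64.YE.EG ι LS B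
  e1 : Gc Q (r.e 0) (r.e 0) ≤ H64.YE.EG ι LS (Ns r.R)
  e2 : Gc Q (r.e 0) (r.e 1) ≤ H64.YE.EG ι LS (Cs r.Z)
  mono : ∀ B B' : Subgroup (Om Q), B ≤ B' → H64.YE.EG ι LS B ≤ H64.YE.EG ι LS B'

/-- An automorphism that maps `τ` into the linear ones is linear. -/
def L1 : Prop := ∀ α : Au Q, Lin Q (α * ta Q w * α⁻¹) → Lin Q α

variable (n F) in
/-- Facts on `X`. -/
structure XS : Prop where
  lo : ∀ u : XU n F, Lr u → u ∈ O2 (Cz u)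
  fz : ∀ ψ : MulAut (XU n F), ψ * ψ = 1 → Outer ψ → ∃ z ∈ O2 (fx ψ), Inv2 z ∧ ¬ Lr z
  zp : ∀ z : XU n F, Sr z → Inv2 z ∧ ∃ A, IsO2 A (Cz z) ∧ z ∈ closure {v | v ∈ A ∧ v * v = 1 ∧ Lr v}

/-- `OC.irr` -/
def IR : Prop := ∀ B ≤ r.R, (∀ p ∈ Cz (cc r w), p * (ta Q w p)⁻¹ ∈ Ns B) →
  B ≤ Xl Q (r.e 0) (w + r.e 1) ∨ R0 Q (r.e 0) (w + r.e 1) ≤ B

/-- `OU`, first part. -/
structure OU1 : Prop where
  o2c : IsO2 r.R (T2 (Cz (cc r w)))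
  o2r : IsO2 r.R (T2 (Ns r.R))
  max : ∀ A, T2 (Ns r.R) ≤ A → A ≤ Ns r.R ∨ A = ⊤

variable [FiniteDimensional F V] {ι r w}

theorem Dc.fa (h : Dc ι r w) : FA2 Q := H59.SO.fA F V Q h.par.pm r
theorem Dc.fb (h : Dc ι r w) : FB2 r := H59.SO.fB F V Q h.par.pm r
theorem Dc.fc (h : Dc ι r w) : FC2 r := H59.SO.fC F V Q h.par.pm r
theorem Dc.fg (h : Dc ι r w) : FG2 r := H59.SO.fG F V Q h.par.pm r
theorem Dc.fs (h : Dc ι r w) : FS Q := H59.SO.fS F V Q h.par.pm r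

end Dict

def JobKG : Prop := H59.SO.All fun _ _ _ _ _ Q _ => KG Q
def JobKR : Prop := H59.SO.All fun _ _ _ _ _ Q _ => KG Q → KR Q
def JobKN : Prop := H59.SO.All fun _ _ _ _ _ Q _ => KG Q → KN Q
def JobKL : Prop := H59.SO.All fun _ _ _ _ _ Q _ => KG Q → KR Q → KN Q → KL Q
def JobKS : Prop := H59.SO.All fun _ _ _ _ _ Q r => KG Q → KS r
def JobXS : Prop := AllM fun n F _ _ _ _ _ => XS n F
def JobDc : Prop := AllM fun n F _ _ _ _ _ => ∀ δ, ∃ r : Fr (H86.SPI.QD n F δ),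
  Dc (H86.SPI.iO n F δ) r (H86.SPI.w0 n F)

/-- A statement on the model. -/
def AllO (P : ∀ (n : ℕ) (F : Type) [Field F] [StarRing F] [TrivialStar F] [CharP F 2] [Finite F]
    (V : Type) [AddCommGroup V] [Module F V] (Q : QuadraticForm F V), (XU n F →* Om Q) → Fr Q → V →
      Prop) : Prop :=
  AllM fun n F _ _ _ _ _ => ∀ (V : Type) [AddCommGroup V] [Module F V] [FiniteDimensional F V]
    (Q : QuadraticForm F V) (ι : XU n F →* Om Q) (r : Fr Q) (w : V), Dc ι r w → KK r →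
      P n F V Q ι r w

/-- The same with the translation. -/
def AllD (P : ∀ (n : ℕ) (F : Type) [Field F] [StarRing F] [TrivialStar F] [CharP F 2] [Finite F]
    (V : Type) [AddCommGroup V] [Module F V] (Q : QuadraticForm F V), (XU n F →* Om Q) → Fr Q → V →
      Prop) : Prop :=
  AllO fun n F _ _ _ _ _ V _ _ Q ι r w => KD ι r w → P n F V Q ι r w

def JobKD : Prop := AllO fun _ _ _ _ _ _ _ _ _ _ _ ι r w => KD ι r w
def JobQN : Prop := JobNA → AllO fun _ _ _ _ _ _ _ _ _ _ Q _ _ _ => QS (Om Q) ∧ NA (Om Q)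
def JobM1 : Prop := AllO fun _ _ _ _ _ _ _ _ _ _ Q ι r w => M1 ι (ta Q w) r.U ∧ M2 ι (ta Q w) Lr
def JobL1 : Prop := AllO fun n F _ _ _ _ _ _ _ _ Q ι _ w =>
  L1 (Q := Q) w ∧ (XS n F → ME ι (ta Q w) Lr Sr)
def JobM3 : Prop := AllO fun n F _ _ _ _ _ _ _ _ Q ι _ w => L1 (Q := Q) w → XS n F →
  M3 ι (ta Q w) Lr
def JobMC : Prop := AllD fun _ _ _ _ _ _ _ _ _ _ Q ι r w =>
  MC ι (ta Q w) LS r.U r.QQ ∧ MC ι (ta Q w) LS r.U r.R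
def JobRD : Prop := AllD fun _ _ _ _ _ _ _ _ _ _ Q ι r w =>
  RD ι (ta Q w) LS r.U (r.z 1) r.Z r.QQ ∧ RZ (ta Q w) (r.z 1) r.Z r.QQ
def JobRA : Prop := AllD fun _ _ _ _ _ _ _ _ _ _ Q _ r w =>
  RA (ta Q w) r.Z r.QQ (PO (cc r w) r.Z)
def JobOB : Prop := AllD fun _ _ _ _ _ _ _ _ _ _ Q ι r w =>
  OB ι (ta Q w) (r.z 1) (cc r w) ∧ OQ r.U r.Z r.QQ (cc r w)
def JobOH : Prop := AllD fun _ _ _ _ _ _ _ _ _ _ Q _ r w => OH (ta Q w) (r.z 1) r.R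
def JobOS : Prop := AllD fun _ _ _ _ _ _ _ _ _ _ Q ι r w => OS ι (ta Q w) (cc r w) r.R
def JobIR : Prop := AllD fun _ _ _ _ _ _ _ _ _ _ _ _ r w => IR r w
def JobOC : Prop := AllD fun _ _ _ _ _ _ _ _ _ _ Q ι r w => IR r w →
  OC ι (ta Q w) LS (cc r w) r.R (R0 Q (r.e 0) (w + r.e 1)) (Xl Q (r.e 0) (w + r.e 1))
def JobU1 : Prop := AllD fun _ _ _ _ _ _ _ _ _ _ _ _ r w => OU1 r w
def JobOU : Prop := AllD fun _ _ _ _ _ _ _ _ _ _ _ ι r w => OU1 r w → OU ι (r.z 1) (cc r w) r.R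

/-- All slots. -/
structure Slots : Prop where
  kg : JobKG
  kr : JobKR
  kn : JobKN
  kl : JobKL
  ks : JobKS
  xs : JobXS
  dc : JobDc
  kd : JobKD
  qn : JobQN
  m1 : JobM1
  l1 : JobL1
  m3 : JobM3
  mc : JobMC
  rd : JobRD
  ra : JobRA
  ob : JobOB
  oh : JobOH
  os : JobOS
  ir : JobIR
  oc : JobOC
  u1 : JobU1
  ou : JobOU

theorem jobMO (s : Slots) (na : JobNA) : H64.YE.JobMO := by
  intro n F _ _ _ _ _ _ b c o δ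
  obtain ⟨r, d⟩ := s.dc n F b c o δ
  have kg := s.kg _ _ _ d.par r
  have kr := s.kr _ _ _ d.par r kg
  have kn := s.kn _ _ _ d.par r kg
  have k : KK r := ⟨kg, kr, kn, s.kl _ _ _ d.par r kg kr kn, s.ks _ _ _ d.par r kg⟩
  have xs := s.xs n F b c o
  have kd := s.kd n F b c o _ _ _ r _ d k
  obtain ⟨qs, na'⟩ := s.qn na n F b c o _ _ _ r _ d k
  obtain ⟨m1, m2⟩ := s.m1 n F b c o _ _ _ r _ d k
  obtain ⟨l1, me⟩ := s.l1 n F b c o _ _ _ r _ d k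
  obtain ⟨mq, mr⟩ := s.mc n F b c o _ _ _ r _ d k kd
  obtain ⟨rd, rz⟩ := s.rd n F b c o _ _ _ r _ d k kd
  obtain ⟨ob, oq⟩ := s.ob n F b c o _ _ _ r _ d k kd
  refine ⟨r.U, ⟨m1, m2, qs, s.m3 n F b c o _ _ _ r _ d k l1 xs⟩, .inr (.inr (.inr (.inr
    ⟨fun _ => Iff.rfl, fun y h1 h2 => k.on y h1 fun h => h2 ((kd.mi y).2 h), na', me xs, _, _, _, _,
      _, _, _, mq, mr, rd, s.ra n F b c o _ _ _ r _ d k kd, rz, ob, s.oh n F b c o _ _ _ r _ d k kd,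
      s.os n F b c o _ _ _ r _ d k kd,
      s.oc n F b c o _ _ _ r _ d k kd (s.ir n F b c o _ _ _ r _ d k kd),
      s.ou n F b c o _ _ _ r _ d k kd (s.u1 n F b c o _ _ _ r _ d k kd), oq⟩)))⟩

end H86.SPO
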