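/- Team ord, part 3 (blueprints/ORD3.md), job G: facts on the small Ree groups. -/
import Cfsg.Agent.H70.ReeSpec
import Cfsg.Agent.H70.SqJ1
import Cfsg.Agent.H84.ReeNse
import Cfsg.Agent.H7.ReeUniq
import Cfsg.Agent.S1069
import Cfsg.Agent.S1073
import Cfsg.Agent.H30.ReeInst
import Cfsg.Agent.H30.ReeTwo
import Cfsg.Agent.S1157
import Cfsg.Agent.S2127

set_option autoImplicit false

namespace H86.Ord

open Cfsg Subgroup H24 H70.Sq

universe u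

theorem q_mod {n : ℕ} (h3 : ¬ 3 ∣ 2 * n + 1) :
    3 ^ (2 * n + 1) % 7 = 3 ∨ 3 ^ (2 * n + 1) % 7 = 5 := by
  obtain ⟨k, rfl | rfl⟩ : ∃ k, n = 3 * k ∨ n = 3 * k + 2 := ⟨n / 3, by omega⟩
  · left
    rw [show 2 * (3 * k) + 1 = 6 * k + 1 by ring, pow_succ, pow_mul, Nat.mul_mod, Nat.pow_mod]
    simp
  · right
    rw [show 2 * (3 * k + 2) + 1 = 6 * k + 5 by ring, pow_add, pow_mul, Nat.mul_mod, Nat.pow_mod]
    simp

theorem seven_dvd {n : ℕ} (hn : 1 ≤ n) (h3 : ¬ 3 ∣ 2 * n + 1) : 7 ∣ cP n ∨ 7 ∣ cM n := by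
  obtain ⟨t, -, -, tq, tr⟩ := H84.RN.param hn
  have hq := q_mod h3
  have e : cP n * cM n + 3 ^ (2 * n + 1) = 3 ^ (2 * n + 1) * 3 ^ (2 * n + 1) + 1 := by
    rw [cP, cM, tq, tr, show 12 * t ^ 2 + 12 * t + 3 - (6 * t + 3) = 12 * t ^ 2 + 6 * t by omega]
    ring
  refine (Nat.Prime.dvd_mul (by norm_num)).1 ?_
  have := Nat.mul_mod (3 ^ (2 * n + 1)) (3 ^ (2 * n + 1)) 7
  rcases hq with h | h <;> rw [h] at this <;> omega

theorem rmu_val {n : ℕ} (hn : 1 ≤ n) (h3 : ¬ 3 ∣ 2 * n + 1) :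
    rmu n 0 = 3 ^ (2 * n + 1) - 1 ∧ rmu n 1 = (3 ^ (2 * n + 1) + 1) / 2 ∧
      ((rmu n 2 = cM n ∧ rmu n 3 = cP n) ∨ (rmu n 2 = cP n ∧ rmu n 3 = cM n)) := by
  obtain ⟨t, -, -, tq, -⟩ := H84.RN.param hn
  refine ⟨?_, ?_, ?_⟩
  · change 2 * ((3 ^ (2 * n + 1) - 1) / 2) = _
    omega
  · change 2 * ((3 ^ (2 * n + 1) + 1) / 4) = _
    omega
  · by_cases h : 7 ∣ cP n
    · refine .inl ⟨if_pos h, ?_⟩
      change 7 * ((if 7 ∣ cP n then cP n else cM n) / 7) = _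
      rw [if_pos h, Nat.mul_div_cancel' h]
    · refine .inr ⟨if_neg h, ?_⟩
      change 7 * ((if 7 ∣ cP n then cP n else cM n) / 7) = _
      rw [if_neg h, Nat.mul_div_cancel' ((seven_dvd hn h3).resolve_left h)]

theorem jobRG : JobRG.{u} := by
  rintro n hn h3 L _ ⟨K, _, _, hK, ⟨e⟩⟩
  have R := H30.reeG2 hK
  have := R.finite_G
  obtain ⟨hs, hc⟩ := Cfsg.Agent.S1073.result hn hK
  obtain ⟨r0, r1, r2⟩ := rmu_val hn h3
  have ho := Cfsg.Agent.S1159.result hn hK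
  refine ⟨e.isSimpleGroup, fun h => hc ⟨⟨fun a b => e.symm.injective (by
      rw [map_mul, map_mul, h.is_comm.comm])⟩⟩,
    (Nat.card_congr e.toEquiv).trans (Cfsg.Agent.S1069.result hK),
    (Nat.card_congr (H56.outCongr e).toEquiv).trans (Cfsg.Agent.S2127.result hn hK),
    fun g => ?_, fun x => ?_, fun s k hs h => Fr.of_equiv e.symm ?_, Fr.of_equiv e.symm ?_,
    fun F _ _ hF => ?_⟩
  · rcases (ho (orderOf g)).1 ⟨e g, e.orderOf_eq g⟩ with h | h | h | h | h | h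
    · exact ⟨4, h⟩
    · exact ⟨5, h⟩
    · exact ⟨0, r0 ▸ h⟩
    · exact ⟨1, r1 ▸ h⟩
    · exact r2.elim (fun r => ⟨2, r.1 ▸ h⟩) fun r => ⟨3, r.2 ▸ h⟩
    · exact r2.elim (fun r => ⟨3, r.2 ▸ h⟩) fun r => ⟨2, r.1 ▸ h⟩
  · obtain ⟨g, hg⟩ := (ho (rmu n x)).2 (by
      fin_cases x
      · exact .inr (.inr (.inl (dvd_of_eq r0)))
      · exact .inr (.inr (.inr (.inl (dvd_of_eq r1))))
      · exact .inr (.inr (.inr (.inr (r2.imp (fun r => dvd_of_eq r.1) fun r => dvd_of_eq r.1))))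
      · exact .inr (.inr (.inr (.inr
          (r2.symm.imp (fun r => dvd_of_eq r.2) fun r => dvd_of_eq r.2))))
      · exact .inl dvd_rfl
      · exact .inr (.inl dvd_rfl))
    exact ⟨e.symm g, (e.symm.orderOf_eq g).trans hg⟩
  · obtain ⟨c, hc⟩ := IsCyclic.exists_ofOrder_eq_natCard (α := Kˣ)
    obtain ⟨κ, hκ⟩ := Ord.of_dvd (G := Kˣ) ⟨c, hc⟩ (a := s ^ (k + 1)) (by
      rw [R.card_units, ← r0]
      exact h.mul_left 2)
    refine ⟨R.U, R.h κ, R.isPGroup_U, mem_normalizer_fintype fun u hu => R.H_conj_U (R.h_mem κ) hu,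
      ⟨k + 1, by rw [← map_pow, ← hκ, pow_orderOf_eq_one, map_one]⟩, R.x 1 0 0, R.x_mem _ _ _,
      fun hc => ?_⟩
    have h1 := R.h_conj (κ ^ s ^ k) 1 0 0
    rw [map_pow, hc.eq, mul_inv_cancel_right] at h1
    have h2 : κ ^ s ^ k = 1 := Units.ext (by simpa using (R.x_inj h1).1.symm)
    have h4 := Nat.le_of_dvd (pow_pos hs.pos k) (hκ ▸ orderOf_dvd_of_pow_eq_one h2)
    exact h4.not_gt (Nat.pow_lt_pow_right hs.one_lt k.lt_succ_self)
  · obtain ⟨S, hS⟩ := (H98.isPGroup_zpowers (x := R.z) (p := 2) (k := 1)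
      (by rw [pow_one, pow_two, R.z_mul_z])).exists_le_sylow
    refine fr_of (by norm_num) S.isPGroup' (by
      rw [(Cfsg.Agent.S1157.result hn hK S).2]; norm_num) (hS (mem_zpowers _)) fun x hx hc => ?_
    have h1 := ord_of_commute hc (by rw [hx, R.orderOf_z]; norm_num)
    rw [hx, R.orderOf_z] at h1
    obtain ⟨t, -, -, tq, tr⟩ := H84.RN.param hn
    have hq := q_mod h3
    rcases (ho _).1 h1 with h | h | h | h | h | h <;> omega
  · obtain ⟨f⟩ := H7.RS.Pre.nonempty_equiv hn ((H7.RS.Pre.ofRee (H30.reeG2 hF)).map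
      (FiniteField.ringEquivOfCardEq (hK.trans hF.symm))) (H7.RS.Pre.ofRee (H30.reeG2 hK))
    exact ⟨e.trans f.symm⟩

end H86.Ord
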