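/- Transitive linear groups over the field with two elements on a prime number of nonzero vectors. -/
import Cfsg.Agent.H53.CKSpec
import Cfsg.Agent.H37.NeuA
import Cfsg.Agent.H69.FieldCoord

set_option autoImplicit false

namespace H86.CK

open Module Subgroup

universe v

variable {V : Type v} [AddCommGroup V] [Module (ZMod 2) V]

/-- the action on the nonzero vectors -/
@[reducible] def nzAct (H : Subgroup (V ≃ₗ[ZMod 2] V)) : MulAction H {x : V // x ≠ 0} where
  smul h x := ⟨h.1 x.1, by simpa using x.2⟩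
  one_smul _ := rfl
  mul_smul _ _ _ := rfl

theorem nz_faithful (H : Subgroup (V ≃ₗ[ZMod 2] V)) :
    letI := nzAct H
    FaithfulSMul H {x : V // x ≠ 0} := by
  let := nzAct H
  refine ⟨fun {a b} h => Subtype.ext (LinearEquiv.ext fun x => ?_)⟩
  by_cases hx : x = 0
  · simp [hx]
  · exact congrArg Subtype.val (h ⟨x, hx⟩)

theorem card_nz [Finite V] {n : ℕ} (hn : finrank (ZMod 2) V = n) :
    Nat.card {x : V // x ≠ 0} = 2 ^ n - 1 := by
  classical
  have := Fintype.ofFinite V
  have h : Nat.card V = 2 ^ n := by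
    rw [Module.natCard_eq_pow_finrank (K := ZMod 2), hn, Nat.card_zmod]
  rw [← h]
  simp [Nat.card_eq_fintype_card]

theorem trans_of_card [Finite V] {n : ℕ} (hn : finrank (ZMod 2) V = n) (hp : (2 ^ n - 1).Prime)
    {C : Subgroup (V ≃ₗ[ZMod 2] V)} (hC : Nat.card C = 2 ^ n - 1) (x y : V) (hx : x ≠ 0)
    (hy : y ≠ 0) : ∃ h ∈ C, h x = y := by
  let := nzAct C
  have := nz_faithful C
  have := Fact.mk hp
  have : Finite C := Nat.finite_of_card_ne_zero (hC ▸ hp.ne_zero)
  obtain ⟨c, hc⟩ := exists_prime_orderOf_dvd_card' (G := C) (2 ^ n - 1) (hC ▸ dvd_rfl)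
  obtain ⟨a, ha⟩ : ∃ a : {x : V // x ≠ 0}, c • a ≠ a := by
    by_contra h
    push Not at h
    have : c = 1 := eq_of_smul_eq_smul (α := {x : V // x ≠ 0}) fun a => by rw [h, one_smul]
    rw [this, orderOf_one] at hc
    exact hp.one_lt.ne hc
  obtain ⟨e, -, he⟩ := H90.exists_coord (card_nz hn) (hc ▸ pow_orderOf_eq_one c) ha
  obtain ⟨i, hi⟩ := e.surjective ⟨x, hx⟩
  obtain ⟨j, hj⟩ := e.surjective ⟨y, hy⟩
  have h := H90.coord_pow he (j - i).val i
  rw [ZMod.natCast_zmod_val, add_sub_cancel, hi, hj] at h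
  exact ⟨_, (c ^ (j - i).val).2, congrArg Subtype.val h⟩

theorem trans_top (x y : V) (hx : x ≠ 0) (hy : y ≠ 0) : ∃ h : V ≃ₗ[ZMod 2] V, h x = y := by
  by_cases h : x = y
  · exact ⟨1, h⟩
  obtain ⟨φ, h1, h2⟩ := H62.exists_dual_pair (F := ZMod 2) (u := y - x) (w := x) fun h1 => by
    obtain ⟨c, hc⟩ := Submodule.mem_span_singleton.1 h1
    have : ∀ c : ZMod 2, c = 0 ∨ c = 1 := by decide
    rcases this c with rfl | rfl
    · exact hx (by simpa using hc.symm)
    · refine hy ?_
      rw [one_smul, sub_eq_iff_eq_add, ← two_smul (ZMod 2), show (2 : ZMod 2) = 0 from rfl,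
        zero_smul] at hc
      exact hc
  exact ⟨LinearEquiv.transvection h2, by rw [LinearEquiv.transvection.apply, h1]; simp⟩

/-- The stabiliser of a normal Singer cycle. -/
theorem card_dvd_of_singer [Finite V] {n : ℕ} (hn : finrank (ZMod 2) V = n) (h0 : n ≠ 0)
    {H : Subgroup (V ≃ₗ[ZMod 2] V)} {c : V ≃ₗ[ZMod 2] V} (hc : orderOf c = 2 ^ n - 1)
    (ht : ∀ x y : V, x ≠ 0 → y ≠ 0 → ∃ k : ℕ, (c ^ k) x = y)
    (hH : ∀ g ∈ H, ∃ k : ℕ, g * c = c ^ k * g) :
    ∃ x : V, x ≠ 0 ∧ Nat.card (MulAction.stabilizer H x) ∣ n := by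
  let F := GaloisField 2 n
  have hF : Nat.card F = 2 ^ n := GaloisField.card 2 n h0
  have : Nontrivial V := Module.nontrivial_of_finrank_pos (R := ZMod 2) (by omega)
  have hpow : ∀ k : ℕ, (c : V →ₗ[ZMod 2] V) ^ k = 1 ↔ c ^ k = 1 := fun k => by
    have h1 : (c : V →ₗ[ZMod 2] V) ^ k = (c ^ k : V ≃ₗ[ZMod 2] V) :=
      (map_pow LinearEquiv.automorphismGroup.toLinearMapMonoidHom c k).symm
    rw [h1]
    exact ⟨fun h => LinearEquiv.toLinearMap_injective h, fun h => by rw [h]; rfl⟩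
  obtain ⟨e, l, hl, he⟩ := H69.exists_field_coord (c : V →ₗ[ZMod 2] V) (F := F)
    (by rw [hpow, hF, ← hc, pow_orderOf_eq_one])
    (fun k hk => by rw [hF, ← hc]; exact orderOf_dvd_of_pow_eq_one ((hpow k).1 hk))
    (fun W hW => by
      refine or_iff_not_imp_left.2 fun h => eq_top_iff.2 fun y _ => ?_
      obtain ⟨x, hx, hx0⟩ := W.exists_mem_ne_zero_of_ne_bot h
      by_cases hy : y = 0
      · exact hy ▸ W.zero_mem
      obtain ⟨k, rfl⟩ := ht x y hx0 hy
      clear hy
      induction k with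
      | zero => exact hx
      | succ k ih => rw [pow_succ']; exact hW _ (ih trivial))
  have he' : ∀ (k : ℕ) x, e ((c ^ k) x) = l ^ k * e x := fun k x => by
    induction k with
    | zero => simp
    | succ k ih => rw [pow_succ', LinearEquiv.mul_apply, pow_succ', mul_assoc, ← ih]; exact he _
  refine ⟨e.symm 1, by simp, ?_⟩
  let s : MulAction.stabilizer H (e.symm 1) → F ≃+ F := fun g =>
    e.symm.trans (g.1.1.toAddEquiv.trans e)
  have hs : ∀ g x, s g x = e (g.1.1 (e.symm x)) := fun _ _ => rfl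
  have hs1 : ∀ g, s g 1 = 1 := fun g => by
    rw [hs, show g.1.1 (e.symm 1) = e.symm 1 from g.2, e.apply_symm_apply]
  have hm : ∀ g x y, s g (x * y) = s g x * s g y := fun g x y => by
    obtain ⟨k, hk⟩ := hH g.1.1 g.1.2
    have h1 : ∀ (j : ℕ) z, s g (l ^ j * z) = l ^ (k * j) * s g z := fun j z => by
      induction j with
      | zero => simp
      | succ j ih =>
        have h2 : e.symm (l ^ (j + 1) * z) = c (e.symm (l ^ j * z)) := by
          rw [e.symm_apply_eq, pow_succ', mul_assoc]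
          exact ((he _).trans (by rw [e.apply_symm_apply])).symm
        rw [hs, h2, ← LinearEquiv.mul_apply, hk, LinearEquiv.mul_apply, he', ← hs, ih]
        ring
    by_cases hx : x = 0
    · simp [hx]
    obtain ⟨j, rfl⟩ := hl.2 x hx
    rw [h1, ← mul_one (l ^ j), h1, hs1, mul_one]
  let σ : MulAction.stabilizer H (e.symm 1) →* (F ≃ₐ[ZMod 2] F) := MonoidHom.mk'
    (fun g => AlgEquiv.ofRingEquiv (f := { s g with map_mul' := hm g }) fun a => by
      have : ∀ c : ZMod 2, c = 0 ∨ c = 1 := by decide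
      rcases this a with rfl | rfl <;> simp [hs1])
    fun a b => AlgEquiv.ext fun x => by
      change s (a * b) x = s a (s b x)
      simp [hs]
  have hσ : Function.Injective σ := fun a b hab => Subtype.ext <| Subtype.ext <|
    LinearEquiv.ext fun x => by
      have : s a (e x) = s b (e x) := congrArg (· (e x)) hab
      simpa [hs] using this
  have := Subgroup.card_dvd_of_injective σ hσ
  rwa [IsGalois.card_aut_eq_finrank, GaloisField.finrank 2 h0] at this

theorem s4179 (h : H53.CK.Main.{0, v}) [Finite V] (n : ℕ) (hn : Module.finrank (ZMod 2) V = n)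
    (hprime : (2 ^ n - 1).Prime) (H : Subgroup (V ≃ₗ[ZMod 2] V)) :
    (∀ v w : V, v ≠ 0 → w ≠ 0 → ∃ h ∈ H, h v = w) ↔
      ((IsCyclic ↥H ∧ Nat.card ↥H = 2 ^ n - 1) ∨
       (Nat.card ↥H = n * (2 ^ n - 1) ∧ ∃ C : Subgroup (V ≃ₗ[ZMod 2] V), C ≤ H ∧
          (C.subgroupOf H).Normal ∧ IsCyclic ↥C ∧ Nat.card ↥C = 2 ^ n - 1) ∨
       H = ⊤) := by
  refine ⟨fun ht => ?_, ?_⟩
  swap
  · rintro (⟨-, h1⟩ | ⟨-, C, hC, -, -, h1⟩ | rfl) x y hx hy
    · exact trans_of_card hn hprime h1 x y hx hy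
    · obtain ⟨g, hg, h2⟩ := trans_of_card hn hprime h1 x y hx hy
      exact ⟨g, hC hg, h2⟩
    · obtain ⟨g, hg⟩ := trans_top x y hx hy
      exact ⟨g, trivial, hg⟩
  let := nzAct H
  have := nz_faithful H
  have := Fact.mk hprime
  have hnp : n.Prime := Nat.prime_of_pow_sub_one_prime (by
    rintro rfl
    exact Nat.not_prime_one hprime) hprime |>.2
  have : Finite (V ≃ₗ[ZMod 2] V) := Finite.of_injective _ DFunLike.coe_injective
  have : MulAction.IsPretransitive H {x : V // x ≠ 0} := ⟨fun a b => by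
    obtain ⟨g, hg, h1⟩ := ht a b a.2 b.2
    exact ⟨⟨g, hg⟩, Subtype.ext h1⟩⟩
  by_cases hs : Group.IsSolvable H
  swap
  · have h2 := H37.prime_two (G := H) (Ω := {x : V // x ≠ 0}) (card_nz hn ▸ hprime) hs
    rw [MulAction.is_two_pretransitive_iff] at h2
    have h3 : H53.CK.T2 H := fun x y x' y' hxy hxy' => by
      obtain ⟨g, h4, h5⟩ := h2 (a := ⟨x, hxy.1⟩) (b := ⟨y, hxy.symm.1⟩) (c := ⟨x', hxy'.1⟩)
        (d := ⟨y', hxy'.symm.1⟩)
        (fun h4 => hxy.2 ((show x = y from congrArg Subtype.val h4) ▸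
          Submodule.mem_span_singleton_self x))
        (fun h4 => hxy'.2 ((show x' = y' from congrArg Subtype.val h4) ▸
          Submodule.mem_span_singleton_self x'))
      exact ⟨g, g.2, 1, 1, by rw [one_smul]; exact congrArg Subtype.val h4,
        by rw [one_smul]; exact congrArg Subtype.val h5⟩
    have h4 := (h (ZMod 2) V H h3).resolve_left fun h4 => by
      rw [hn] at h4
      exact absurd (h4.1 ▸ hnp) (by norm_num)
    refine .inr (.inr (eq_top_iff.2 fun g _ => H62.mem_of_det_eq_one h4 g ?_))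
    have : ∀ c : ZMod 2, c ≠ 0 → c = 1 := by decide
    exact this _ (LinearEquiv.isUnit_det' g).ne_zero
  have hd := H37.card_dvd_of_solvable (G := H) (card_nz hn)
  let P : Sylow (2 ^ n - 1) H := default
  obtain ⟨c, e, hP, hc, he⟩ := H90.exists_cycle_mem_sylow (card_nz hn) P
  have hPc : Nat.card P = 2 ^ n - 1 := by rw [← hP, Nat.card_zpowers, hc]
  have hN : (P : Subgroup H).Normal := by
    have h1 := P.card_dvd_index
    have h2 := card_sylow_modEq_one (2 ^ n - 1) H
    rw [← (P : Subgroup H).card_mul_index, hPc] at hd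
    have h3 := Nat.le_of_dvd (by have := hprime.one_lt; omega)
      (h1.trans (Nat.dvd_of_mul_dvd_mul_left hprime.pos hd))
    have h4 := Nat.ModEq.eq_of_lt_of_lt h2 (by have := hprime.one_lt; omega) hprime.one_lt
    have := (Nat.card_eq_one_iff_unique.1 h4).1
    exact P.normal_of_subsingleton
  obtain ⟨x, hx, h1⟩ := card_dvd_of_singer hn hnp.ne_zero (H := H) (c := c)
    (by rw [Subgroup.orderOf_coe, hc])
    (fun x y hx hy => by
      obtain ⟨i, hi⟩ := e.surjective ⟨x, hx⟩
      obtain ⟨j, hj⟩ := e.surjective ⟨y, hy⟩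
      have h := H90.coord_pow he (j - i).val i
      rw [ZMod.natCast_zmod_val, add_sub_cancel, hi, hj] at h
      exact ⟨_, congrArg Subtype.val h⟩)
    (fun g hg => by
      have h2 := hN.conj_mem c (hP ▸ mem_zpowers c) ⟨g, hg⟩
      rw [← hP, ← mem_powers_iff_mem_zpowers] at h2
      obtain ⟨k, hk⟩ := h2
      exact ⟨k, by rw [← mul_inv_eq_iff_eq_mul]; exact (congrArg Subtype.val hk).symm⟩)
  have h2 : Nat.card H = Nat.card (MulAction.stabilizer H x) * (2 ^ n - 1) := by
    rw [← card_nz hn, ← MulAction.index_stabilizer_of_transitive H (⟨x, hx⟩ : {x : V // x ≠ 0}),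
      ← Subgroup.card_mul_index (MulAction.stabilizer H (⟨x, hx⟩ : {x : V // x ≠ 0}))]
    congr 3
    ext g
    exact Subtype.ext_iff
  rcases (Nat.dvd_prime hnp).1 h1 with h3 | h3
  · rw [h3, one_mul] at h2
    exact .inl ⟨isCyclic_of_prime_card h2, h2⟩
  · have h4 : Nat.card ((P : Subgroup H).map H.subtype) = 2 ^ n - 1 := by
      rw [card_map_of_injective H.subtype_injective, hPc]
    refine .inr (.inl ⟨h3 ▸ h2, (P : Subgroup H).map H.subtype, map_subtype_le _, ?_,
      isCyclic_of_prime_card h4, h4⟩)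
    rwa [subgroupOf, comap_map_eq_self_of_injective H.subtype_injective]

end H86.CK
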