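import Cfsg.Agent.H63.KgvSpec

set_option autoImplicit false

namespace H86.KgvPW1

open H63.Kgv Polynomial

variable {F : Type} [Field F]

theorem c0 (f : F[X]) (hf : f.Monic) :
    PowerSeries.constantCoeff ((f.reverse : F[X]) : PowerSeries F) = 1 := by
  rw [Polynomial.constantCoeff_coe, coeff_zero_reverse, hf.leadingCoeff]

theorem inv1 (f : F[X]) (hf : f.Monic) :
    ((f.reverse : F[X]) : PowerSeries F) * ((f.reverse : F[X]) : PowerSeries F)⁻¹ = 1 :=
  PowerSeries.mul_inv_cancel _ (by rw [c0 f hf]; exact one_ne_zero)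

theorem ci (f : F[X]) (hf : f.Monic) :
    PowerSeries.constantCoeff ((f.reverse : F[X]) : PowerSeries F)⁻¹ = 1 := by
  rw [PowerSeries.constantCoeff_inv, c0 f hf, inv_one]

theorem mul (r : ℕ) (f g : F[X]) (hf : f.Monic) (hg : g.Monic) : pw r (f * g) = pw r f + pw r g := by
  unfold pw
  rw [← map_add, reverse_mul_of_domain, derivative_mul, Polynomial.coe_add, Polynomial.coe_mul,
    Polynomial.coe_mul, Polynomial.coe_mul, PowerSeries.mul_inv_rev]
  congr 1
  linear_combination (-(PowerSeries.X * ((derivative f.reverse : F[X]) : PowerSeries F)) *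
    ((f.reverse : F[X]) : PowerSeries F)⁻¹) * inv1 g hg +
    (-(PowerSeries.X * ((derivative g.reverse : F[X]) : PowerSeries F)) *
    ((g.reverse : F[X]) : PowerSeries F)⁻¹) * inv1 f hf

theorem one (r : ℕ) : pw r (1 : F[X]) = 0 := by
  have := mul r (1 : F[X]) 1 monic_one monic_one
  rw [mul_one] at this
  exact left_eq_add.1 this

theorem addC (r : ℕ) (f : F[X]) (c : F) (hr : 0 < r) (hf : f.Monic) (hd : f.natDegree = r) :
    pw r (f + C c) = pw r f - r * c := by
  have hg : (f + C c).Monic := hf.add_of_left (degree_C_le.trans_lt (by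
    rw [degree_eq_natDegree hf.ne_zero, hd]; exact_mod_cast hr))
  have i1 := inv1 f hf
  have i2 := inv1 _ hg
  have i3 := ci _ hg
  obtain ⟨s, rfl⟩ : ∃ s, r = s + 1 := ⟨r - 1, (Nat.succ_pred_eq_of_pos hr).symm⟩
  unfold pw
  set B := (((f + C c).reverse : F[X]) : PowerSeries F)⁻¹ with hB
  set A := ((f.reverse : F[X]) : PowerSeries F)⁻¹ with hA
  rw [reverse_add_C, hd] at i2 ⊢
  rw [derivative_add, derivative_C_mul, derivative_X_pow, Nat.add_sub_cancel]
  simp only [Polynomial.coe_add, Polynomial.coe_mul, Polynomial.coe_C, Polynomial.coe_pow,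
    Polynomial.coe_X] at i2 ⊢
  set D := ((derivative f.reverse : F[X]) : PowerSeries F)
  have e : -(PowerSeries.X * (D + PowerSeries.C c * (PowerSeries.C ((s + 1 : ℕ) : F) *
      PowerSeries.X ^ s))) * B = -(PowerSeries.X * D) * A -
      PowerSeries.X ^ (s + 1) * (PowerSeries.C (((s + 1 : ℕ) : F) * c) * B -
        PowerSeries.X * (PowerSeries.C c * D * A * B)) := by
    rw [map_mul]
    linear_combination (PowerSeries.X * D * B) * i1 - (PowerSeries.X * D * A) * i2
  rw [e, map_sub, PowerSeries.coeff_X_pow_mul', if_pos le_rfl, Nat.sub_self,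
    PowerSeries.coeff_zero_eq_constantCoeff]
  simp [i3]

theorem first (f : F[X]) (hf : f.Monic) : pw 1 f = -f.nextCoeff := by
  unfold pw
  rw [neg_mul, mul_assoc, map_neg, PowerSeries.coeff_succ_X_mul,
    PowerSeries.coeff_zero_eq_constantCoeff, map_mul, ci f hf, mul_one, Polynomial.constantCoeff_coe,
    coeff_derivative, zero_add, coeff_one_reverse]
  simp

theorem lin (r : ℕ) (a : F) (hr : 0 < r) : pw r (X - C a) = a ^ r := by
  obtain ⟨s, rfl⟩ : ∃ s, r = s + 1 := ⟨r - 1, (Nat.succ_pred_eq_of_pos hr).symm⟩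
  have e : (X - C a : F[X]).reverse = 1 - C a * X := by
    rw [sub_eq_add_neg, ← C_neg, reverse_add_C, natDegree_X, pow_one, C_neg, neg_mul,
      ← sub_eq_add_neg, ← one_mul (X : F[X]), reverse_mul_X, ← C_1, reverse_C, C_1, one_mul]
  have e2 : (((1 - C a * X : F[X])) : PowerSeries F)⁻¹ = PowerSeries.mk fun n => a ^ n := by
    rw [PowerSeries.inv_eq_iff_mul_eq_one (by simp)]
    ext n
    cases n with
    | zero => simp
    | succ n =>
      simp [mul_sub, ← mul_assoc, PowerSeries.coeff_succ_mul_X, pow_succ, PowerSeries.coeff_one]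
  unfold pw
  rw [e, e2, neg_mul, mul_assoc, map_neg, PowerSeries.coeff_succ_X_mul]
  simp [pow_succ']

theorem job : JPW1 := by
  intro F _
  refine ⟨mul, fun ψ χ r => ⟨?_, fun f g hf hg => ?_⟩, addC, first, lin⟩
  · simp [lam, one]
  · unfold lam
    rw [mul r f g hf hg, AddChar.map_add_eq_mul, hf.natDegree_mul hg, mul_coeff_zero, pow_add,
      mul_mul_mul_comm ((-1 : F) ^ _), map_mul]
    ring

end H86.KgvPW1
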