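import Cfsg.Agent.H86.NUE
import Cfsg.Agent.H64.SFBasic

/-! STD-F4: tables for `²E₆(q)`. -/

set_option autoImplicit false
set_option linter.unusedSectionVars false

namespace H86.NT

open Cfsg.Lie H63 H64 H65 H98 Subgroup
open H64.SG (Cs Ns Cz UU Is2 x_mem_gen)
open H64.SF (x n S L ip ad rf Qx TY Z)
open H46.SF
open H67.SA (cm cm_eq_one)
open H68 (rhoE6)
open H86.F4 (PP mem_PP pos_iff R)
open H86.NU (posE)

theorem HH_comm {D : ChevalleyDatum} [RS D] {K G : Type*} [Field K] [Group G] {y : ℕ → K → G}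
    (h : Ad D y) {a b : G} (ha : a ∈ HH D y) (hb : b ∈ HH D y) : a * b = b * a := by
  refine mul_inv_eq_one.1 (h.faithful _ (mul_mem (mul_mem ha hb) (inv_mem (mul_mem hb ha))) fun i => ?_)
  obtain ⟨c, -, h1⟩ := h.toStN.HH_conj ha (simpleR i)
  obtain ⟨d, -, h2⟩ := h.toStN.HH_conj hb (simpleR i)
  obtain ⟨e, -, h3⟩ := h.toStN.HH_conj (inv_mem (mul_mem hb ha)) (simpleR i)
  have k : ∀ u, a * b * y (simpleR i : Rt D) u * (a * b)⁻¹ = b * a * y (simpleR i : Rt D) u * (b * a)⁻¹ :=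
    fun u => by
      calc _ = a * (b * y (simpleR i : Rt D) u * b⁻¹) * a⁻¹ := by group
        _ = b * (a * y (simpleR i : Rt D) u * a⁻¹) * b⁻¹ := by
          rw [(h2 _).1, (h1 _).1, (h1 _).1, (h2 _).1, mul_left_comm]
        _ = _ := by group
  refine mul_inv_eq_iff_eq_mul.1 ?_
  calc _ = a * b * ((b * a)⁻¹ * y (simpleR i : Rt D) 1 * (b * a)⁻¹⁻¹) * (a * b)⁻¹ := by
        rw [simpleR_val]; group
    _ = _ := by rw [(h3 _).1, k, ← (h3 _).1, simpleR_val]; group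

/-- The roots that occur in a commutator. -/
def O3 (r s : ℕ) : List ℕ := [ad r s, ad r (ad r s), ad s (ad r s)].filter (· < 48)

theorem tE : ∀ r < 48, (p1 r < 72 ∧ p2 r < 72 ∧ rhoE6 (p1 r) = p2 r ∧ rhoE6 (p2 r) = p1 r) ∧
    (36 ≤ p1 r ↔ 24 ≤ r) ∧ (36 ≤ p2 r ↔ 24 ≤ r) ∧ (sh r = false → p1 r = o1 r ∧ p2 r = o1 r) ∧
    chevE6.pairing (p1 r) (p1 (47 - r)) + chevE6.pairing (p2 r) (p1 (47 - r)) =
      (if sh r then -2 else -4) ∧
    (sh r = true → chevE6.pairing (p1 r) (p1 (47 - r)) = 0) := by decide +kernel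

theorem rho_neg : ∀ s < 72, rhoE6 (chevE6.neg s) = chevE6.neg (rhoE6 s) ∧ chevE6.neg s < 72 := by
  decide +kernel

theorem tO : ∀ a ∈ PP, ∀ b ∈ PP, b ≠ 47 - a ∧ ad b a = ad a b ∧ ∀ c ∈ O3 a b, a < c ∧ b < c ∧ c < 48 := by
  decide +kernel

theorem tI : ∀ a ∈ PP, ∀ b ∈ PP, sh a = true → sh b = true →
    a = b ∨ ip a b = 2 ∨ ip a b = 0 ∨ ip a b = -2 := by decide +kernel

theorem tA : ∀ a ∈ PP, ∀ b ∈ PP, ad a b < 48 → ip a b < 0 ∨ sh a = true ∧ sh b = true ∧ ip a b = 0 := by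
  decide +kernel

theorem O3_comm {a b c : ℕ} (ha : a ∈ PP) (hb : b ∈ PP) (h : c ∈ O3 b a) : c ∈ O3 a b := by
  rw [O3, List.mem_filter, (tO a ha b hb).2.1] at h
  refine List.mem_filter.2 ⟨?_, h.2⟩
  rcases (by simpa using h.1 : c = _ ∨ c = _ ∨ c = _) with e | e | e <;> simp [e]

theorem tB : ∀ a ∈ PP, ∀ b ∈ PP, ∀ c ∈ O3 a b, ∃ i ∈ [(1 : ℤ), 2], ∃ j ∈ [(1 : ℤ), 2], ∀ k < 4,
    certF4.rtc c k = i * certF4.rtc a k + j * certF4.rtc b k := by decide +kernel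

end H86.NT
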