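/- Team ord, part 3 (blueprints/ORD3.md), job R2: the components are Ree groups. -/
import Cfsg.Agent.H70.ReeSpec
import Cfsg.Agent.H70.SqJ1
import Cfsg.Agent.S1069

set_option autoImplicit false
set_option linter.unusedSectionVars false

namespace H86.Ord

open Cfsg Subgroup H24 H70.Sq H10.W

universe u

theorem pigeon {A B C : Fin 4 → Prop} (x₀ : Fin 4) (hA : ∀ u v, u ≠ v → A u → ¬ A v)
    (hB : ∀ u v, u ≠ v → B u → ¬ B v) (hC : ∀ u v, u ≠ v → C u → ¬ C v)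
    (h : ∀ w, w ≠ x₀ → A w ∨ B w ∨ C w) : ∃ x y z, y ≠ z ∧ A x ∧ B y ∧ C z := by
  obtain ⟨a, b, c, ab, ac, bc, ha, hb, hc⟩ := (by decide : ∀ x₀ : Fin 4, ∃ a b c : Fin 4,
    a ≠ b ∧ a ≠ c ∧ b ≠ c ∧ a ≠ x₀ ∧ b ≠ x₀ ∧ c ≠ x₀) x₀
  rcases h a ha with h1 | h1 | h1 <;> rcases h b hb with h2 | h2 | h2 <;>
    rcases h c hc with h3 | h3 | h3 <;>
    first
    | exact absurd h2 (hA _ _ ab h1) | exact absurd h3 (hA _ _ ac h1)
    | exact absurd h3 (hA _ _ bc h2) | exact absurd h2 (hB _ _ ab h1)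
    | exact absurd h3 (hB _ _ ac h1) | exact absurd h3 (hB _ _ bc h2)
    | exact absurd h2 (hC _ _ ab h1) | exact absurd h3 (hC _ _ ac h1)
    | exact absurd h3 (hC _ _ bc h2)
    | exact ⟨_, _, _, bc, h1, h2, h3⟩ | exact ⟨_, _, _, bc.symm, h1, h3, h2⟩
    | exact ⟨_, _, _, ac, h2, h1, h3⟩ | exact ⟨_, _, _, ac.symm, h2, h3, h1⟩
    | exact ⟨_, _, _, ab, h3, h1, h2⟩ | exact ⟨_, _, _, ab.symm, h3, h2, h1⟩

variable {ι : Type} [Fintype ι] [DecidableEq ι] {m : ι → ℕ}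

theorem omR_of_dvd {a b : ℕ} (h : OmR m b) (hd : a ∣ b) : OmR m a :=
  h.imp fun _ h => hd.trans h

theorem not_two (N : RNum m) {i : ι} {x y : Fin 4} (hxy : x ≠ y) {s n : ℕ} (hs : s.Prime)
    (h1 : s ∣ rc (m i) x) (h2 : s ∣ n) (h3 : rc (m i) y ∣ n) : ¬ OmR m n := fun h => by
  obtain ⟨t, ht, h4⟩ := Nat.exists_prime_and_dvd (N.one_lt i y).ne'
  refine N.adj i x y s t hxy hs ht h1 h4 (omR_of_dvd h (Nat.Coprime.mul_dvd_of_dvd_of_dvd ?_ h2
    (h4.trans h3)))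
  exact ((N.cop i x i y (by simpa using hxy)).coprime_dvd_left h1).coprime_dvd_right h4

theorem not_both (N : RNum m) {i j : ι} {x y : Fin 4} (h : (i, x) ≠ (j, y)) {l : ℕ} (hl : l.Prime)
    (h1 : rc (m i) x ∣ l) : ¬ rc (m j) y ∣ l := fun h2 => by
  have := N.cop i x j y h
  rw [((Nat.dvd_prime hl).1 h1).resolve_left (N.one_lt i x).ne',
    ((Nat.dvd_prime hl).1 h2).resolve_left (N.one_lt j y).ne', Nat.coprime_self] at this
  exact hl.one_lt.ne' this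

theorem tri (N : RNum m) {T : Type*} [Group T] {l d n : ℕ} (hl : l.Prime) (hd : OmR m d)
    (hn : OmR m n) (hc : ∀ g : T, g ^ l = 1 ∨ orderOf g ∣ d ∨ orderOf g ∣ n) {i : ι} {x₀ : Fin 4}
    (h : ∀ x, x ≠ x₀ → Ord T (rc (m i) x)) :
    ∃ x y z, y ≠ z ∧ rc (m i) x ∣ l ∧ rc (m i) y ∣ d ∧ rc (m i) z ∣ n := by
  have key : ∀ e, OmR m e → ∀ u v, u ≠ v → rc (m i) u ∣ e → ¬ rc (m i) v ∣ e :=
    fun e he u v huv h1 h2 => by
      obtain ⟨s, hs, h3⟩ := Nat.exists_prime_and_dvd (N.one_lt i u).ne'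
      exact not_two N huv hs h3 (h3.trans h1) h2 he
  refine pigeon x₀ (fun u v huv => not_both N (by simpa using huv) hl) (key d hd) (key n hn)
    fun w hw => ?_
  obtain ⟨g, hg⟩ := h w hw
  rw [← hg]
  exact (hc g).imp_left orderOf_dvd_of_pow_eq_one

theorem l2_cases {G : Type*} [Group G] {q : ℕ} (h : IsL2 G q) : ∃ l : ℕ, l.Prime ∧ l ∣ q ∧
    (∃ k, q = l ^ k) ∧ ∀ g : G, g ^ l = 1 ∨ orderOf g ∣ (q - 1) / Nat.gcd 2 (q - 1) ∨
      orderOf g ∣ (q + 1) / Nat.gcd 2 (q - 1) := by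
  obtain ⟨F, _, _, rfl, ⟨e⟩⟩ := h
  obtain ⟨p, _⟩ := CharP.exists F
  have := Fact.mk (CharP.char_is_prime F p)
  obtain ⟨k, -, hk⟩ := FiniteField.card F p
  open H61 in
  obtain ⟨y, M⟩ := main_psl (F := F) p
  rw [Nat.card_eq_fintype_card] at M
  refine ⟨p, this.out, hk ▸ dvd_pow_self p k.ne_zero, ⟨k, hk⟩, fun g => ?_⟩
  rw [← e.orderOf_eq]
  exact (M.orderOf_cases (e g)).imp_left fun h => e.injective (by rw [map_pow, h, map_one])

theorem not_l2 (N : RNum m) {H : Type u} [Group H] [Finite H] (hs : SubR m H)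
    {T : ι → Subgroup H} (hT : ∀ i, Own m i (T i)) (i : ι) {q : ℕ} : ¬ IsL2 (T i) q := fun h => by
  have om : ∀ {n}, Ord H n → OmR m n := fun ⟨g, e⟩ => e ▸ hs g
  have om' : ∀ {n}, Ord (T i) n → OmR m n := fun ⟨g, e⟩ => om ⟨g, (orderOf_coe g).trans e⟩
  obtain ⟨l, hl, hlq, ⟨r, hr⟩, hc⟩ := l2_cases h
  obtain ⟨-, od, on⟩ := L2.facts h
  have T3 : ∀ j, T j = T i → ∃ x y z, y ≠ z ∧ rc (m j) x ∣ l ∧
      rc (m j) y ∣ (q - 1) / Nat.gcd 2 (q - 1) ∧ rc (m j) z ∣ (q + 1) / Nat.gcd 2 (q - 1) :=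
    fun j e => by
      obtain ⟨-, x₀, h0⟩ := hT j
      exact tri N hl (om' od) (om' on) hc fun x hx => e ▸ (h0 x hx).1
  obtain ⟨x, y, z, hyz, hx, hy, hz⟩ := T3 i rfl
  have e210 := N.cop210 i x
  rw [((Nat.dvd_prime hl).1 hx).resolve_left (N.one_lt i x).ne'] at e210
  have part : ∀ n w, Ord (T i) n → rc (m i) w ∣ n → ∃ a, a ∣ 126 ∧ n = a * rc (m i) w := by
    intro n w hn hw
    have h1 := N.part i w n (om' hn) fun s hs hsn => by
      rcases N.prime s hs (omR_of_dvd (om' hn) hsn) with e | e | e | ⟨j, v, e⟩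
      · exact .inl e
      · exact .inr (.inl e)
      · exact .inr (.inr (.inl e))
      refine .inr (.inr (.inr ?_))
      by_cases hj : j = i
      · subst hj
        by_contra h2
        exact not_two N (x := v) (y := w) (by rintro rfl; exact h2 e) hs e hsn hw (om' hn)
      exfalso
      have h2 : T j = T i := by
        obtain ⟨c, x₀, h0⟩ := hT j
        have os := hn.of_dvd hsn
        by_cases hv : v = x₀
        · subst hv
          by_contra h3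
          obtain ⟨v', hv'⟩ := exists_ne v
          obtain ⟨t, ht, h4⟩ := Nat.exists_prime_and_dvd (N.one_lt j v').ne'
          exact N.adj j v v' s t hv'.symm hs ht e h4 (om (ord_of_comp2 (hT i).1 c (Ne.symm h3) os
            ((h0 v' hv').1.of_dvd h4) (((N.cop j v j v' (by simpa using hv'.symm)).coprime_dvd_left
              e).coprime_dvd_right h4)))
        · obtain ⟨g, hg⟩ := os
          exact ((h0 v hv).2 s hs e _ (hT i).1 (hg ▸ orderOf_dvd_natCard g)).symm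
      obtain ⟨x', -, -, -, hx', -⟩ := T3 j h2
      exact not_both N (by simp [hj]) hl hx' hx
    obtain ⟨a, rfl⟩ := hw
    refine ⟨a, ?_, mul_comm _ _⟩
    rw [mul_comm 126] at h1
    exact Nat.dvd_of_mul_dvd_mul_left (zero_lt_one.trans (N.one_lt i w)) h1
  have hodd : Odd q := hr ▸ (hl.odd_of_ne_two (by rintro rfl; exact absurd e210 (by decide))).pow
  obtain ⟨k, rfl⟩ := hodd
  rw [Nat.add_sub_cancel, Nat.gcd_eq_left (dvd_mul_right 2 k)] at od on hy hz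
  rw [Nat.mul_div_cancel_left _ two_pos] at od hy
  rw [show (2 * k + 1 + 1) / 2 = k + 1 by omega] at on hz
  obtain ⟨a, ha, ea⟩ := part _ _ od hy
  obtain ⟨b, hb, eb⟩ := part _ _ on hz
  have h3 := N.l2 i y z a b hyz ha hb (by rw [← ea, ← eb])
  rw [← ea] at h3
  rw [h3] at hlq
  obtain rfl := (Nat.prime_dvd_prime_iff_eq hl Nat.prime_three).1 (hl.dvd_of_dvd_pow hlq)
  exact absurd e210 (by decide)

theorem jobR2 : JobR2.{u} := by
  intro ι _ _ m N H _ _ hH hs T hT i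
  have om' : ∀ {n}, Ord (T i) n → OmR m n := fun ⟨g, e⟩ => e ▸ orderOf_coe g ▸ hs g
  obtain ⟨t1, t2⟩ := hH.simple (hT i).1
  rcases H52.RB.walter' (T i) t2 (ab2_of_no_four fun e => N.no4 (om' e)).2 with
    ⟨n, -, hL⟩ | ⟨q, -, -, hL⟩ | hJ | ⟨K, _, _, n, hn, hK, ⟨e⟩⟩
  · exact absurd hL (not_l2 N hs hT i)
  · exact absurd hL (not_l2 N hs hT i)
  · rcases N.prime 5 Nat.prime_five (om' ((ord_J1 hJ 5).2 (by decide))) with e | e | e | ⟨j, v, e⟩
    · omega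
    · omega
    · omega
    · exact absurd ((N.cop210 j v).coprime_dvd_left e) (by decide)
  · have c : Nat.card (T i) = reeOrd n :=
      (Nat.card_congr e.toEquiv).trans (Cfsg.Agent.S1069.result hK)
    obtain ⟨-, x₀, h0⟩ := hT i
    obtain ⟨x, hx⟩ := exists_ne x₀
    obtain ⟨s, hs, h1⟩ := Nat.exists_prime_and_dvd (N.one_lt i x).ne'
    obtain ⟨g, hg⟩ := (h0 x hx).1
    obtain rfl := N.ree n hn (fun s hs h => om' (ord_of_prime hs (c ▸ h))) i x s hs h1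
      (c ▸ h1.trans (hg ▸ orderOf_dvd_natCard g))
    exact ⟨K, _, _, hK, ⟨e⟩⟩

end H86.Ord
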