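import Cfsg.Agent.H86.SPIKit

/-! STD-SP chapter I: computing modulo the short root subgroup `N` of a line. -/

set_option autoImplicit false
set_option linter.unusedSectionVars false

namespace H86.SPI

open H67.UA hiding Par
open H67.SP

universe u

variable {n : ℕ} {F : Type} [Field F] [StarRing F] [TrivialStar F] [CharP F 2] [Finite F] [Par n F]
  {x x' : Vn n F} {G : Type u} [Group G] (e : XU n F →* G) {t : G} {k : F} {y : Vn n F → G}

/-- `N`, the image of the short root subgroup of the line -/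
def NL (h : hf x x' = 0) : Subgroup G where
  carrier := {g | ∃ c : F, g = e (qq (c • x') x)}
  one_mem' := ⟨0, by simp⟩
  mul_mem' := by
    rintro _ _ ⟨c, rfl⟩ ⟨d, rfl⟩
    exact ⟨c + d, by rw [← map_mul, qq_add_smul h]⟩
  inv_mem' := by
    rintro _ ⟨c, rfl⟩
    exact ⟨c, by rw [← map_inv, inv_eq_of_mul_eq_one_left
      (qq_sq (by rw [hf_smul_left, hf_symm h, mul_zero]))]⟩

/-- the normaliser of `N` -/
abbrev ML (h : hf x x' = 0) : Subgroup G := Subgroup.normalizer (NL e h : Set G)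

open Classical in
/-- the class modulo `N` of an element of the normaliser -/
noncomputable def pr (h : hf x x' = 0) (g : G) : ML e h ⧸ (NL e h).subgroupOf (ML e h) :=
  if k : g ∈ ML e h then QuotientGroup.mk ⟨g, k⟩ else 1

variable {e} {h : hf x x' = 0} {a b : G}

theorem pr_mul (ha : a ∈ ML e h) (hb : b ∈ ML e h) : pr e h (a * b) = pr e h a * pr e h b := by
  rw [pr, pr, pr, dif_pos ha, dif_pos hb, dif_pos (mul_mem ha hb)]; rfl

theorem pr_inv (ha : a ∈ ML e h) : pr e h a⁻¹ = (pr e h a)⁻¹ := by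
  rw [pr, pr, dif_pos ha, dif_pos (inv_mem ha)]; rfl

theorem pr_eq (ha : a ∈ ML e h) (hb : b ∈ ML e h) :
    pr e h a = pr e h b ↔ ∃ c : F, b = a * e (qq (c • x') x) := by
  rw [pr, pr, dif_pos ha, dif_pos hb, QuotientGroup.eq]
  exact exists_congr fun c => inv_mul_eq_iff_eq_mul

theorem pr_one : pr e h 1 = 1 := by rw [pr, dif_pos (one_mem _)]; rfl

theorem qq_mem_ML (c : F) : e (qq (c • x') x) ∈ ML e h := Subgroup.le_normalizer ⟨c, rfl⟩

theorem pr_qq (c : F) : pr e h (e (qq (c • x') x)) = 1 :=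
  pr_one.symm.trans ((pr_eq (one_mem _) (qq_mem_ML c)).2 ⟨c, (one_mul _).symm⟩) |>.symm

theorem pr_mul_qq (ha : a ∈ ML e h) (c : F) : pr e h (a * e (qq (c • x') x)) = pr e h a := by
  rw [pr_mul ha (qq_mem_ML c), pr_qq, mul_one]

theorem mem_ML (ha : ∀ c : F, a * e (qq (c • x') x) = e (qq (c • x') x) * a) : a ∈ ML e h :=
  Subgroup.centralizer_le_normalizer _ (by rintro _ ⟨c, rfl⟩; exact (ha c).symm)

theorem AV.mem_ML (hV : AV e t) : t ∈ ML e h := SPI.mem_ML fun _ => hV.cen _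

theorem TT_mem_ML (r s : F) : e (TT (r • x + s • x')) ∈ ML e h :=
  mem_ML fun c => by rw [← map_mul, TT_comm_qq h, map_mul]

theorem Fam.mem_ML (hy : Fam e t k y) (hW : MW n F) (hx : Ts x x') (r s : F) :
    y (r • x + s • x') ∈ ML e h := SPI.mem_ML fun c => hy.comm_qq hW hx.l hx.r h r s c

/-- An element of `X` that scales `x` and fixes `x'`. -/
theorem scale_mem_ML [Finite G] {g : XU n F} {r : F} (h1 : ac g x = r • x) (h2 : ac g x' = x') :
    e g ∈ ML e h := Subgroup.mem_normalizer_fintype (by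
  rintro _ ⟨c, rfl⟩
  refine ⟨r * c, ?_⟩
  rw [← map_inv, ← map_mul, ← map_mul, qq_conj g (by rw [hf_smul_left, hf_symm h, mul_zero]),
    ac_smul, h1, h2]
  simpa using congrArg e (qq_comb h r 0 0 c))

variable (e h) in
/-- the class of a transvection -/
noncomputable abbrev pT (r s : F) := pr e h (e (TT (r • x + s • x')))
variable (e h y) in
/-- the class of `y (r x + s x')` -/
noncomputable abbrev pY (r s : F) := pr e h (y (r • x + s • x'))

theorem pT_zero : pT e h 0 0 = 1 := by simp [pT, pr_one]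

theorem pT_mul (r s r' s' : F) : pT e h r s * pT e h r' s' = pT e h (r + r') (s + s') := by
  rw [← pr_mul (TT_mem_ML r s) (TT_mem_ML r' s'), ← map_mul, TT_mul (hf_comb h r s r' s'), qq_comb h,
    map_mul, show r • x + s • x' + (r' • x + s' • x') = (r + r') • x + (s + s') • x' by module,
    pr_mul_qq (TT_mem_ML _ _)]

theorem pT_inj (hF : FC n F) (hV : AV e t) (hl : Li x x') {r s r' s' : F}
    (H : pT e h r s = pT e h r' s') : r = r' ∧ s = s' := by
  obtain ⟨c, hc⟩ := (pr_eq (TT_mem_ML _ _) (TT_mem_ML _ _)).1 H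
  rw [← map_mul] at hc
  have := hF.uq x x' h hl r s c r' s' 0 (by simpa using (hV.inj hc).symm)
  exact ⟨this.1, this.2.1⟩

theorem pT_eq_one (hF : FC n F) (hV : AV e t) (hl : Li x x') {r s : F} (H : pT e h r s = 1) :
    r = 0 ∧ s = 0 := pT_inj hF hV hl (H.trans pT_zero.symm)

theorem AV.pT_comm (hV : AV e t) (r s : F) : pr e h t * pT e h r s = pT e h r s * pr e h t := by
  rw [← pr_mul hV.mem_ML (TT_mem_ML _ _), hV.cen, pr_mul (TT_mem_ML _ _) hV.mem_ML]

/-- The two forms of `AV.v2` modulo `N`. -/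
theorem AV.v2' (hV : AV e t) (hl : Li x x') (h1 : a * t = t * a)
    (h2 : ∀ p, ac p x = x → ac p x' = x' → a * e p = e p * a) :
    ∃ r s : F, pr e h a = pT e h r s ∨ pr e h a = pr e h t * pT e h r s := by
  obtain ⟨r, s, c, H | H⟩ := hV.v2 a x x' h1 h hl h2
  · exact ⟨r, s, Or.inl (by rw [H, map_mul, pr_mul_qq (TT_mem_ML _ _)])⟩
  · exact ⟨r, s, Or.inr (by rw [H, map_mul, ← mul_assoc,
      pr_mul_qq (mul_mem hV.mem_ML (TT_mem_ML _ _)), pr_mul hV.mem_ML (TT_mem_ML _ _)])⟩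

theorem Fam.pY_zero (hy : Fam e t k y) : pY e y h 0 0 = 1 := by simp [pY, hy.zero, pr_one]

theorem Fam.pY_pT (hy : Fam e t k y) (hT : MT n F) (hW : MW n F) (hx : Ts x x') (r s r' s' : F) :
    pY e y h r s * pT e h r' s' = pT e h r' s' * pY e y h r s := by
  have h1 := hy.mem_ML (h := h) hW hx r s
  have h2 := hy.act_TT hT (hx.q0 r s) (hx.q0 r' s') (hf_comb h r s r' s')
  rw [← mul_inv_eq_iff_eq_mul, ← pr_inv h1, ← pr_mul h1 (TT_mem_ML _ _),
    ← pr_mul (mul_mem h1 (TT_mem_ML _ _)) (inv_mem h1), h2, qq_comb h, map_mul,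
    pr_mul_qq (TT_mem_ML _ _)]

theorem Fam.pY_t (hy : Fam e t k y) (hV : AV e t) (hW : MW n F) (hx : Ts x x') (r s : F) :
    pY e y h r s * pr e h t = pr e h t * pT e h (k * r) (k * s) * pY e y h r s := by
  have h1 := hy.mem_ML (h := h) hW hx r s
  rw [← mul_inv_eq_iff_eq_mul, ← pr_inv h1, ← pr_mul h1 hV.mem_ML,
    ← pr_mul (mul_mem h1 hV.mem_ML) (inv_mem h1), hy.tr _ (hx.q0 r s), smul_add, smul_smul,
    smul_smul, pr_mul hV.mem_ML (TT_mem_ML _ _)]

/-- An element `t ζ` does not commute with `y x'` modulo `N`. -/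
theorem Fam.not_t (hy : Fam e t k y) (hV : AV e t) (hT : MT n F) (hW : MW n F) (hF : FC n F)
    (hx : Ts x x') (hk : k ≠ 0) {r s r' s' : F}
    (H : pY e y h r s * (pr e h t * pT e h r' s') = pr e h t * pT e h r' s' * pY e y h r s) :
    r = 0 ∧ s = 0 := by
  rw [← mul_assoc, hy.pY_t hV hW hx, mul_assoc, hy.pY_pT hT hW hx, ← mul_assoc, mul_left_inj,
    mul_left_inj, mul_eq_left] at H
  exact (pT_eq_one hF hV hx.li H).imp (fun H => (mul_eq_zero.1 H).resolve_left hk)
    fun H => (mul_eq_zero.1 H).resolve_left hk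

theorem Fam2.pY_sq (hy : Fam2 e t k y) (hW : MW n F) (hx : Ts x x') (r s : F) :
    pY e y h r s * pY e y h r s = 1 := by
  rw [← pr_mul (hy.mem_ML hW hx r s) (hy.mem_ML hW hx r s), hy.sq _ (hx.q0 r s), pr_one]

theorem Fam2.pY_comm (hy : Fam2 e t k y) (hW : MW n F) (hx : Ts x x') {r s r' s' : F}
    (h0 : r * s' + s * r' ≠ 0) : pY e y h r' s' * pY e y h r s = pY e y h r s * pY e y h r' s' := by
  obtain ⟨c, hc⟩ := hy.com' hx h0
  have h1 := hy.mem_ML (h := h) hW hx r s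
  have h2 := hy.mem_ML (h := h) hW hx r' s'
  rw [← pr_mul h2 h1, hc, pr_mul_qq (mul_mem h1 h2), pr_mul h1 h2]

end H86.SPI
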