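import Cfsg.Agent.H86.SPODef

/-! STD-SP endgame, orthogonal model: slot M1. -/

set_option autoImplicit false
set_option linter.unusedSectionVars false

namespace H86.SPO.M1

open H64.SG (cjs is2_of_sq)
open H64.YE (M1 M2)
open H67.UA (XU)
open H67.SP (Lr)
open H67.SA (mem_cjs)
open H59.SO
open H56 H58 QuadraticMap Module Subgroup

variable {n : ℕ} {F V : Type} [Field F] [StarRing F] [TrivialStar F] [CharP F 2] [Finite F]
  [AddCommGroup V] [Module F V] [FiniteDimensional F V] {Q : QuadraticForm F V}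
  {ι : XU n F →* Om Q} {r : Fr Q} {w : V} (d : Dc ι r w) (k : KK r)

include d k

theorem tw {x y : V} (qx : Q x = 0) (hx : polar Q x w = 0) (hy : polar Q x y = 0)
    (h1 : polar Q w y = 1) : E Q x y * (ta Q w (E Q x y))⁻¹ = E Q x w := by
  rw [k.tE, refl_apply_of_orth (by rw [polar_comm, hx]), refl_apply, d.qw, h1, E_inv,
    ← E_add qx hy (by simp [hx, hy]), inv_one, one_mul, one_smul, sub2 F, ← add_assoc, add_self2 F,
    zero_add]

theorem gen : ∃ a u, a * (ta Q w a)⁻¹ = ι u ∧ ι.range ⊔ cjs a ι.range = ⊤ := by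
  obtain ⟨y, hy, y1⟩ := r.exists_polar d.par.toPar0 (x := w) (fun i => ⟨d.we i, d.wf i⟩)
    fun h => by simpa [h] using d.qw
  obtain ⟨u, hu⟩ := (d.rng (E Q (r.e 0) w)).2 (E_fix (d.we 0) (polar_self2 w))
  refine ⟨E Q (r.e 0) y, u, (tw d k (r.qe 0) (d.we 0) (hy 0).1 y1).trans hu.symm, ?_⟩
  set H := ι.range ⊔ cjs (E Q (r.e 0) y) ι.range
  have a0 : (E Q (r.e 0) y).1 w = w + r.e 0 := by
    rw [E_apply_orth (r.qe 0) (hy 0).1 (d.we 0), polar_comm, y1, one_smul]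
  have h0 : ∀ g : Om Q, g.1 (w + r.e 0) = w + r.e 0 → g ∈ H := fun g hg =>
    mem_sup_right (mem_cjs.2 ((d.rng _).2 (by
      rw [coe_mul, coe_mul, O.mul_apply, O.mul_apply, a0, hg, ← a0]; simp)))
  have h1 : ∀ (s : F) (g : Om Q), g.1 (w + s • r.e 1) = w + s • r.e 1 → g ∈ H := fun s g hg => by
    by_cases hs : s = 0
    · exact mem_sup_left ((d.rng g).2 (by simpa [hs] using hg))
    obtain ⟨p, p1, p2⟩ := d.par.toPar0.witt_c2 (r.ne 0) (r.qe 0) (d.we 0) (d.qw ▸ one_ne_zero)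
      (smul_ne_zero hs (r.ne 1)) (by simp [H56.Q_smul, r.qe]) (by simp [d.we]) rfl
    have hp : p ∈ H := mem_sup_left ((d.rng p).2 p2)
    have e : p.1 (w + r.e 0) = w + s • r.e 1 := by rw [map_add, p1, p2]
    have := h0 (p⁻¹ * g * p) (by
      rw [coe_mul, coe_mul, O.mul_apply, O.mul_apply, e, hg, ← e]; simp)
    exact (mul_mem_cancel_left (inv_mem hp)).1 ((mul_mem_cancel_right hp).1 this)
  have h2 : ∀ u, Q u = 0 → polar Q u w = 0 → polar Q u (r.e 1) = 0 → polar Q u (r.f 1) = 0 →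
      Ru Q u ≤ H := fun u qu u0 u1 u2 => by
    have k1 : ∀ x, polar Q x (r.e 1) ≠ 0 → E Q u x ∈ H := fun x hx =>
      h1 (polar Q x w / polar Q x (r.e 1)) _ (E_fix (by simp [u0, u1]) (by
        rw [polar_add_right, polar_smul_right, smul_eq_mul, div_mul_cancel₀ _ hx,
          CharTwo.add_self_eq_zero]))
    refine (Ru_le qu).2 fun x hx => by_cases (fun h : polar Q x (r.e 1) = 0 => ?_) (k1 x)
    rw [show x = x + r.f 1 + r.f 1 by rw [add_assoc, add_self2 F, add_zero],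
      E_add qu (by simp [hx, u2]) u2]
    exact mul_mem (k1 _ (by simp [h, r.fe])) (k1 _ (by simp [r.fe]))
  exact eq_top_iff.2 (d.fg.rf ▸ sup_le (h2 _ (r.qe 0) (d.we 0) (r.ee ..) (by simp [r.ef]))
    (h2 _ (r.qf 0) (d.wf 0) (by simp [r.fe]) (r.ff ..)))

theorem cl (v : Om Q) (hv : v * ta Q w v = 1) :
    ∃ g u, u * u = 1 ∧ v = g * ι u * (ta Q w g)⁻¹ := by
  have q1 : Q w ≠ 0 := d.qw ▸ one_ne_zero
  have k2 : v.1 * refl Q w * (v.1 * refl Q w) = 1 := by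
    have := congrArg Subtype.val hv
    rw [coe_mul, k.val] at this
    simpa [mul_assoc] using this
  obtain ⟨x, -, ⟨x1, h1⟩, h2, h3⟩ := d.fs.x0 _ k2
  have hx : Q x = 1 := h2.resolve_left fun h =>
    d.par.toPar0.refl_notMem q1 ((mul_mem_cancel_left v.2).1 (h3.2 h))
  have fx : (v.1 * refl Q w) x = x := by
    rw [h1, map_sub, ← O.mul_apply, k2, sub2 F, sub2 F, add_comm]; rfl
  obtain ⟨g, hg⟩ := k.w1 w x d.qw hx
  have ww : refl Q w w = w := refl_apply_of_orth (polar_self2 w)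
  have e : (g⁻¹ * v * ta Q w g).1 w = w := by
    rw [coe_mul, coe_mul, k.val, O.mul_apply, O.mul_apply, O.mul_apply, O.mul_apply, ww, hg,
      ← O.mul_apply v.1, fx, ← hg]; simp
  obtain ⟨u, hu⟩ := (d.rng _).2 e
  have t2 : ∀ y, ta Q w (ta Q w y) = y := fun y => DFunLike.congr_fun (k.t2 w) y
  refine ⟨g, u, d.inj ?_, by rw [hu]; group⟩
  rw [map_mul, map_one]
  nth_rewrite 2 [← (k.fx w (ι u) q1).2 (hu ▸ e)]
  rw [hu, map_mul, map_mul, map_inv, t2]
  calc _ = g⁻¹ * (v * ta Q w v) * g := by group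
    _ = 1 := by rw [hv]; group

omit d k in
theorem jobM1 : JobM1 := by
  intro n F _ _ _ _ _ _ _ _ _ V _ _ _ Q ι r w d k
  have q1 : Q w ≠ 0 := d.qw ▸ one_ne_zero
  refine ⟨⟨k.t2 w, fun y => (k.fx w y q1).trans (d.rng y).symm, r.syl, d.stU, fun h => ?_,
    gen d k⟩, fun u _ hu => ?_, cl d k⟩
  · obtain ⟨g, hg⟩ := d.fa.a3 _ (is2_of_sq (k.t2 w)) (.inr h)
    exact k.out w q1 g hg
  · obtain ⟨x, x0, qx, xw, e⟩ := (d.lr u).1 hu
    obtain ⟨y, y1, -, y2⟩ := H48.SOI.ex_pol3 d.par.nd (u := x) (w := x) (t := w) fun h => by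
      obtain ⟨a, b, h⟩ := Submodule.mem_span_pair.1 h
      exact q1 (by rw [← h, ← add_smul, H56.Q_smul, qx, mul_zero])
    exact ⟨_, e.trans (tw d k qx xw y1 y2).symm⟩

end H86.SPO.M1
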