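import Cfsg.Agent.H58.SpoKG
import Cfsg.Agent.H1.SPOKR
import Cfsg.Agent.H49.SPOKN
import Cfsg.Agent.H37.SPOKL
import Cfsg.Agent.H45.SPOKS
import Cfsg.Agent.H18.SPOXS
import Cfsg.Agent.H26.SPODc
import Cfsg.Agent.H96.SPOKD
import Cfsg.Agent.H89.SPOQN
import Cfsg.Agent.H90.SpoL1
import Cfsg.Agent.H98.SpoM3
import Cfsg.Agent.H10.SPOMC
import Cfsg.Agent.H17.SPORD
import Cfsg.Agent.H8.SPORA
import Cfsg.Agent.H43.SPOB
import Cfsg.Agent.H57.SPOOH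
import Cfsg.Agent.H84.SpOS
import Cfsg.Agent.H76.SPOIR
import Cfsg.Agent.H86.SPOOC
import Cfsg.Agent.H29.SPOU1
import Cfsg.Agent.H44.YEa
import Cfsg.Agent.H16.SpoOU
import Cfsg.Agent.H86.SPOM1

/-! STD-SP endgame (row S3129): the orthogonal model satisfies `Mod`. -/

set_option autoImplicit false

namespace H86.SPO

theorem mo : H64.YE.JobMO :=
  jobMO ⟨H58.SpoKG.jobKG, H1.SPOKR.jobKR, H49.SPOKN.jobKN, H37.SPOKL.jobKL, H45.SPO.jobKS,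
    H18.SPOXS.jobXS, H26.SPO.jobDc, H96.SPO.jobKD, H89.SPOQN.jobQN, M1.jobM1, H90.SpoL1.jobL1,
    H98.SpoM3.jobM3, H10.OMC.jobMC, H17.SPORD.jobRD, H8.SPORA.jobRA, H43.SPOB.jobOB,
    H57.SPOOH.jobOH, H84.SpOS.jobOS, H76.SPOIR.jobIR, jobOC, H29.SPOU.jobU1, H16.SpoOU.jobOU⟩
    H44.YE.jobNA

end H86.SPO
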