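import Cfsg.Agent.H47.TISpec
import Cfsg.Agent.H18.FF3
import Cfsg.Agent.H98.PReduced
import Cfsg.Agent.S3224

/-! S3236, seat B: the local facts at an essential subgroup. -/

set_option autoImplicit false
set_option linter.unusedSectionVars false

namespace H86.TI

open Cfsg Subgroup H14 H98 H1.Gold H10.C2 H47.TI
open H86.AG (Ess)
open scoped commutatorElement

universe u

variable {G : Type u} [Group G]

theorem rel_ne [Finite G] (H K : Subgroup G) : H.relIndex K ≠ 0 := index_ne_zero_of_finite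

theorem conj_pow_eq {g x c : G} (h1 : g * x * g⁻¹ = x * c) (h2 : Commute g c) (n : ℕ) :
    g ^ n * x * (g ^ n)⁻¹ = x * c ^ n := by
  induction n with
  | zero => simp
  | succ n ih =>
    calc g ^ (n + 1) * x * (g ^ (n + 1))⁻¹ = g * (g ^ n * x * (g ^ n)⁻¹) * g⁻¹ := by
          rw [pow_succ']; group
      _ = g * x * g⁻¹ * (g * c ^ n * g⁻¹) := by rw [ih]; group
      _ = x * c ^ (n + 1) := by
          rw [h1, (h2.pow_right n).eq, mul_inv_cancel_right, pow_succ', mul_assoc]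

theorem step [Finite G] {A B : Subgroup G} (hA : IsPGroup 2 A) {g : G} (h1 : g ∈ cen A)
    (h2 : g ∈ stab B A) : ∃ k, g ^ 2 ^ k ∈ cen B := by
  obtain ⟨k, hk⟩ := IsPGroup.iff_card.1 hA
  refine ⟨k, mem_centralizer_iff.2 fun b hb => ?_⟩
  have h0 := h2.2 _ (inv_mem hb)
  have h3 := conj_pow_eq (g := g) (x := b) (c := ⁅b⁻¹, g⁆) (by rw [commutatorElement_def]; group)
    (mem_centralizer_iff.1 h1 _ h0).symm (2 ^ k)
  have h4 : ⁅b⁻¹, g⁆ ^ 2 ^ k = 1 := congrArg Subtype.val (hk ▸ pow_card_eq_one' (x := (⟨_, h0⟩ : A)))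
  rw [h4, mul_one, mul_inv_eq_iff_eq_mul] at h3
  exact h3.symm

/-- The stabilizer of a chain in a self-centralizing `2`-subgroup is a `2`-group. -/
theorem two_stab [Finite G] {U A B : Subgroup G} (hU : IsPGroup 2 U) (hc : cen U ≤ U) (hA : A ≤ U)
    (hB : B ≤ U) : IsPGroup 2 (cen A ⊓ stab B A ⊓ stab U B : Subgroup G) := by
  rintro ⟨g, ⟨h1, h2⟩, h3⟩
  obtain ⟨i, hi⟩ := step (hU.to_le hA) h1 h2
  obtain ⟨j, hj⟩ := step (hU.to_le hB) hi (pow_mem h3 _)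
  obtain ⟨k, hk⟩ := two_of_mem hU (hc hj)
  exact ⟨i + j + k, Subtype.ext (by simpa [pow_add, pow_mul] using hk)⟩

/-- The subgroup generated by the squares. -/
def mho (U : Subgroup G) : Subgroup G := closure ((· ^ 2) '' U)

theorem mho_le (U : Subgroup G) : mho U ≤ U :=
  (closure_le _).2 (by rintro _ ⟨u, hu, rfl⟩; exact pow_mem hu 2)

theorem sq_mem_mho {U : Subgroup G} {u : G} (hu : u ∈ U) : u ^ 2 ∈ mho U :=
  subset_closure ⟨u, hu, rfl⟩

theorem map_mho (f : G →* G) (U : Subgroup G) : (mho U).map f = mho (U.map f) := by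
  rw [mho, MonoidHom.map_closure, mho, coe_map, Set.image_image, Set.image_image]
  simp only [map_pow]

theorem nor_le_mho (U : Subgroup G) : nor U ≤ nor (mho U) := fun g hg => by
  rw [nor, ← cj_eq_self_iff, cj, map_mho]
  exact congrArg mho (cj_eq_self hg)

theorem map_cc_le (α : MulAut G) {V : Subgroup G} (h : V.map α.toMonoidHom = V) :
    (cc V).map α.toMonoidHom ≤ cc V := by
  rintro _ ⟨x, hx, rfl⟩
  rw [SetLike.mem_coe, mem_cc] at hx
  refine mem_cc.2 ⟨h.le ⟨x, hx.1, rfl⟩, fun y hy h2 => ?_⟩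
  obtain ⟨y, rfl⟩ := α.surjective y
  have h3 : y ∈ nor V := by
    have := map_equiv_normalizer_eq V α
    rw [h] at this
    obtain ⟨y', h4, e⟩ := this.ge hy
    rwa [← α.injective e]
  obtain ⟨k, hk⟩ := h2
  have := hx.2 y h3 ⟨k, α.injective (by rw [map_pow, hk, map_one])⟩
  simpa using congrArg α this

/-- An essential subgroup with the properties `EH`. -/
structure E (T U : Subgroup G) : Prop where
  syl : IsSyl 2 T ⊤
  ess : ∃ M, Ess 2 T U M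
  eh : EH T U

namespace E

variable [Finite G] {T U : Subgroup G} (h : E T U)
include h

theorem pT : IsPGroup 2 T := h.syl.isPGroup

theorem le : U ≤ T := h.ess.elim fun _ e => e.le

theorem pU : IsPGroup 2 U := h.pT.to_le h.le

theorem sylP : IsSyl 2 (T ⊓ nor U) (nor U) := h.ess.elim fun _ e => e.syl

theorem lt : U < T ⊓ nor U := h.ess.elim fun _ e => e.lt h.pT

theorem le_syl {P : Subgroup G} (hP : IsSyl 2 P (nor U)) : U ≤ P :=
  hP.le_of_le_normalizer h.pU le_normalizer hP.le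

theorem mem_V {x : G} (hx : x ∈ U) (h2 : x ^ 2 = 1) : x ∈ oz 2 U := by
  obtain ⟨P, hP, e⟩ := h.eh.cent x hx h2
  exact mem_oz.2 ⟨hx, centralizer_anti (h.le_syl hP) e, h2⟩

theorem le_V {X : Subgroup G} (hX : IsElementaryAbelian 2 X) (h1 : X ≤ U) : X ≤ oz 2 U :=
  fun x hx => h.mem_V (h1 hx) (hX.2 x hx)

theorem ne_bot : U ≠ ⊥ := fun e => by
  have h1 := h.eh.cen_le
  rw [e, cen, centralizer_bot'] at h1
  exact h.lt.not_ge (le_top.trans (h1.trans bot_le))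

theorem nor_V : nor (oz 2 U) = nor U :=
  le_antisymm (h.eh.max _ (oz_le U) (oz_ne_bot h.pU h.ne_bot) (le_normalizer_oz le_rfl)
    fun α e _ => by rw [map_oz α.injective, e]) (le_normalizer_oz le_rfl)

theorem syl_eq {P P' : Subgroup G} (hP : IsSyl 2 P (nor U)) (hP' : IsSyl 2 P' (nor U)) {s : G}
    (h1 : s ∈ P) (h2 : s ∈ P') (h3 : s ∉ U) : P = P' :=
  by_contra fun e => h3 ((h.eh.ti P P' hP hP' e).le ⟨h1, h2⟩)

theorem exists_move : ∃ g ∈ nor U, g ∉ nor (T ⊓ nor U) := by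
  obtain ⟨M, e⟩ := h.ess
  obtain ⟨g, h1, h2⟩ := SetLike.not_le_iff_exists.1 e.nle
  exact ⟨g, h1, fun h3 => h2 (e.up _ h.lt le_rfl ⟨h1, h3⟩)⟩

/-- Two Sylow subgroups meeting a common `2`-subgroup outside `U`. -/
theorem syl_eq' {P P' X : Subgroup G} (hP : IsSyl 2 P (nor U)) (hP' : IsSyl 2 P' (nor U))
    (hX : IsPGroup 2 X) (h0 : X ≤ nor U) {s s' : G} (h1 : s ∈ P) (h2 : s ∈ X) (h3 : s ∉ U)
    (h4 : s' ∈ P') (h5 : s' ∈ X) (h6 : s' ∉ U) : P = P' := by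
  obtain ⟨g, hg, e⟩ := hP.exists_le_cj hX h0
  exact (h.syl_eq hP (hP.cj_of_mem hg) h1 (e h2) h3).trans
    (h.syl_eq (hP.cj_of_mem hg) hP' (e h5) h4 h6)

theorem le_of_normal {X : Subgroup G} (hX : IsPGroup 2 X) (h1 : X ≤ nor U) (h2 : nor U ≤ nor X) :
    X ≤ U := by
  obtain ⟨g, hg, e⟩ := h.exists_move
  have h3 := h.sylP.cj_of_mem hg
  rw [← h.eh.ti _ _ h3 h.sylP fun e1 => e (cj_eq_self_iff.1 e1)]
  exact le_inf (h3.le_of_le_normalizer hX h1 (h3.le.trans h2))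
    (h.sylP.le_of_le_normalizer hX h1 (inf_le_right.trans h2))

theorem cv {s v : G} (hs : s ∈ T ⊓ nor U) (h1 : s ∉ U) (hv : v ∈ oz 2 U) (e : s * v = v * s) :
    v ∈ cen (T ⊓ nor U) := by
  obtain ⟨P, hP, h2⟩ := h.eh.cent v (oz_le U hv) (mem_oz.1 hv).2.2
  have h3 : P ≤ nor U ⊓ cen1 v := le_inf hP.le fun y hy => mem_cen1.2 (h2 y hy)
  obtain ⟨c, hc, h4⟩ := (hP.of_le h3 inf_le_left).exists_le_cj (two_of_mem h.pT hs.1).isPGroup
    (zpowers_le.2 ⟨hs.2, mem_cen1.2 e⟩)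
  rw [h.syl_eq h.sylP (hP.cj_of_mem hc.1) hs (h4 (mem_zpowers s)) h1]
  exact fun y hy => mem_cen1.1 (cj_le_of_le_of_mem h3 hc hy).2

theorem oz_T : oz 2 T ≤ oz 2 U := fun _ hx =>
  h.mem_V (h.eh.cen_le (centralizer_anti h.le (mem_oz.1 hx).2.1)) (mem_oz.1 hx).2.2

/-- Type C. -/
theorem typeC (hC : oz 2 U ≤ cen (T ⊓ nor U)) : T ≤ nor U ∧ oz 2 U = oz 2 T := by
  have h1 : oz 2 U = oz 2 (T ⊓ nor U) := le_antisymm
    (le_oz (ea_oz U) ((oz_le U).trans h.lt.le) hC) fun x hx =>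
      h.mem_V (h.eh.cen_le (centralizer_anti h.lt.le (mem_oz.1 hx).2.1)) (mem_oz.1 hx).2.2
  have h2 : T ⊓ nor U = T := by
    by_contra e
    refine (lt_inf_normalizer h.pT (lt_of_le_of_ne inf_le_left e)).not_ge (le_inf inf_le_left ?_)
    exact (le_normalizer_oz inf_le_right).trans (h1 ▸ h.nor_V.le)
  exact ⟨h2.ge.trans inf_le_right, by rw [h1, h2]⟩

variable (hV : ¬ oz 2 U ≤ cen (T ⊓ nor U))
include hV

theorem mem_U {s : G} (hs : s ∈ T ⊓ nor U) (h1 : s ∈ cen (oz 2 U)) : s ∈ U :=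
  by_contra fun e => hV fun v hv => h.cv hs e hv (mem_centralizer_iff.1 h1 v hv).symm

theorem not_nor : ¬ nor U ≤ nor (oz 2 U ⊓ cen (T ⊓ nor U)) := fun e => hV fun v hv => by
  obtain ⟨P, hP, h2⟩ := h.eh.cent v (oz_le U hv) (mem_oz.1 hv).2.2
  obtain ⟨g, hg, rfl⟩ := h.sylP.exists_cj_eq hP
  have h3 : v ∈ cj g (oz 2 U ⊓ cen (T ⊓ nor U)) := by
    rw [cj_inf, cj_eq_self (le_normalizer_oz le_rfl hg), cen, cj_centralizer]
    exact ⟨hv, h2⟩
  rw [cj_eq_self (e hg)] at h3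
  exact h3.2

theorem sev : SEV (nor U) (T ⊓ nor U) (oz 2 U) (nor U ⊓ nor (oz 2 U ⊓ cen (T ⊓ nor U))) := by
  have hP : nor U ⊓ nor (T ⊓ nor U) ≤ nor U ⊓ nor (oz 2 U ⊓ cen (T ⊓ nor U)) :=
    le_inf inf_le_left (le_normalizer_inf (le_normalizer_oz inf_le_left)
      (le_normalizer_centralizer inf_le_right))
  refine ⟨ea_oz U, (oz_le U).trans h.lt.le, le_normalizer_oz le_rfl, h.sylP,
    (le_inf inf_le_right le_normalizer).trans hP, inf_le_left,
    fun e => h.not_nor hV (e.trans inf_le_right), inf_le_inf_left _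
      (le_normalizer_of_le_centralizer (centralizer_anti inf_le_left)), fun g hg s hs h1 h2 => ?_⟩
  obtain ⟨m, hm, e⟩ := (h.sylP.of_le ((le_inf inf_le_right le_normalizer).trans hP)
    inf_le_left).exists_le_cj (two_conj (two_of_mem h.pT hs.1) g).isPGroup (zpowers_le.2 h2)
  have h3 := h.syl_eq (h.sylP.cj_of_mem hg) (h.sylP.cj_of_mem hm.1) (conj_mem_cj hs)
    (e (mem_zpowers _)) fun e1 => h1 (le_centralizer_oz U (by
      simpa [mul_assoc] using conj_mem_of_mem_normalizer (inv_mem hg) e1))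
  have h4 : m⁻¹ * g ∈ nor (T ⊓ nor U) := by rw [nor, ← cj_eq_self_iff, ← cj_cj, h3, cj_inv_cj]
  exact (Subgroup.mul_mem_cancel_left _ (Subgroup.inv_mem _ hm)).1
    (hP ⟨Subgroup.mul_mem _ (Subgroup.inv_mem _ hm.1) hg, h4⟩)

theorem ff {W : Subgroup G} (hW : IsElementaryAbelian 2 W) (h1 : W ≤ T ⊓ nor U) (h2 : U ≤ nor W)
    (h3 : ¬ W ≤ U) (h4 : (cen W).relIndex (oz 2 U) ≤ (cen (oz 2 U)).relIndex W) :
    T ⊓ nor U ≤ W ⊔ U ∧ FFD (nor U) (T ⊓ nor U) (oz 2 U) := by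
  obtain ⟨h5, h6⟩ := H18.jobFF G _ _ _ _ W (h.sev hV) h1
    (fun e => h3 fun w hw => h.mem_U hV (h1 hw) (e hw))
    ((commutator_le_right' ((oz_le U).trans h2)).trans (le_cen_self_of_elem hW)) h4
  exact ⟨h5.trans (sup_le_sup_left (fun s hs => h.mem_U hV hs.1 hs.2) _), h6⟩

theorem ff' {W : Subgroup G} (hW : IsElementaryAbelian 2 W) (h1 : W ≤ T ⊓ nor U) (h2 : U ≤ nor W)
    (h3 : ¬ W ≤ U) (h4 : Nat.card (oz 2 U) = Nat.card W) :
    T ⊓ nor U ≤ W ⊔ U ∧ FFD (nor U) (T ⊓ nor U) (oz 2 U) := by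
  refine h.ff hV hW h1 h2 h3 ((relIndex_le_of_le_left (le_cen_self_of_elem hW)
    (rel_ne _ _)).trans ?_)
  have e1 := H99.card_inf_mul_relIndex (oz 2 U) W
  have e2 := H99.card_inf_mul_relIndex W (oz 2 U)
  rw [h4, ← e2, inf_comm] at e1
  rw [Nat.eq_of_mul_eq_mul_left Nat.card_pos e1, ← inf_relIndex_right (cen _)]
  exact relIndex_le_of_le_left (fun w hw => h.mem_V (h.mem_U hV (h1 hw.2) hw.1) (hW.2 w hw.2))
    (rel_ne _ _)

omit hV

theorem mho_le_mho {U' : Subgroup G} (h1 : U ≤ oz 2 U ⊔ U') (h2 : U ≤ nor U') : mho U ≤ mho U' := by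
  refine (closure_le _).2 ?_
  rintro _ ⟨u, hu, rfl⟩
  obtain ⟨v, hv, c, hc, e⟩ := (mem_sup_left_norm ((oz_le U).trans h2)).1 (h1 hu)
  have h3 : c ∈ U := (U.mul_mem_cancel_left (oz_le U hv)).1 (e ▸ hu)
  have h4 : Commute v c := (mem_centralizer_iff.1 (mem_oz.1 hv).2.1 c h3).symm
  show u ^ 2 ∈ mho U'
  rw [e, h4.mul_pow, (mem_oz.1 hv).2.2, one_mul]
  exact sq_mem_mho hc

theorem mho_max (h1 : ¬ IsElementaryAbelian 2 U) : nor (mho U) ≤ nor U :=
  h.eh.max _ (mho_le U) (fun e => h1 (elem_of_forall fun _ hu => mem_bot.1 (e.le (sq_mem_mho hu))))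
    (nor_le_mho U) fun α e _ => by rw [map_mho, e]

theorem cc_eq_bot {x : G} (h1 : x ∉ nor U) (h2 : x ∈ cen (cc U)) : cc U = ⊥ :=
  by_contra fun e => h1 (h.eh.max _ (cc_le U) e (nor_le_nor_cc U) (fun α e _ => map_cc_le α e)
    (centralizer_le_normalizer _ h2))

theorem oz_eq (he : IsElementaryAbelian 2 U) : oz 2 U = U :=
  le_antisymm (oz_le U) (h.le_V he le_rfl)

theorem typeV (he : IsElementaryAbelian 2 U) : ¬ oz 2 U ≤ cen (T ⊓ nor U) := fun e => by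
  rw [h.oz_eq he, cen, le_centralizer_iff] at e
  exact h.lt.not_ge (e.trans h.eh.cen_le)

theorem four (he : IsElementaryAbelian 2 U) (h4 : Nat.card U = 4) :
    (∃ n : ℕ, Nonempty (T ≃* DihedralGroup n)) ∨ IsQuasiDihedral T := by
  obtain ⟨v, hv, h1⟩ := SetLike.not_le_iff_exists.1 (h.typeV he)
  have h2 : U ≤ T ⊓ cen1 v := le_inf h.le fun u hu => mem_cen1.2 (elem_comm he hu (oz_le U hv))
  have h3 : T ⊓ cen1 v = U := by
    by_contra e
    obtain ⟨s, hs, h5⟩ := SetLike.exists_of_lt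
      (lt_inf_normalizer h.pT.to_inf_left (lt_of_le_of_ne h2 (Ne.symm e)))
    exact h1 (h.cv ⟨hs.1.1, hs.2⟩ h5 hv (mem_cen1.1 hs.1.2))
  have h5 : centralizer {(⟨v, h.le (oz_le U hv)⟩ : T)} = U.subgroupOf T := by
    ext t
    rw [mem_centralizer_singleton_iff, mem_subgroupOf, Subtype.ext_iff]
    exact ⟨fun e => h3.le ⟨t.2, mem_cen1.2 e⟩, fun e => mem_cen1.1 (h2 e).2⟩
  rcases Cfsg.Agent.S3224.result h.pT ⟨v, h.le (oz_le U hv)⟩ (orderOf_eq_prime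
    (Subtype.ext (mem_oz.1 hv).2.2) fun e => h1 (by rw [show v = 1 from congrArg Subtype.val e]; exact one_mem _))
    (by rw [h5, Nat.card_congr (subgroupOfEquivOfLe h.le).toEquiv, h4]) with e | e | e
  exacts [Or.inl e, Or.inr e, (h.lt.not_ge (inf_le_left.trans
    (eq_of_le_of_card_ge h.le (by rw [e, h4])).ge)).elim]

end E

/-- An elementary abelian essential subgroup `V` with `N_T(V) = V W`. -/
structure EW (T V W : Subgroup G) : Prop extends E T V where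
  elV : IsElementaryAbelian 2 V
  elW : IsElementaryAbelian 2 W
  sup : T ⊓ nor V = V ⊔ W
  norW : V ≤ nor W
  cenW : cen W ≤ W
  ffd : FFD (nor V) (T ⊓ nor V) V

namespace EW

variable [Finite G] {T V W : Subgroup G} (h : EW T V W)
include h

theorem nle : ¬ W ≤ V := fun e => h.lt.not_ge (h.sup.le.trans (sup_le le_rfl e))

theorem Wle : W ≤ T ⊓ nor V := le_sup_right.trans h.sup.ge

theorem mem_cen {v : G} (hv : v ∈ V) : v ∈ cen (T ⊓ nor V) ↔ v ∈ W := by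
  refine ⟨fun e => h.cenW (centralizer_anti h.Wle e), fun e => ?_⟩
  rw [h.sup, cen, centralizer_sup]
  exact ⟨le_cen_self_of_elem h.elV hv, le_cen_self_of_elem h.elW e⟩

theorem zcomm {z s : G} (h1 : z ∈ V) (h2 : z ∈ W) (hs : s ∈ T ⊓ nor V) : s * z = z * s :=
  mem_centralizer_iff.1 ((h.mem_cen h1).2 h2) s hs

theorem comm {s v : G} (hs : s ∈ T ⊓ nor V) (hv : v ∈ V) (e : s * v = v * s) : s ∈ V ∨ v ∈ W :=
  or_iff_not_imp_left.2 fun h1 => (h.mem_cen hv).1 (h.cv hs h1 ((h.oz_eq h.elV).ge hv) e)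

theorem mem_sup {y : G} (hy : y ∈ T ⊓ nor V) : ∃ v ∈ V, ∃ w ∈ W, y = v * w :=
  (mem_sup_left_norm h.norW).1 (h.sup.le hy)

theorem sq {v w : G} (hv : v ∈ V) (hw : w ∈ W) (e : (v * w) ^ 2 = 1) : w ∈ V ∨ v ∈ W :=
  h.comm (h.Wle hw) hv (by
    rw [← elem_inv h.elW hw, ← elem_inv h.elV hv, ← mul_inv_rev, elem_inv h.elW hw,
      elem_inv h.elV hv, inv_eq_iff_mul_eq_one, ← pow_two, e])

theorem inv {y : G} (hy : y ∈ T ⊓ nor V) (e : y ^ 2 = 1) : y ∈ V ∨ y ∈ W := by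
  obtain ⟨v, hv, w, hw, rfl⟩ := h.mem_sup hy
  exact (h.sq hv hw e).imp (mul_mem hv) fun e => mul_mem e hw

theorem le_or {X : Subgroup G} (hX : IsElementaryAbelian 2 X) (h1 : X ≤ T ⊓ nor V) :
    X ≤ V ∨ X ≤ W := by
  refine or_iff_not_imp_left.2 fun e x hx => ?_
  obtain ⟨s, hs, h2⟩ := SetLike.not_le_iff_exists.1 e
  exact (h.inv (h1 hx) (hX.2 x hx)).elim
    (fun h3 => (h.comm (h1 hs) h3 (elem_comm hX hs hx)).resolve_left h2) id

theorem cm {s t : G} (hs : s ∈ T ⊓ nor V) (ht : t ∈ T ⊓ nor V) : ⁅s, t⁆ ∈ V ⊓ W := by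
  have hW : T ⊓ nor V ≤ nor W := h.sup.le.trans (sup_le h.norW le_normalizer)
  have hZ : T ⊓ nor V ≤ nor (V ⊓ W) := le_normalizer_inf inf_le_right hW
  have h1 : ⁅V, W⁆ ≤ V ⊓ W :=
    le_inf (commutator_le_left' (h.Wle.trans inf_le_right)) (commutator_le_right' h.norW)
  have h2 : ∀ X : Subgroup G, IsElementaryAbelian 2 X → ⁅X, X⁆ ≤ V ⊓ W := fun X hX =>
    (commutator_eq_bot_iff_le_centralizer.2 (le_cen_self_of_elem hX)).le.trans bot_le
  have n1 := h.lt.le.trans hZ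
  have n2 := h.Wle.trans hZ
  exact commutator_sup_left_le n1 n2 (commutator_sup_right_le n1 n2 (h2 V h.elV) h1)
    (commutator_sup_right_le n1 n2 (by rwa [commutator_comm]) (h2 W h.elW))
    (commutator_mem_commutator (h.sup.le hs) (h.sup.le ht))

theorem Zeq : V ⊓ cen (T ⊓ nor V) = V ⊓ W := by
  ext v
  exact and_congr_right fun hv => h.mem_cen hv

theorem qeq : (cen V).relIndex (T ⊓ nor V) = V.relIndex W := by
  rw [le_antisymm h.eh.cen_le (le_cen_self_of_elem h.elV), h.sup, sup_comm,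
    H99.relIndex_sup_of_le_normalizer (h.Wle.trans inf_le_right)]

theorem i1 : W.relIndex V = V.relIndex W := by
  rw [← h.qeq, ← h.ffd.idx1, ← inf_relIndex_left V, ← h.Zeq, inf_relIndex_left]

theorem i2 : (cc V).relIndex (V ⊓ W) = V.relIndex W := by
  rw [← h.qeq, ← h.ffd.idx2, h.Zeq]; rfl

theorem two_le : 2 ≤ V.relIndex W := by
  have h1 := rel_ne V W
  have h2 : V.relIndex W ≠ 1 := fun e => h.nle (relIndex_eq_one.1 e)
  omega

theorem nge : ¬ V ≤ W := fun e => by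
  have := h.two_le
  rw [← h.i1, relIndex_eq_one.2 e] at this
  omega

theorem card_four (h1 : V.relIndex W ≤ 2) (h2 : cc V = ⊥) : Nat.card V = 4 := by
  have h3 := h.i2
  rw [h2, relIndex_bot_left] at h3
  rw [← H99.card_inf_mul_relIndex V W, h3, h.i1, le_antisymm h1 h.two_le]

theorem ncomm {v w : G} (hv : v ∈ V) (h1 : v ∉ W) (hw : w ∈ W) (h2 : w ∉ V) : ⁅v, w⁆ ∉ cc V :=
  h.ffd.ncomm v hv (fun e => h1 ((h.mem_cen hv).1 e)) w (h.Wle hw) fun e => h2 (h.eh.cen_le e)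

theorem exists_out {z : G} (hz : z ∈ V) (h1 : z ∉ cc V) : ∃ a ∈ V, a ∉ W ∧ IsConj z a := by
  by_contra hc
  refine h1 (mem_cc.2 ⟨hz, fun y hy h2 => ?_⟩)
  obtain ⟨g, hg, e⟩ := h.sylP.exists_cj_le h2.isPGroup (zpowers_le.2 hy)
  have h3 := conj_mem_of_mem_normalizer hg hz
  have h4 := h.zcomm h3 (by_contra fun e1 => hc ⟨_, h3, e1, isConj_iff.2 ⟨g, rfl⟩⟩)
    (e (conj_mem_cj (mem_zpowers y)))
  rwa [conj_mul, conj_mul, mul_left_inj, mul_right_inj] at h4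

end EW

theorem E.exists_nn [Finite G] {T U : Subgroup G} (h : E T U) (hn : ¬ T ≤ nor U) :
    ∃ x ∈ T ⊓ nor (T ⊓ nor U), x ∉ nor U ∧ EW T U (cj x U) := by
  have hV : ¬ oz 2 U ≤ cen (T ⊓ nor U) := fun e => hn (h.typeC e).1
  obtain ⟨x, hx, h1⟩ := SetLike.exists_of_lt (lt_inf_normalizer h.pT
    (lt_of_le_of_ne (inf_le_left : T ⊓ nor U ≤ T) fun e => hn (e.ge.trans inf_le_right)))
  have h2 : x ∉ nor U := fun e => h1 ⟨hx.1, e⟩
  have hn : ∀ y ∈ nor (T ⊓ nor U), ∀ X : Subgroup G, nor U ≤ nor X → U ≤ nor (cj y X) :=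
    fun y hy X hX => by
      rw [nor, ← cj_normalizer]
      exact h.lt.le.trans ((cj_eq_self hy).ge.trans (cj_mono y (inf_le_right.trans hX)))
  have key : ∀ y ∈ nor (T ⊓ nor U), y ∉ nor U →
      T ⊓ nor U ≤ cj y (oz 2 U) ⊔ U ∧ FFD (nor U) (T ⊓ nor U) (oz 2 U) := fun y hy h3 =>
    h.ff' hV (elem_cj (ea_oz U) y) (cj_le_of_le ((oz_le U).trans h.lt.le) hy)
      (hn y hy _ h.nor_V.ge)
      (fun e => h3 (h.nor_V.le (mem_normalizer_of_cj_le (h.le_V (elem_cj (ea_oz U) y) e))))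
      (card_cj y _).symm
  have he : IsElementaryAbelian 2 U := by
    by_contra e
    have h3 := cj_mono x (key x⁻¹ (inv_mem hx.2) (by rwa [inv_mem_iff])).1
    rw [cj_eq_self hx.2, cj_sup, cj_cj_inv] at h3
    have h4 := h.mho_le_mho (h.lt.le.trans h3) (hn x hx.2 U le_rfl)
    rw [cj, ← map_mho] at h4
    exact h2 (inv_mem_iff.1 (h.mho_max e (mem_normalizer_of_cj_le (le_cj_iff.1 h4))))
  have h3 := key x hx.2 h2
  rw [h.oz_eq he] at h3
  refine ⟨x, hx, h2, h, he, elem_cj he x, le_antisymm (h3.1.trans (sup_comm _ _).le)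
    (sup_le h.lt.le (cj_le_of_le h.lt.le hx.2)), hn x hx.2 U le_rfl, ?_, h3.2⟩
  rw [cen, ← cj_centralizer]
  exact cj_mono x h.eh.cen_le

end H86.TI
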