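import Cfsg.Agent.H86.TI1
import Cfsg.Agent.H86.Misc

/-! S3236, seat B: an essential subgroup that is not normal in the Sylow subgroup. -/

set_option autoImplicit false
set_option linter.unusedSectionVars false

namespace H86.TI

open Cfsg Subgroup H14 H98 H1.Gold H10.C2 H47.TI
open H86.AG (Ess)
open scoped commutatorElement

universe u

variable {G : Type u} [Group G]

theorem rel_two {H K : Subgroup G} {a : G} (ha : a ∈ K) (h1 : a ∉ H)
    (h2 : ∀ s ∈ K, ∀ t ∈ K, s ∉ H → t ∉ H → s * t ∈ H) : H.relIndex K = 2 :=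
  relIndex_eq_two_iff.2 ⟨a, ha, fun b hb => by
    by_cases e : b ∈ H
    · exact Or.inr ⟨e, fun e1 => h1 ((H.mul_mem_cancel_left e).1 e1)⟩
    · exact Or.inl ⟨h2 b hb a ha e h1, e⟩⟩

theorem EW.cc_le [Finite G] {T V W : Subgroup G} (h : EW T V W) : cc V ≤ V ⊓ W := fun _ hz =>
  ⟨H10.C2.cc_le V hz, (h.mem_cen (H10.C2.cc_le V hz)).1
    (le_centralizer_iff.1 (le_cen_cc h.pT.to_inf_left inf_le_right) hz)⟩

/-- The essential subgroup `V` is not normal in `T`. -/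
structure NN (T V W : Subgroup G) (x : G) : Prop extends EW T V W where
  xT : x ∈ T
  xn : x ∈ nor (T ⊓ nor V)
  xV : x ∉ nor V
  We : cj x V = W
  n4 : Nat.card V ≠ 4

namespace NN

variable [Finite G] {T V W : Subgroup G} {x : G} (h : NN T V W x)
include h

theorem cardW : Nat.card W = Nat.card V := by rw [← h.We, card_cj]

theorem swap {s : G} (hs : s ∈ nor (T ⊓ nor V)) (h1 : s ∉ nor V) : cj s V = W :=
  eq_of_le_of_card_ge ((h.le_or (elem_cj h.elV s) (cj_le_of_le h.lt.le hs)).resolve_left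
    fun e => h1 (mem_normalizer_of_cj_le e)) (by rw [card_cj, h.cardW])

theorem swap' {s : G} (hs : s ∈ nor (T ⊓ nor V)) (h1 : s ∉ nor V) : cj s W = V := by
  rw [← h.swap (inv_mem hs) (by rwa [inv_mem_iff]), cj_cj_inv]

theorem mul {s t : G} (hs : s ∈ nor (T ⊓ nor V)) (ht : t ∈ nor (T ⊓ nor V)) (h1 : s ∉ nor V)
    (h2 : t ∉ nor V) : s * t ∈ nor V := by
  rw [nor, ← cj_eq_self_iff, ← cj_cj, h.swap ht h2, h.swap' hs h1]

theorem fix {y r : G} (hy : y ∈ T ⊓ nor V) (h1 : y ^ 2 = 1) (hr : r ∈ nor (T ⊓ nor V))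
    (h2 : r ∉ nor V) (e : r * y = y * r) : y ∈ V ⊓ W := by
  have e1 : r * y * r⁻¹ = y := mul_inv_eq_iff_eq_mul.2 e
  rcases h.inv hy h1 with h3 | h3
  · exact ⟨h3, e1 ▸ (h.swap hr h2).le (conj_mem_cj h3)⟩
  · exact ⟨e1 ▸ (h.swap' hr h2).le (conj_mem_cj h3), h3⟩

theorem two_lt {r : G} (h1 : r ∉ nor V) (h2 : r ∈ cen (V ⊓ W)) : 2 < V.relIndex W :=
  not_le.1 fun e => h.n4 (h.card_four e (h.cc_eq_bot h1 (centralizer_anti h.cc_le h2)))

theorem big {X : Subgroup G} (hX : IsElementaryAbelian 2 X) (h1 : X ≤ T ⊓ nor (T ⊓ nor V))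
    (h2 : Nat.card V ≤ Nat.card X) : X ≤ T ⊓ nor V := by
  refine le_inf (h1.trans inf_le_left) (by_contra fun e => ?_)
  obtain ⟨r, hr, h3⟩ := SetLike.not_le_iff_exists.1 e
  have h4 : X ⊓ nor V ≤ V ⊓ W ⊓ cen1 r := fun y hy =>
    ⟨h.fix ⟨(h1 hy.1).1, hy.2⟩ (hX.2 y hy.1) (h1 hr).2 h3 (elem_comm hX hr hy.1),
      mem_cen1.2 (elem_comm hX hy.1 hr)⟩
  have e1 := H99.card_inf_mul_relIndex X (nor V)
  rw [rel_two hr h3 fun s hs t ht => h.mul (h1 hs).2 (h1 ht).2] at e1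
  have e2 := H99.card_inf_mul_relIndex V W
  rw [h.i1] at e2
  have e3 := card_le_of_le h4
  have e4 := card_le_of_le (inf_le_left : V ⊓ W ⊓ cen1 r ≤ V ⊓ W)
  have e5 := h.two_le
  have e6 : 0 < Nat.card (V ⊓ W : Subgroup G) := Nat.card_pos
  have e7 := eq_of_le_of_card_ge (inf_le_left : V ⊓ W ⊓ cen1 r ≤ V ⊓ W) (by nlinarith)
  have e8 := h.two_lt h3 (mem_centralizer_iff.2 fun z hz => mem_cen1.1 (e7.ge hz).2)
  nlinarith

theorem nor_le : nor (T ⊓ nor (T ⊓ nor V)) ≤ nor (T ⊓ nor V) := fun n hn => by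
  have h1 : T ⊓ nor V ≤ T ⊓ nor (T ⊓ nor V) := le_inf inf_le_left le_normalizer
  refine mem_normalizer_of_cj_le (le_trans (by rw [h.sup, cj_sup]) (sup_le
    (h.big (elem_cj h.elV n) (cj_le_of_le (h.lt.le.trans h1) hn) (card_cj n V).ge)
    (h.big (elem_cj h.elW n) (cj_le_of_le (h.Wle.trans h1) hn) (by rw [card_cj, h.cardW]))))

theorem T_eq : T ⊓ nor (T ⊓ nor V) = T := by
  by_contra e
  exact (lt_inf_normalizer h.pT (lt_of_le_of_ne inf_le_left e)).not_ge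
    (inf_le_inf_left _ h.nor_le)

theorem Tn : T ≤ nor (T ⊓ nor V) := h.T_eq.ge.trans inf_le_right

theorem mulT {s t : G} (hs : s ∈ T) (ht : t ∈ T) (h1 : s ∉ nor V) (h2 : t ∉ nor V) :
    s * t ∈ T ⊓ nor V := ⟨mul_mem hs ht, h.mul (h.Tn hs) (h.Tn ht) h1 h2⟩

theorem T_le {X : Subgroup G} (h1 : T ⊓ nor V ≤ X) {r : G} (hr : r ∈ T) (h2 : r ∉ nor V)
    (h3 : r ∈ X) : T ≤ X := fun t ht => by
  by_cases e : t ∈ nor V
  · exact h1 ⟨ht, e⟩
  · exact (X.mul_mem_cancel_right h3).1 (h1 (h.mulT ht hr e h2))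

theorem cmT {s t : G} (hs : s ∈ T) (ht : t ∈ T) : ⁅s, t⁆ ∈ T ⊓ nor V := by
  have key : ∀ {s t : G}, s ∈ T ⊓ nor V → t ∈ T → ⁅s, t⁆ ∈ T ⊓ nor V := fun {s t} hs ht => by
    rw [commutatorElement_def, mul_assoc, mul_assoc, ← mul_assoc t]
    exact mul_mem hs (conj_mem_of_mem_normalizer (h.Tn ht) (inv_mem hs))
  by_cases e1 : s ∈ nor V
  · exact key ⟨hs, e1⟩ ht
  by_cases e2 : t ∈ nor V
  · rw [← commutatorElement_inv]
    exact inv_mem (key ⟨ht, e2⟩ hs)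
  rw [commutatorElement_def, mul_assoc]
  exact mul_mem (h.mulT hs ht e1 e2)
    (h.mulT (inv_mem hs) (inv_mem ht) (by rwa [inv_mem_iff]) (by rwa [inv_mem_iff]))

theorem norZ : T ≤ nor (V ⊓ W) :=
  h.T_le (le_normalizer_of_le_centralizer fun s hs => mem_centralizer_iff.2 fun z hz =>
    (h.zcomm hz.1 hz.2 hs).symm) h.xT h.xV (by
      rw [nor, ← cj_eq_self_iff, cj_inf, h.We, h.swap' h.xn h.xV, inf_comm])

section normal

variable {U : Subgroup G} (k : E T U) (hn : T ≤ nor U) {r : G} (hr : r ∈ U) (h0 : r ∉ nor V)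
include k hn hr h0

theorem oz_eq' : oz 2 U = V ⊓ W := by
  have hV : T ≤ nor (oz 2 U) := le_normalizer_oz hn
  have h1 : oz 2 U ≤ V ⊓ W := fun y hy => by
    have yT := k.le (oz_le U hy)
    refine h.fix ⟨yT, by_contra fun e => ?_⟩ (mem_oz.1 hy).2.2 (h.Tn (k.le hr)) h0
      (mem_centralizer_iff.1 (mem_oz.1 hy).2.1 r hr)
    obtain ⟨v, hv, h2⟩ := SetLike.not_le_iff_exists.1 h.nge
    have h3 : v * (y * v * y⁻¹) ∈ oz 2 U := by
      have := mul_mem (conj_mem_of_mem_normalizer (hV (h.le hv)) hy) (inv_mem hy)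
      rwa [elem_inv h.elV hv, mul_assoc, mul_assoc, ← mul_assoc y] at this
    rcases h.sq hv ((h.swap (h.Tn yT) e).le (conj_mem_cj hv)) (mem_oz.1 h3).2.2 with e1 | e1
    · exact h2 (conj_mem_cj_iff.1 ((h.swap' (h.Tn yT) e).ge e1))
    · exact h2 e1
  refine le_antisymm h1 fun z hz => k.mem_V ?_ (h.elV.2 z hz.1)
  have n0 : nor U ≤ nor (oz 2 U) := le_normalizer_oz le_rfl
  have zT := h.le hz.1
  have zc : z ∈ cen (oz 2 U) := centralizer_anti (h1.trans inf_le_left)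
    (le_cen_self_of_elem h.elV hz.1)
  refine k.le_of_normal ((two_stab k.pU k.eh.cen_le (oz_le U) (oz_le U)).to_inf_left (K := nor U))
    inf_le_right (le_normalizer_inf (le_normalizer_inf (le_normalizer_inf
      (le_normalizer_centralizer n0) (le_normalizer_stab n0 n0)) (le_normalizer_stab le_rfl n0))
      le_normalizer) ⟨⟨⟨zc, hV zT, fun c hc => ?_⟩, hV zT, fun c hc => k.mem_V ?_ ?_⟩, hn zT⟩
  · rw [commutatorElement_eq_one_iff_mul_comm.2 (mem_centralizer_iff.1 zc c hc)]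
    exact one_mem _
  · exact commutator_le_left' hn (commutator_mem_commutator hc zT)
  · exact h.elV.2 _ (commutator_le_right' h.norZ (commutator_mem_commutator (k.le hc) hz)).1

theorem cenZ : T ≤ cen (V ⊓ W) :=
  h.T_le (fun _ hs => mem_centralizer_iff.2 fun _ hz => (h.zcomm hz.1 hz.2 hs).symm) (k.le hr) h0
    (h.oz_eq' k hn hr h0 ▸ le_centralizer_oz U hr)

theorem nor_delta : nor U ⊓ nor (U ⊓ (T ⊓ nor V)) ≤ nor T := by
  have e := h.oz_eq' k hn hr h0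
  have ZU : V ⊓ W ≤ U := e.ge.trans (oz_le U)
  have rT := k.le hr
  have h1 : T ≤ stab (U ⊓ (T ⊓ nor V)) (V ⊓ W) := by
    refine h.T_le (fun s hs => ⟨h.norZ hs.1, fun c hc => h.cm hc.2 hs⟩) rT h0
      ⟨h.norZ rT, fun c hc => ?_⟩
    obtain ⟨v, hv, w, hw, rfl⟩ := h.mem_sup hc.2
    obtain ⟨v', hv', rfl⟩ := (h.swap (h.Tn rT) h0).ge hw
    change r * v' * r⁻¹ ∈ W at hw
    change v * (r * v' * r⁻¹) ∈ _ at hc
    change ⁅v * (r * v' * r⁻¹), r⁆ ∈ _
    have h2 : v * v'⁻¹ ∈ V ⊓ W := by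
      refine e.le (k.mem_V ?_ (h.elV.2 _ (mul_mem hv (inv_mem hv'))))
      have := U.mul_mem hc.1 (U.inv_mem (U.mul_mem (conj_mem_of_mem_normalizer (hn (h.le hv')) hr)
        (U.inv_mem hr)))
      rw [elem_inv h.elV hv'] at this
      convert this using 1
      group
    have := mul_mem (conj_mem_of_mem_normalizer (h.norZ (h.le h2.1)) (h.cm (h.lt.le hv')
      (mul_mem (h.Wle hw) (h.mulT rT rT h0 h0))))
      (commutator_le_left' h.norZ (commutator_mem_commutator h2 rT))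
    convert this using 1
    simp only [commutatorElement_def]
    group
  have h2 : T ≤ stab U (U ⊓ (T ⊓ nor V)) := fun t ht =>
    ⟨le_normalizer_inf hn h.Tn ht, fun c hc =>
      ⟨commutator_le_left' hn (commutator_mem_commutator hc ht), h.cmT (k.le hc) ht⟩⟩
  have h3 := h.syl.eq_of_le (two_stab k.pU k.eh.cen_le ZU inf_le_left)
    (le_inf (le_inf (h.cenZ k hn hr h0) h1) h2) le_top
  have n0 : nor U ⊓ nor (U ⊓ (T ⊓ nor V)) ≤ nor (V ⊓ W) := e ▸ le_normalizer_oz inf_le_left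
  exact (le_normalizer_inf (le_normalizer_inf (le_normalizer_centralizer n0)
    (le_normalizer_stab inf_le_right n0)) (le_normalizer_stab inf_le_left inf_le_right)).trans
    (congrArg nor h3).le

theorem false : False := by
  have e := h.oz_eq' k hn hr h0
  have hT : T ⊓ nor U = T := inf_of_le_left hn
  obtain ⟨g, hg, h1⟩ := k.exists_move
  rw [hT] at h1
  have UT := k.le
  have hZ : V ⊓ W ≤ cj g (U ⊓ (T ⊓ nor V)) := by
    rw [← cj_eq_self (g := g) (H := V ⊓ W) (e ▸ le_normalizer_oz le_rfl hg)]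
    exact cj_mono g (le_inf (e.ge.trans (oz_le U)) (inf_le_left.trans h.lt.le))
  have hU : cj g (U ⊓ (T ⊓ nor V)) ≤ U := cj_le_of_le inf_le_left hg
  obtain ⟨d, hd, h2⟩ := SetLike.not_le_iff_exists.1 fun e : cj g _ ≤ U ⊓ (T ⊓ nor V) =>
    h1 (h.nor_delta k hn hr h0 ⟨hg, mem_normalizer_of_cj_le e⟩)
  have h3 : d ∉ nor V := fun e => h2 ⟨hU hd, UT (hU hd), e⟩
  have h4 : ∀ v ∈ T ⊓ nor V, ∀ y ∈ T ⊓ nor V, v * y * v⁻¹ * y⁻¹ ∈ cj g (U ⊓ (T ⊓ nor V)) :=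
    fun v hv y hy => hZ (h.cm hv hy)
  have h5 : ∀ v ∈ V, v * d * v⁻¹ ∈ cj g (U ⊓ (T ⊓ nor V)) → v ∈ W := fun v hv e1 => by
    have vT := h.le hv
    have n1 : v ∈ nor (cj g (U ⊓ (T ⊓ nor V))) := mem_normalizer_of_cj_le (by
      rintro _ ⟨y, hy, rfl⟩
      change v * y * v⁻¹ ∈ _
      by_cases e2 : y ∈ nor V
      · simpa using mul_mem (h4 v (h.lt.le hv) y ⟨UT (hU hy), e2⟩) hy
      · have := mul_mem (mul_mem (h4 v (h.lt.le hv) _ (h.mulT (UT (hU hy)) (inv_mem (UT (hU hd))) e2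
          (by rwa [inv_mem_iff]))) (mul_mem hy (inv_mem hd))) e1
        convert this using 1
        group)
    rw [nor, ← cj_normalizer, mem_cj] at n1
    have n2 := h.nor_delta k hn hr h0 ⟨(nor U).mul_mem ((nor U).mul_mem ((nor U).inv_mem hg) (hn vT)) hg, n1⟩
    have n3 : v ∈ cj g T := mem_cj.2 (h.syl.le_of_le_normalizer'
      (Two.isPGroup (by simpa using two_conj (two_of_mem h.pT vT) g⁻¹)) le_top (zpowers_le.2 n2)
      (mem_zpowers _))
    have s1 := hT ▸ k.sylP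
    have n4 : v ∈ U := by_contra fun e2 =>
      h1 (cj_eq_self_iff.1 (k.syl_eq (s1.cj_of_mem hg) s1 n3 vT e2))
    exact (e.le (k.mem_V n4 (h.elV.2 v hv))).2
  have h6 : ∀ s ∈ U, ∀ t ∈ U, s ∉ cj g (U ⊓ (T ⊓ nor V)) → t ∉ cj g (U ⊓ (T ⊓ nor V)) →
      s * t ∈ cj g (U ⊓ (T ⊓ nor V)) := fun s hs t ht e1 e2 => by
    have a1 := conj_mem_of_mem_normalizer' hg hs
    have a2 := conj_mem_of_mem_normalizer' hg ht
    rw [mem_cj] at e1 e2 ⊢
    have := h.mulT (UT a1) (UT a2) (fun e => e1 ⟨a1, UT a1, e⟩) fun e => e2 ⟨a2, UT a2, e⟩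
    exact mem_inf.2 ⟨conj_mem_of_mem_normalizer' hg (mul_mem hs ht),
      by simpa only [mul_assoc, mul_inv_cancel_left] using this⟩
  obtain ⟨a, ha, h7⟩ := SetLike.not_le_iff_exists.1 h.nge
  refine (h.two_lt h0 (h.cenZ k hn hr h0 (UT hr))).ne' ?_
  rw [← h.i1]
  refine rel_two ha h7 fun s hs t ht e1 e2 => h5 _ (mul_mem hs ht) ?_
  have c1 := conj_mem_of_mem_normalizer (hn (h.le hs)) (hU hd)
  have c2 := conj_mem_of_mem_normalizer (hn (h.le ht)) (hU hd)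
  have := mul_mem (h4 s (h.lt.le hs) _ (h.cmT (h.le ht) (UT (hU hd))))
    (h6 _ (mul_mem c2 (inv_mem (hU hd))) _ c1
      (fun e => e2 (h5 t ht ((Subgroup.mul_mem_cancel_right _ (inv_mem hd)).1 e)))
      fun e => e1 (h5 s hs e))
  convert this using 1
  simp only [commutatorElement_def]
  group

end normal

end NN

theorem E.nn [Finite G] {T U : Subgroup G} (h : E T U) (hn : ¬ T ≤ nor U)
    (hd : ¬ ((∃ n : ℕ, Nonempty (T ≃* DihedralGroup n)) ∨ IsQuasiDihedral T)) :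
    ∃ W x, NN T U W x := by
  obtain ⟨x, hx, h1, h2⟩ := h.exists_nn hn
  exact ⟨_, x, h2, hx.1, hx.2, h1, rfl, fun e => hd (h.four h2.elV e)⟩

theorem all_normal [Finite G] [IsSimpleGroup G] (hG : ¬ IsMulCommutative G) {T : Subgroup G}
    (hT : IsSyl 2 T ⊤) (hE : ∀ U M, Ess 2 T U M → EH T U)
    (hd : ¬ ((∃ n : ℕ, Nonempty (T ≃* DihedralGroup n)) ∨ IsQuasiDihedral T)) {V : Subgroup G}
    (h : E T V) : T ≤ nor V := by
  by_contra hn
  obtain ⟨W, x, h⟩ := h.nn hn hd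
  have key : ∀ U, E T U → U ≤ T ⊓ nor V := fun U k => by
    by_cases e : T ≤ nor U
    · exact fun r hr => ⟨k.le hr, by_contra fun h0 => h.false k e hr h0⟩
    obtain ⟨W', x', k⟩ := k.nn e hd
    refine h.big k.elV (k.le.trans h.T_eq.ge) (not_lt.1 fun e1 => ?_)
    rcases k.le_or h.elV (k.big h.elV (h.le.trans k.T_eq.ge) e1.le) with e2 | e2
    · exact e1.not_ge (card_le_of_le e2)
    · exact e1.not_ge (k.cardW ▸ card_le_of_le e2)
  obtain ⟨N, -, hN⟩ := exists_index_two_of_sc hT inf_le_left (sc_of_ess hT inf_le_left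
    ((congrArg nor h.T_eq).ge.trans h.nor_le) fun U M hU g hg y hy _ =>
      key U ⟨hT, ⟨M, hU⟩, hE U M hU⟩ (conj_mem_of_mem_normalizer hg hy))
    (rel_two h.xT (fun e => h.xV e.2) fun s hs t ht e1 e2 =>
      h.mulT hs ht (fun e => e1 ⟨hs, e⟩) fun e => e2 ⟨ht, e⟩)
  exact H86.index_ne_two_of_simple hG N hN

end H86.TI
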