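import Cfsg.Agent.H86.TI2
import Cfsg.Agent.H10.C2K1
import Cfsg.Agent.H95.C2Fus
import Cfsg.Agent.S0205

/-! S3236, seat B: `H86.TI.jobT : H47.TI.JobT`. -/

set_option autoImplicit false
set_option linter.unusedSectionVars false

namespace H86.TI

open Cfsg Subgroup H14 H98 H1.Gold H10.C2 H47.TI
open H86.AG (Ess)
open scoped commutatorElement

universe u

variable {G : Type u} [Group G]

theorem mem_zp {x y : G} (hx : x ^ 2 = 1) (h : y ∈ zpowers x) : y = 1 ∨ y = x := by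
  obtain ⟨k, rfl⟩ := h
  have h : x ^ (2 : ℤ) = 1 := by rw [zpow_two, ← pow_two, hx]
  rcases Int.even_or_odd' k with ⟨j, rfl | rfl⟩
  · left; simp only [zpow_mul, h, one_zpow]
  · right; simp only [zpow_add, zpow_mul, h, one_zpow, one_mul, zpow_one]

theorem mul_of_two {H K : Subgroup G} (h : H.relIndex K = 2) {s t : G} (hs : s ∈ K) (ht : t ∈ K)
    (h1 : s ∉ H) (h2 : t ∉ H) : s * t ∈ H :=
  (mul_mem_iff_of_index_two (H := H.subgroupOf K) h (a := ⟨s, hs⟩) (b := ⟨t, ht⟩)).2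
    (iff_of_false h1 h2)

variable [Finite G] {T U U' V W : Subgroup G}

theorem E.nle (h : E T U) (k : E T U') (hn : T ≤ nor U) (hn' : T ≤ nor U')
    (hV : ¬ oz 2 U ≤ cen (T ⊓ nor U)) (hV' : ¬ oz 2 U' ≤ cen (T ⊓ nor U')) (ne : U ≠ U') :
    ¬ oz 2 U' ≤ U := fun e => by
  have h1 := h.le_V (ea_oz U') e
  have h2 : ∀ u ∈ U, u ∈ U' := fun u hu => k.mem_U hV' ⟨h.le hu, hn' (h.le hu)⟩
    (centralizer_anti h1 (le_centralizer_oz U hu))
  exact ne (le_antisymm h2 fun u hu => h.mem_U hV ⟨k.le hu, hn (k.le hu)⟩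
    (centralizer_anti (k.le_V (ea_oz U) ((oz_le U).trans h2)) (le_centralizer_oz U' hu)))

theorem E.ff_symm (h : E T U) {W : Subgroup G} (h1 : W ≤ T ⊓ nor U) (h2 : ¬ W ≤ U)
    (h3 : FFD (nor U) (T ⊓ nor U) (oz 2 U)) :
    (cen (oz 2 U)).relIndex W ≤ (cen W).relIndex (oz 2 U) := by
  refine (relIndex_le_of_le_right h1 (rel_ne _ _)).trans ?_
  obtain ⟨w, hw, h4⟩ := SetLike.not_le_iff_exists.1 h2
  rw [← h3.idx1, ← inf_relIndex_right (cen W)]
  exact relIndex_le_of_le_left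
    (fun v hv => h.cv (h1 hw) h4 hv.2 (mem_centralizer_iff.1 hv.1 w hw)) (rel_ne _ _)

theorem E.ew (h : E T U) (k : E T U') (hn : T ≤ nor U) (hn' : T ≤ nor U')
    (hV : ¬ oz 2 U ≤ cen (T ⊓ nor U)) (hV' : ¬ oz 2 U' ≤ cen (T ⊓ nor U')) (ne : U ≠ U') :
    EW T U U' := by
  have n1 := h.nle k hn hn' hV hV' ne
  have n2 := k.nle h hn' hn hV' hV ne.symm
  have l1 : U' ≤ T ⊓ nor U := le_inf k.le (k.le.trans hn)
  have l2 : U ≤ T ⊓ nor U' := le_inf h.le (h.le.trans hn')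
  have f1 := h.ff hV (ea_oz U') ((oz_le U').trans l1) (le_normalizer_oz (h.le.trans hn')) n1
  have f2 := k.ff hV' (ea_oz U) ((oz_le U).trans l2) (le_normalizer_oz (k.le.trans hn)) n2
  have f3 := (le_total _ _).elim (fun e => And.intro (f1 e)
    (f2 (h.ff_symm ((oz_le U').trans l1) n1 (f1 e).2)))
    fun e => ⟨f1 (k.ff_symm ((oz_le U).trans l2) n2 (f2 e).2), f2 e⟩
  have e := le_antisymm (h.mho_le_mho (l2.trans f3.2.1) (h.le.trans hn'))
    (k.mho_le_mho (l1.trans f3.1.1) (k.le.trans hn))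
  have key : ∀ {X Y : Subgroup G}, mho X = mho Y → IsElementaryAbelian 2 X →
      IsElementaryAbelian 2 Y := fun {X Y} e hX => elem_of_forall fun y hy =>
    mem_bot.1 (((closure_le ⊥).2 (by rintro _ ⟨u, hu, rfl⟩; exact hX.2 u hu) : mho X ≤ ⊥)
      (e.ge (sq_mem_mho hy)))
  have he : IsElementaryAbelian 2 U := by_contra fun e1 => ne (le_antisymm
    (k.le_of_normal h.pU (h.le.trans hn')
      ((nor_le_mho U').trans ((congrArg nor e).ge.trans (h.mho_max e1))))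
    (h.le_of_normal k.pU (k.le.trans hn)
      ((nor_le_mho U).trans ((congrArg nor e).le.trans (k.mho_max fun e2 => e1 (key e.symm e2))))))
  have he' := key e he
  rw [h.oz_eq he, k.oz_eq he'] at f3
  exact ⟨h, he, he', le_antisymm (f3.1.1.trans (sup_comm _ _).le) (sup_le h.lt.le l1),
    h.le.trans hn', k.eh.cen_le, f3.1.2⟩

theorem EW.gc1 (h : EW T V W) : ¬ nor V ≤ nor (V ⊓ W) := by
  have := h.not_nor (h.typeV h.elV)
  rwa [h.oz_eq h.elV, h.Zeq] at this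

theorem EW.gc (h : EW T V W) (k : EW T W V) (hn : T ≤ nor V) : GC V W := by
  have e : V ⊔ W = T := h.sup.symm.trans (inf_of_le_left hn)
  exact ⟨⟨h.elV, h.elW, e ▸ h.syl, k.norW, h.norW, fun x hx => h.inv (h.sup.ge hx)⟩, h.gc1,
    inf_comm V W ▸ k.gc1⟩

theorem EW.mem_F (h : EW T V W) {z a b y : G} (hz : z ∈ V ⊓ W) (ha : a ∈ V) (h1 : a ∉ W)
    (h2 : IsConj z a) (h3 : ⁅b, a⁆ = z) (hy : y ∈ zpowers z ⊔ zpowers a) :
    (y = 1 ∨ IsConj z y) ∧ (y ∈ W → y ∈ zpowers z) := by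
  obtain ⟨s, hs, t, ht, rfl⟩ := (mem_sup_left_norm (le_normalizer_of_le_centralizer
    (zpowers_le.2 ((cen1_eq a).le (mem_cen1.2 (elem_comm h.elV hz.1 ha)))))).1 hy
  rcases mem_zp (h.elV.2 a ha) ht with rfl | rfl
  · rw [mul_one]
    exact ⟨(mem_zp (h.elV.2 z hz.1) hs).imp_right fun e => by rw [e], fun _ => hs⟩
  refine ⟨Or.inr ?_, fun e => (h1 ((W.mul_mem_cancel_left (zpowers_le.2 hz.2 hs)).1 e)).elim⟩
  rcases mem_zp (h.elV.2 z hz.1) hs with rfl | rfl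
  · rwa [one_mul]
  · exact h2.trans (isConj_iff.2 ⟨b, by rw [← h3, commutatorElement_def]; group⟩)

theorem EW.two_false [IsSimpleGroup G] (hG : ¬ IsMulCommutative G) (h : EW T V W) (k : EW T W V)
    (hn : T ≤ nor V) (hq : V.relIndex W = 2) (hD : cc V ⊓ cc W = ⊥) : cc V = ⊥ := by
  by_contra h0
  obtain ⟨⟨d, hd⟩, d1⟩ := ne_bot_iff_exists_ne_one.1 h0
  have d1 : d ≠ 1 := fun e => d1 (Subtype.ext e)
  have hT : T ⊓ nor V = T := inf_of_le_left hn
  have dZ := h.cc_le hd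
  have d2 := h.elV.2 d dZ.1
  have i1 := h.i1.trans hq
  have i2 := h.i2.trans hq
  have i3 := k.i2.trans i1
  rw [inf_comm] at i3
  have hDD : ∀ {s t : G}, s ∈ V ⊓ W → s * t ∈ cc V → s * t ∈ cc W → t = s := fun hs h1 h2 => by
    rw [eq_inv_of_mul_eq_one_right (mem_bot.1 (hD.le ⟨h1, h2⟩)), elem_inv h.elV hs.1]
  have dW : d ∉ cc W := fun e => d1 (mem_bot.1 (hD.le ⟨hd, e⟩))
  have cm : ∀ {v w : G}, v ∈ V → v ∉ W → w ∈ W → w ∉ V →
      ⁅v, w⁆ ∈ V ⊓ W ∧ ⁅v, w⁆ ∉ cc V ∧ ⁅v, w⁆ ∉ cc W := fun hv h1 hw h2 =>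
    ⟨h.cm (h.lt.le hv) (h.Wle hw), h.ncomm hv h1 hw h2, fun e => k.ncomm hw h2 hv h1
      (by rw [← commutatorElement_inv]; exact inv_mem e)⟩
  obtain ⟨a₀, ha₀, h1⟩ := SetLike.not_le_iff_exists.1 h.nge
  obtain ⟨b₀, hb₀, h2⟩ := SetLike.not_le_iff_exists.1 h.nle
  obtain ⟨hz, z1, z2⟩ := cm ha₀ h1 hb₀ h2
  generalize ⁅a₀, b₀⁆ = z at hz z1 z2
  have cz : ∀ {v w : G}, v ∈ V → v ∉ W → w ∈ W → w ∉ V → ⁅v, w⁆ = z := fun hv h1 hw h2 => by
    obtain ⟨e1, e2, e3⟩ := cm hv h1 hw h2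
    exact hDD hz (mul_of_two i2 hz e1 z1 e2) (mul_of_two i3 hz e1 z2 e3)
  obtain ⟨a, ha, a1, a2⟩ := h.exists_out hz.1 z1
  obtain ⟨b, hb, b1, b2⟩ := k.exists_out hz.2 z2
  have FV : zpowers z ⊔ zpowers a ≤ V := sup_le (zpowers_le.2 hz.1) (zpowers_le.2 ha)
  have FW : zpowers z ⊔ zpowers b ≤ W := sup_le (zpowers_le.2 hz.2) (zpowers_le.2 hb)
  have n1 : zpowers z ⊔ zpowers a ≤ nor (zpowers z ⊔ zpowers b) :=
    H98.le_normalizer_of_commutator_le (le_trans (by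
      rw [commutator_comm]
      refine (commutator_le (H₃ := zpowers z)).2 fun v hv w hw => ?_
      by_cases e : v ∈ W ∨ w ∈ V
      · rw [commutatorElement_eq_one_iff_mul_comm.2
          (e.elim (fun e => elem_comm h.elW e (FW hw)) (elem_comm h.elV (FV hv)))]
        exact one_mem _
      · rw [cz (FV hv) (fun e1 => e (Or.inl e1)) (FW hw) fun e1 => e (Or.inr e1)]
        exact mem_zpowers z) le_sup_left) le_rfl
  have e1 := cz ha a1 hb b1
  have e2 : ⁅b, a⁆ = z := by rw [← commutatorElement_inv, e1, elem_inv h.elV hz.1]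
  have dc : ∀ s ∈ T, s * d = d * s := fun s hs => h.zcomm dZ.1 dZ.2 (hT.ge hs)
  have key : ∀ g, g * d * g⁻¹ ∉ (zpowers z ⊔ zpowers a) ⊔ (zpowers z ⊔ zpowers b) := fun g hg => by
    obtain ⟨f, hf, f', hf', e⟩ := (mem_sup_left_norm n1).1 hg
    have m1 := fun y => h.mem_F (y := y) hz ha a1 a2 e2
    have m2 := fun y => k.mem_F (y := y) ⟨hz.2, hz.1⟩ hb b1 b2 e1
    have : f * f' = 1 ∨ IsConj z (f * f') := by
      rcases h.sq (FV hf) (FW hf') (by rw [← e, conj_pow, d2]; group) with e3 | e3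
      · exact (m1 _ (mul_mem hf (mem_sup_left ((m2 _ hf').2 e3)))).1
      · exact (m2 _ (mul_mem (mem_sup_left ((m1 _ hf).2 e3)) hf')).1
    rw [← e, conj_eq_one_iff] at this
    obtain ⟨S, rfl⟩ := isSyl_top_iff.1 h.syl
    obtain ⟨n, hn', e3⟩ := H86.exists_normalizer_conj_central S
      ((isConj_iff.2 ⟨g, rfl⟩).trans (this.resolve_left d1).symm) dc
      fun s hs => h.zcomm hz.1 hz.2 (hT.ge hs)
    rw [← hT, h.sup] at hn'
    exact z1 (e3 ▸ conj_mem_of_mem_normalizer (nor_le_nor_cc V ((h.gc k hn).nor_sup.le hn').1) hd)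
  have l1 : (zpowers z ⊔ zpowers a) ⊔ (zpowers z ⊔ zpowers b) ≤ T :=
    (sup_le_sup FV FW).trans (h.sup.ge.trans inf_le_left)
  generalize hM : (zpowers z ⊔ zpowers a) ⊔ (zpowers z ⊔ zpowers b) = M at key l1
  have zM : z ∈ M ⊔ zpowers d := mem_sup_left (hM ▸ mem_sup_left (mem_sup_left (mem_zpowers z)))
  have aM : a ∈ M ⊔ zpowers d := mem_sup_left (hM ▸ mem_sup_left (mem_sup_right (mem_zpowers a)))
  have bM : b ∈ M ⊔ zpowers d := mem_sup_left (hM ▸ mem_sup_right (mem_sup_right (mem_zpowers b)))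
  have DM : cc V ≤ M ⊔ zpowers d := fun y hy => by
    by_cases e : y ∈ cc W
    · rw [mem_bot.1 (hD.le ⟨hy, e⟩)]; exact one_mem _
    · rw [hDD dZ (mul_mem hd hy) (mul_of_two i3 dZ (h.cc_le hy) dW e)]
      exact mem_sup_right (mem_zpowers d)
  have ZM : V ⊓ W ≤ M ⊔ zpowers d := fun y hy => by
    by_cases e : y ∈ cc V
    · exact DM e
    · exact (Subgroup.mul_mem_cancel_left _ zM).1 (DM (mul_of_two i2 hz hy z1 e))
  have l2 : T ≤ M ⊔ zpowers d := hT.ge.trans (h.sup.le.trans (sup_le (fun v hv => by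
    by_cases e : v ∈ W
    · exact ZM ⟨hv, e⟩
    · exact (Subgroup.mul_mem_cancel_left _ aM).1
        (ZM ⟨mul_mem ha hv, mul_of_two i1 ha hv a1 e⟩)) fun w hw => by
    by_cases e : w ∈ V
    · exact ZM ⟨e, hw⟩
    · exact (Subgroup.mul_mem_cancel_left _ bM).1
        (ZM ⟨mul_of_two hq hb hw b1 e, mul_mem hb hw⟩)))
  have l3 : ∀ s ∈ T, s ∉ M → ∃ m ∈ M, s = m * d := fun s hs e => by
    obtain ⟨m, hm, t, ht, rfl⟩ := (mem_sup_left_norm (le_normalizer_of_le_centralizer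
      fun m hm => (cen1_eq d).le (mem_cen1.2 (dc m (l1 hm))))).1 (l2 hs)
    rcases mem_zp d2 ht with rfl | rfl
    · exact (e (by rwa [mul_one])).elim
    · exact ⟨m, hm, rfl⟩
  have hodd : Odd T.index := by
    have := h.syl.not_dvd_relIndex
    rw [relIndex_top_right] at this
    exact Nat.odd_iff.2 (Nat.two_dvd_ne_zero.1 this)
  obtain ⟨N, -, hN, -⟩ := H8.thompson_transfer T M hodd (rel_two (h.le dZ.1)
    (by simpa using key 1) fun s hs t ht e3 e4 => by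
      obtain ⟨m, hm, rfl⟩ := l3 s hs e3
      obtain ⟨m', hm', rfl⟩ := l3 t ht e4
      rw [mul_assoc, ← mul_assoc d, ← dc m' (l1 hm'), mul_assoc, ← pow_two, d2, mul_one]
      exact mul_mem hm hm') d d2 key
  exact H86.index_ne_two_of_simple hG N hN

theorem jobT : JobT.{u} := by
  intro G _ _ _ hG T hT hE
  by_contra hc
  simp only [not_or, not_exists, not_and, not_not] at hc
  obtain ⟨h1, h2, h3, h4⟩ := hc
  have hd : ¬ ((∃ n : ℕ, Nonempty (T ≃* DihedralGroup n)) ∨ IsQuasiDihedral T) :=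
    fun e => e.elim (fun ⟨n, e⟩ => h2 n e) h3
  have hn := fun V => all_normal hG hT hE hd (V := V)
  have mk : ∀ {U M}, Ess 2 T U M → E T U := fun {U M} e => ⟨hT, ⟨M, e⟩, hE U M e⟩
  by_cases hV : ∃ U, E T U ∧ ¬ oz 2 U ≤ cen (T ⊓ nor U)
  · obtain ⟨V, h, hV⟩ := hV
    have uniq : ∀ W, E T W → ¬ oz 2 W ≤ cen (T ⊓ nor W) → V = W := fun W k hW => by
      by_contra ne
      have h' := h.ew k (hn V h) (hn W k) hV hW ne
      have k' := k.ew h (hn W k) (hn V h) hW hV (Ne.symm ne)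
      have g := h'.gc k' (hn V h)
      have hq : V.relIndex W = 2 := by
        obtain ⟨n, e⟩ := k.pU.index (V.subgroupOf W)
        have e1 := h4 V W g
        have e2 := h'.two_le
        have e3 : V.relIndex W ≠ 3 := fun e3 => by
          have : 3 ∣ 2 ^ n := e ▸ (show (V.subgroupOf W).index = 3 from e3) ▸ dvd_rfl
          have := Nat.prime_three.dvd_of_dvd_pow this
          omega
        omega
      exact hd (h.four h'.elV (h'.card_four hq.le (h'.two_false hG k' (hn V h) hq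
        (h1 _ (g.sc_cc H95.C2.jobFus)
          (elem_of_forall (X := cc V ⊓ cc W) fun y hy => h'.elV.2 y (cc_le V hy.1)).1))))
    refine oz_ne_bot h.pU h.ne_bot (h1 _ (sc_of_ess hT ((oz_le V).trans h.le)
      (le_normalizer_oz fun n hn' => ?_) fun U M hU g hg x hx hx' => ?_) (ea_oz V).1)
    · obtain ⟨M, hM⟩ := h.ess
      refine cj_eq_self_iff.1 (uniq _ (mk (hM.cj hn')) fun e => hV ?_).symm
      rwa [← cj_oz, nor, ← cj_normalizer, ← cj_eq_self hn', ← cj_inf, cen, ← cj_centralizer,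
        cj_le_cj_iff] at e
    · have k := mk hU
      have h5 := conj_mem_of_mem_normalizer (k.nor_V.ge hg) (k.mem_V hx (mem_oz.1 hx').2.2)
      by_cases e : oz 2 U ≤ cen (T ⊓ nor U)
      · exact h.oz_T ((k.typeC e).2.le h5)
      · exact uniq U k e ▸ h5
  · have hT0 : T ≠ ⊥ := fun e => by
      have := Cfsg.Agent.S0205.result (G := G) (Nat.odd_iff.2 (Nat.two_dvd_ne_zero.1
        (by simpa using hT.eq_bot_iff.1 e)))
      exact hG ⟨⟨IsSimpleGroup.comm_iff_isSolvable.2 this⟩⟩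
    refine oz_ne_bot hT.isPGroup hT0 (h1 _ (sc_of_ess hT (oz_le T) (le_normalizer_oz le_rfl)
      fun U M hU g hg x hx hx' => ?_) (ea_oz T).1)
    have k := mk hU
    exact (k.typeC (by_contra fun e => hV ⟨U, k, e⟩)).2.le
      (conj_mem_of_mem_normalizer (k.nor_V.ge hg) (k.oz_T hx'))

end H86.TI
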