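import Cfsg.Agent.H86.WRW0
import Cfsg.Agent.H64.SGBasic
import Cfsg.Agent.H68.ReeF

/-! STD-F4 (row S3328), the wreath endgame: spec.  Proof notes: `blueprints/STDF4W.md`.
The ambient slots are type-free: they only use the record `WG`. -/

set_option autoImplicit false

namespace H86.WR

open H64.SG (O2 Syl Cz Cs Ns cjs Is2 Inv2 UF IsO2 fx UU)
open H67.SA (St cI cm)
open H59.SO (NS AutOn Ind B1 CE CW EB W0 two G12)
open Cfsg.Lie H63 H64 H65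

universe u

section Rec

variable {X : Type} [Group X] (U D A : Subgroup X) (q : ℕ)

/-- The Sylow `2`-subgroup `U` and its characteristic subgroups `D`, `A`. -/
structure FA : Prop where
  ns : NS X
  syl : Syl U ⊤
  card : Nat.card U = q ^ 24
  two : 2 ≤ q
  le : D ≤ ⁅U, U⁆ ∧ A ≤ ⁅U, U⁆
  inv : ∀ θ, AutOn U θ → (∀ u ∈ D, θ u ∈ D) ∧ ∀ u ∈ A, θ u ∈ A
  sq : ∀ u ∈ D, u * u = 1
  big : 2 < Nat.card D
  cr : ∀ R, R = D ∨ R = A →
    (∀ ζ ∈ U, ζ ∈ Cs R → ζ ∈ R ∧ ζ * ζ = 1) ∧ Nat.card ↥(U ⊓ Cs R) ≤ q ^ 10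
  cl : U ≤ Subgroup.closure {x | x ∈ U ∧ x * x = 1 ∧ (Cz x).relIndex U ≤ q ^ 7}
  top : Subgroup.closure {g | ∃ u ∈ U, ∃ p, (p ∈ Ns D ∨ p ∈ Ns A) ∧ g = p * u * p⁻¹} = ⊤
  sz : ∀ g : X, g * g = 1 → ∃ P ≤ Cz g, IsPGroup 2 P ∧ q ^ 15 ≤ Nat.card P

/-- Outer automorphisms. -/
structure FB : Prop where
  cyc : IsCyclic (Cfsg.Out X)
  out : Nat.card (Cfsg.Out X) ≤ q
  ub : ∀ β ∈ St U, Is2 β → β ∉ cI U → q ^ 12 ≤ (fx β).relIndex U

/-- Fixed points of outer involutions. -/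
def FT (X : Type) [Group X] (q : ℕ) : Prop := ∀ β : MulAut X, β * β = 1 → (∀ g, β ≠ MulAut.conj g) →
  ∃ P ≤ fx β, IsPGroup 2 P ∧ q ^ 12 ≤ Nat.card P ∧ ∃ n ∈ fx β, P ⊓ cjs n P = ⊥

/-- Borel-Tits. -/
def FC (X : Type) [Group X] (q : ℕ) : Prop := ∀ g : X, Inv2 g →
  ∃ R : Subgroup X, IsPGroup 2 R ∧ Cz g ≤ Ns R ∧ Cs R ≤ R ∧ q ^ 15 ≤ Nat.card R

/-- `U` is centrally indecomposable. -/
def FD : Prop := ∀ P ≤ U, ∀ Q ≤ U, U ≤ P ⊔ Q → P ≤ Cs Q → P ≤ Cs U ∨ Q ≤ Cs U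

/-- All facts on `X`. -/
structure WF : Prop extends FA U D A q, FB U q where
  ft : FT X q
  bt : FC X q
  ind : FD U

/-- The facts on `X` with three consequences. -/
structure WG : Prop extends WF U D A q where
  ct : ∀ R, R = D ∨ R = A → ∀ β : MulAut X, (∀ u ∈ R, β u = u) →
    ∃ ζ ∈ R, ζ * ζ = 1 ∧ β = MulAut.conj ζ
  oc : ∀ y : X, Inv2 y → ∀ O ≤ Cz y, Odd (Nat.card O) → Cz y ≤ Ns O → O = ⊥
  o2 : ∀ β : MulAut X, β * β = 1 → (∀ g, β ≠ MulAut.conj g) →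
    ∀ N ≤ fx β, fx β ≤ Ns N → IsPGroup 2 N → N = ⊥

variable {G : Type u} [Group G]

/-- `2`-subgroups of `C(t)`. -/
def AB (e : X →* G) (t : G) : Prop := ∀ P ≤ Cz t, IsPGroup 2 P →
  ⁅P, P⁆ ≤ e.range ∧ Nat.card P ≤ 2 * q * Nat.card ↥(P ⊓ e.range)

/-- Unique fixed point; the elements of `T ∩ M` swap. -/
structure GW (e : X →* G) (t : G) (e₁ e₂ : X →* G) : Prop
    extends EB e t (G12 e₁ e₂), W0 t e₁ e₂ where
  cuD : Cs (D.map e) ≤ Ns (G12 e₁ e₂)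
  cuA : Cs (A.map e) ≤ Ns (G12 e₁ e₂)
  sw : ∀ s ∈ Ns (G12 e₁ e₂), IsConj t s → cjs s e₁.range = e₂.range

end Rec

def JobCT : Prop := ∀ (X : Type) [Group X] [Finite X] (U D A : Subgroup X) (q : ℕ),
  WF U D A q → WG U D A q

/-- A statement for all `X`, `e`, `t`. -/
def AllG (P : ∀ (X : Type) [Group X] (G : Type u) [Group G],
    Subgroup X → Subgroup X → Subgroup X → ℕ → (X →* G) → G → Prop) : Prop :=
  ∀ (X : Type) [Group X] [Finite X] (U D A : Subgroup X) (q : ℕ), WG U D A q →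
    ∀ (G : Type u) [Group G] [Finite G] (e : X →* G) (t : G), CE e t → P X G U D A q e t

/-- A statement in the wreath case. -/
def AllW (P : ∀ (X : Type) [Group X] (G : Type u) [Group G],
    Subgroup X → Subgroup X → Subgroup X → (X →* G) → G → (X →* G) → (X →* G) → Prop) : Prop :=
  AllG.{u} fun X _ G _ U D A _ e t => ∀ e₁ e₂ : X →* G, CW e t e₁ e₂ → P X G U D A e t e₁ e₂

def JobAB : Prop := AllG.{u} fun _ _ _ _ _ _ _ q e t => AB q e t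

def JobW0 : Prop := AllW.{u} fun _ _ _ _ _ _ _ _ t e₁ e₂ => W0 t e₁ e₂

/-- The elements of `T ∩ M` swap. -/
def JobSW : Prop := AllW.{u} fun _ _ _ _ _ _ _ _ t e₁ e₂ => W0 t e₁ e₂ →
  ∀ s ∈ Ns (G12 e₁ e₂), IsConj t s → cjs s e₁.range = e₂.range

def JobWU : Prop := AllW.{u} fun _ _ _ _ _ D A e t e₁ e₂ => GW D A e t e₁ e₂

/-- Case I: `U* ≤ W`. -/
def JobW1 : Prop := AllW.{u} fun _ _ G _ U D A e t e₁ e₂ => GW D A e t e₁ e₂ → ∀ W : Subgroup G,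
  IsPGroup 2 W → W ≤ Ns (G12 e₁ e₂) → two e₁ e₂ U ≤ W → Ns W ≤ Ns (two e₁ e₂ U)

def JobNU : Prop := AllW.{u} fun _ _ _ _ U D A e t e₁ e₂ => GW D A e t e₁ e₂ →
  Ns (two e₁ e₂ U) ≤ Ns (G12 e₁ e₂)

/-- Case II: the centraliser of `d = y t`. -/
def JobW3 : Prop := AllW.{u} fun _ _ _ _ _ D A e t e₁ e₂ => GW D A e t e₁ e₂ →
  ∀ y ∈ D, y ≠ 1 → Cz (e₁ y * t) ≤ Ns (G12 e₁ e₂)

def JobWE : Prop := AllW.{u} fun _ _ _ _ _ _ _ _ _ e₁ e₂ => Ns (G12 e₁ e₂) = ⊤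

/-! ### `X = F₄(F)` -/

section F4

variable (F : Type) [Field F]

/-- `X` -/
abbrev XF : Type := ↥(chevF4.group F)
/-- The subgroup generated by the root subgroups with index in `l`. -/
noncomputable def US (l : List ℕ) : Subgroup (XF F) := H64.gen (XR chevF4 (xG chevF4 F)) {r | (r : ℕ) ∈ l}
/-- `U` -/
noncomputable abbrev UF4 : Subgroup (XF F) := UU chevF4 (xG chevF4 F)
/-- `D = Z₃(O₂ P₁₄)` -/
noncomputable abbrev DF4 : Subgroup (XF F) := US F [32, 37, 38, 39, 40, 43, 44, 45, 46, 47]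
/-- `A`, normal in `P₂₃` -/
noncomputable abbrev AF4 : Subgroup (XF F) := US F [29, 36, 38, 39, 40, 41, 42, 43, 44, 45, 46, 47]

end F4

/-- A statement for all finite fields of characteristic `2`. -/
def AllF (P : ∀ (F : Type) [Field F], Prop) : Prop :=
  ∀ (F : Type) [Field F] [Finite F] [CharP F 2], P F

def JobFA : Prop := AllF fun F _ => FA (UF4 F) (DF4 F) (AF4 F) (Nat.card F)
def JobFB : Prop := AllF fun F _ => FB (UF4 F) (Nat.card F)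
def JobFT : Prop := AllF fun F _ => FT (XF F) (Nat.card F)
def JobFC : Prop := AllF fun F _ => FC (XF F) (Nat.card F)
def JobFD : Prop := AllF fun F _ => FD (UF4 F)

/-- The wreath endgame for `F₄(F)`. -/
def JobWR : Prop := AllF fun F _ => ∀ (G : Type u) [Group G] [Finite G] (e e₁ e₂ : XF F →* G) (t : G),
  CE e t → CW e t e₁ e₂ → Ns (G12 e₁ e₂) = ⊤

theorem jobWR_of (hA : JobFA) (hB : JobFB) (hT : JobFT) (hC : JobFC) (hD : JobFD) (hCT : JobCT)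
    (hE : JobWE.{u}) : JobWR.{u} := fun F _ _ _ G _ _ e e₁ e₂ t h c =>
  have : Finite (XF F) := Finite.of_injective _ h.inj
  hE _ _ _ _ _ (hCT _ _ _ _ _ ⟨hA F, hB F, hT F, hC F, hD F⟩) G e t h e₁ e₂ c

end H86.WR
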