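import Cfsg.Agent.H59.SOInd

/-! Type-free wreath toolbox on top of `H59/SOInd`: `W0` and the hypotheses of `K9`. -/

set_option autoImplicit false
set_option linter.unusedSectionVars false

namespace H86.WR

open H64.SG (O2 Syl Cz Cs Ns cjs Is2 Inv2 UF IsO2 fx mem_Cs mem_Cz mem_fx)
open H67.SA (St cI cm mem_St_iff_map conj_mem_St mem_St_of_finite mem_cI cm_eq_one mem_cjs
  conj_mem_cjs card_cjs cjs_inv_le cjs_swap IG mem_IG le_IG cm_mem_IG cjs_IG_le IG_le)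
open H59.SO Subgroup Function H98

universe u

section NS

variable {X : Type} [Group X] (hs : NS X)
include hs

theorem exists_cm {g : X} (h : g ≠ 1) : ∃ a, cm g a ≠ 1 := by
  by_contra! h1
  exact h (hs.eq_one fun a => cm_eq_one.1 (h1 a))

theorem top_of {N : Subgroup X} (h : ∀ a ∈ N, ∀ b, b * a * b⁻¹ ∈ N) {a : X} (ha : a ∈ N)
    (h1 : a ≠ 1) : N = ⊤ :=
  have : N.Normal := ⟨h⟩
  (hs.normal N).resolve_left fun e => h1 (mem_bot.1 (e ▸ ha))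

/-- A homomorphism with commutative image is trivial. -/
theorem hom_eq_one {H : Type*} [Group H] (f : X →* H) (h : ∀ a b, f a * f b = f b * f a)
    (a : X) : f a = 1 := by
  have : (⊤ : Subgroup X) ≤ f.ker := hs.perfect.trans (commutator_le.2 fun a _ b _ => by
    rw [MonoidHom.mem_ker, map_commutatorElement, commutatorElement_eq_one_iff_mul_comm]
    exact h a b)
  exact this (mem_top a)

theorem not_isP [Finite X] : ¬ IsPGroup 2 (⊤ : Subgroup X) := fun h => by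
  have := hs.simple
  have h1 : IsPGroup 2 X := h.of_equiv topEquiv
  obtain ⟨⟨z, hz⟩, h2⟩ := (nontrivial_iff_exists_ne 1).1 h1.center_nontrivial
  exact h2 (Subtype.ext (hs.eq_one fun a => (mem_center_iff.1 hz a).symm))

end NS

section Basic

variable {X : Type} [Group X] {G : Type u} [Group G] {e e₁ e₂ : X →* G} {g t : G}
  {A B : Subgroup X}

theorem map_comap_e (P : Subgroup G) : (P.comap e).map e = P ⊓ e.range := by
  rw [map_comap_eq, inf_comm]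

theorem card_comap_e (hi : Injective e) (P : Subgroup G) :
    Nat.card (P.comap e) = Nat.card ↥(P ⊓ e.range) := by
  rw [← map_comap_e, card_map_e hi]

theorem card_range (hi : Injective e) : Nat.card e.range = Nat.card X :=
  (Nat.card_congr (MonoidHom.ofInjective hi).toEquiv).symm

theorem syl_map_top [Finite X] [Finite G] (h : Syl A ⊤) : Syl (A.map e) e.range :=
  MonoidHom.range_eq_map e ▸ syl_map h

theorem ind_e₁ (c : CW e t e₁ e₂) (a : X) : Ind e₁ (e a) (MulAut.conj a) := c.diag a ▸ c.ind₁ a a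

theorem ind_e₂ (c : CW e t e₁ e₂) (a : X) : Ind e₂ (e a) (MulAut.conj a) := c.diag a ▸ c.ind₂ a a

theorem t_mem (c : CW e t e₁ e₂) (ht : t * t = 1) : t ∈ Ns (G12 e₁ e₂) :=
  two_top (e₁ := e₁) (e₂ := e₂) ▸ c.t_mem_Ns ht ⊤

theorem Cs_G12 : Cs (G12 e₁ e₂) = Cs e₁.range ⊓ Cs e₂.range := H98.centralizer_sup _ _

theorem odd_nor [Finite G] (h : W0 t e₁ e₂) {m : G} (hm : m ∈ Ns (G12 e₁ e₂))
    (ho : Odd (orderOf m)) : m ∈ Ns e₁.range ∧ m ∈ Ns e₂.range := by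
  refine H64.SG.mem_of_sq_mem (K := Ns e₁.range ⊓ Ns e₂.range) ?_ ho
  rcases h.pm m hm with k | k
  · exact mul_mem k k
  · exact ⟨cj_eq_self_iff.1 (by rw [← cj_cj]; exact (congrArg (cjs m) k.1).trans k.2),
      cj_eq_self_iff.1 (by rw [← cj_cj]; exact (congrArg (cjs m) k.2).trans k.1)⟩

variable (hs : NS X)
include hs

theorem inf_left (c : CW e t e₁ e₂) (h1 : g ∈ A.map e₁ ⊔ B.map e₂) (h2 : g ∈ e₁.range) :
    g ∈ A.map e₁ := by
  obtain ⟨a, ha, b, -, rfl⟩ := c.mem_sup.1 h1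
  obtain ⟨d, hd⟩ := h2
  rw [← hd, (c.inj2 hs (a := d) (c := a) (b := 1) (d := b) (by rw [map_one, mul_one, hd])).1]
  exact ⟨a, ha, rfl⟩

/-- An element normalising both factors and fixing `e₁ a e₂ b` fixes `e₁ a` and `e₂ b`. -/
theorem fix_both (c : CW e t e₁ e₂) {m : G} (h1 : m ∈ Ns e₁.range) (h2 : m ∈ Ns e₂.range)
    {a b : X} (h : m * (e₁ a * e₂ b) * m⁻¹ = e₁ a * e₂ b) :
    m * e₁ a * m⁻¹ = e₁ a ∧ m * e₂ b * m⁻¹ = e₂ b := by
  obtain ⟨β, hβ⟩ := exists_ind c.inj h1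
  obtain ⟨γ, hγ⟩ := exists_ind c.inj₂ h2
  obtain ⟨k1, k2⟩ := c.inj2 hs (a := β a) (b := γ b) (by rw [← h, ← hβ, ← hγ]; group)
  exact ⟨by rw [hβ, k1], by rw [hγ, k2]⟩

/-- A `2`-element acting as an inner automorphism on both factors. -/
theorem dec2 [Finite G] (c : CW e t e₁ e₂) (ho : Odd (Nat.card (Cs (G12 e₁ e₂)))) {m : G}
    {a b : X} (h2 : Is2 m) (i1 : Ind e₁ m (MulAut.conj a)) (i2 : Ind e₂ m (MulAut.conj b)) :
    m = e₁ a * e₂ b := by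
  have h1 := c.cen i1 i2
  have h3 : m * (e₁ a * e₂ b) = e₁ a * e₂ b * m := by
    rw [← mul_assoc, i1.comm (by simp), mul_assoc, i2.comm (by simp), mul_assoc]
  exact mul_inv_eq_one.1 ((h2.mul (((i1.split c.inj hs h2).1.map e₁).mul
    ((i2.split c.inj₂ hs h2).1.map e₂) (c.comm a b)).inv (Commute.inv_right h3).eq).eq_one
    (H64.SG.odd_orderOf_of_mem ho h1))

end Basic

section W0

variable {X : Type} [Group X] [Finite X] {G : Type u} [Group G] [Finite G] {e e₁ e₂ : X →* G}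
  {g t : G}

variable (hs : NS X) (hu : ∃ u : X, Inv2 u)
include hs hu

theorem IG_eq (c : CW e t e₁ e₂) (h : B1 e t) : IG t e.range = G12 e₁ e₂ := by
  refine le_antisymm (IG_le h.cz c.range_le fun w hw => ?_) ?_
  · obtain ⟨u, u1, u2⟩ := h.exists_sq hw
    exact ⟨e₁ u, mem_sup_left ⟨u, rfl⟩, by rw [c.conj_t u1, u2]⟩
  obtain ⟨u, u1, u2⟩ := hu
  obtain ⟨a, ha⟩ := exists_cm hs u2
  have h2 : ∀ b, e₁ b ∈ IG t e.range := fun b => (top_of hs (N := (IG t e.range).comap e₁)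
    (fun a ha b => by
      change e₁ (MulAut.conj b a) ∈ IG t e.range
      rw [← ind_e₁ c]
      exact conj_mem_of_mem_normalizer (le_normalizer (le_IG ⟨b, rfl⟩)) ha)
    (by
      have := cm_mem_IG (w := e₁ u) (t := t) (L := e.range) (by rw [cm, c.conj_t u1]; simp) ⟨a, rfl⟩
      rwa [c.cm₁] at this) ha).ge (mem_top b)
  refine sup_le (by rintro _ ⟨a, rfl⟩; exact h2 a) ?_
  rintro _ ⟨a, rfl⟩
  exact (mul_mem_cancel_left (h2 a)).1 (c.diag a ▸ le_IG ⟨a, rfl⟩)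

omit hu in
theorem chg (c : CW e t e₁ e₂) (h : CE e t)
    (hp : ∀ f : X →* G, f.range ≤ Cz (g * t * g⁻¹) → f.range ≤ cjs g e.range)
    (h1 : cjs (g * t * g⁻¹) e₁.range = e₂.range) : ∃ e', e'.range = cjs g e.range ∧
      CE e' (g * t * g⁻¹) ∧ CW e' (g * t * g⁻¹) e₁ (cje (g * t * g⁻¹) e₁) := by
  have h2 := h.cje g
  generalize g * t * g⁻¹ = s at *
  have h3 : ∀ a b, e₁ a * cje s e₁ b = cje s e₁ b * e₁ a := fun a b =>
    c.le_Cs (h1 ▸ range_cje (g := s) (e := e₁) ▸ ⟨b, rfl⟩) _ ⟨a, rfl⟩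
  let e' := (e₁.noncommCoprod (cje s e₁) h3).comp ((MonoidHom.id _).prod (MonoidHom.id _))
  have c' : CW e' s e₁ (cje s e₁) := ⟨c.inj, h3, fun _ => rfl, fun _ => rfl⟩
  have h4 : Injective e' := fun a b ha => (c'.inj2 hs ha).1
  have h5 := range_eq_of_le h2.inj h4 (range_cje (g := g) (e := e) ▸ hp e' (by
    rintro _ ⟨a, rfl⟩
    rw [mem_Cz, ← mul_inv_eq_iff_eq_mul, c'.diag, ← conj_mul, c'.sw, (c'.symm h2.inv.1).sw, h3]))
  exact ⟨e', h5.trans range_cje, h2.of_range h4 h5, c'⟩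

/-- `W0`, given that every image of `X` in `C(t ^ g)` lies in `L ^ g`. -/
theorem w0 (c : CW e t e₁ e₂) (h : CE e t)
    (hp : ∀ (g : G) (f : X →* G), f.range ≤ Cz (g * t * g⁻¹) → f.range ≤ cjs g e.range) :
    W0 t e₁ e₂ := by
  have t1 := t_mem c h.inv.1
  have ne : t ∉ Ns e₁.range := fun h1 => c.ne hs (by rw [← c.cjs_range]; exact (cj_eq_self h1).le)
  refine ⟨h.odd_of (centralizer_le c.range_le) (normalizer_le_normalizer_centralizer _ t1)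
    fun h1 => ne (H64.SG.Cs_le_Ns _ (centralizer_anti le_sup_left h1)), ne, fun m hm => ?_,
    fun s hs' h1 => ?_, fun g hg => ?_⟩
  · have key : ∀ f : X →* G, Injective f → f.range ≤ G12 e₁ e₂ →
        G12 e₁ e₂ ≤ Ns f.range → cjs m f.range = e₁.range ∨ cjs m f.range = e₂.range :=
        fun f f1 f2 f3 => by
      have f5 : G12 e₁ e₂ ≤ Ns (cjs m f.range) := by
        rw [← H64.SG.cj_Ns]; exact (cj_eq_self hm).ge.trans (cj_mono m f3)
      have f6 : cjs m f.range ≤ G12 e₁ e₂ := (cj_mono m f2).trans (cj_eq_self hm).le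
      have k : ∀ f' : X →* G, Injective f' → f'.range ≤ G12 e₁ e₂ →
          G12 e₁ e₂ ≤ Ns f'.range → cjs m f.range ≠ f'.range → cjs m f.range ≤ Cs f'.range :=
          fun f' a1 a2 a3 a5 v hv => by
        rcases hs.normal_range (e := f') a1 (a2.trans f5) with h1 | h1
        · refine hs.mem_Cs_of_cm a1 (a3 (f6 hv)) fun s => (h1.le.trans bot_le) (mem_inf.2 ⟨?_,
            mul_mem (conj_mem_of_mem_normalizer (a3 (f6 hv)) ⟨s, rfl⟩) (inv_mem ⟨s, rfl⟩)⟩)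
          have := mul_mem hv (conj_mem_of_mem_normalizer (f5 (a2 ⟨s, rfl⟩)) (inv_mem hv))
          simpa only [mul_assoc] using this
        · exact absurd (eq_of_le_of_card_ge h1 (by
            rw [card_cjs, card_range f1, card_range a1])).symm a5
      by_contra h1
      push Not at h1
      have h2 : cjs m f.range ≤ Cs (G12 e₁ e₂) := Cs_G12 (e₁ := e₁) (e₂ := e₂) ▸ le_inf
        (k e₁ c.inj le_sup_left c.G12_le_Ns h1.1) (k e₂ c.inj₂ le_sup_right c.G12_le_Ns' h1.2)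
      obtain ⟨a, ha⟩ := hs.exists_ne
      exact ha ((map_eq_one_iff _ (inj_cje f1 m)).1 (hom_eq_one hs (cje m f) (fun a b =>
        h2 (conj_mem_cjs.2 ⟨b, rfl⟩) _ (f6 (conj_mem_cjs.2 ⟨a, rfl⟩))) a))
    have h3 : cjs m e₁.range ≠ cjs m e₂.range := fun h3 =>
      c.ne hs (map_injective (MulAut.conj m).injective h3).ge
    rcases key e₁ c.inj le_sup_left c.G12_le_Ns with h1 | h1 <;>
      rcases key e₂ c.inj₂ le_sup_right c.G12_le_Ns' with h2 | h2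
    · exact absurd (h1.trans h2.symm) h3
    · exact Or.inl ⟨cj_eq_self_iff.1 h1, cj_eq_self_iff.1 h2⟩
    · exact Or.inr ⟨h1, h2⟩
    · exact absurd (h1.trans h2.symm) h3
  · obtain ⟨g, rfl⟩ := isConj_iff.1 hs'
    obtain ⟨e', -, h2⟩ := chg hs c h (hp g) h1
    exact ⟨e', h2⟩
  · obtain ⟨e', h1, h2, h3⟩ := chg hs c h (hp g) hg
    have h4 := cjs_IG_le (t := t) (L := e.range) g
    rw [← h1, IG_eq hs hu h3 h2.toB1, IG_eq hs hu c h.toB1, G12, G12, range_cje, hg] at h4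
    exact mem_normalizer_of_cj_le h4

omit hu in
/-- The last hypothesis of `K9` in the wreath case. -/
theorem gen (c : CW e t e₁ e₂) {U : Subgroup X} {z : X} (z0 : z ≠ 1) (z1 : z ∈ Cs U) {o : G}
    (o1 : o ∈ Cs e.range)
    (o2 : ∀ ζ ∈ Ns (G12 e₁ e₂), ζ ∈ Cs (U.map e) → ζ * o * ζ⁻¹ ∈ Cs e.range) :
    o ∈ Cs (G12 e₁ e₂) := by
  have z2 := o2 (e₁ z) (le_normalizer (mem_sup_left ⟨_, rfl⟩)) (by
    rintro _ ⟨u, hu, rfl⟩
    rw [c.diag, mul_assoc, ← c.comm, ← mul_assoc, ← map_mul, z1 u hu, map_mul, mul_assoc])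
  obtain ⟨a, ha⟩ := exists_cm hs (inv_ne_one.2 z0)
  have z3 : ∀ b, e₁ b ∈ Cz o := fun b => (top_of hs (N := (Cz o).comap e₁) (fun a ha b => by
    change e₁ (MulAut.conj b a) ∈ Cz o
    rw [← ind_e₁ c]
    exact mul_mem (mul_mem (mem_Cz.2 (o1 _ ⟨b, rfl⟩).symm) ha)
      (inv_mem (mem_Cz.2 (o1 _ ⟨b, rfl⟩).symm))) (by
    have k1 : (e₁ z)⁻¹ * e a * e₁ z ∈ Cz o := mem_Cz.2 (by
      have := z2 _ ⟨a, rfl⟩
      calc _ = (e₁ z)⁻¹ * (e₁ z * o * (e₁ z)⁻¹ * e a) * e₁ z := by group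
        _ = _ := by rw [← this]; group)
    have k2 := mul_mem k1 (inv_mem (mem_Cz.2 (o1 _ ⟨a, rfl⟩).symm))
    change e₁ _ ∈ Cz o
    rw [← c.cm₁, map_inv, cm, inv_inv]; exact k2) ha).ge (mem_top b)
  have z4 : G12 e₁ e₂ ≤ Cz o := sup_le (by rintro _ ⟨b, rfl⟩; exact z3 b) (by
    rintro _ ⟨a, rfl⟩
    exact (mul_mem_cancel_left (z3 a)).1 (c.diag a ▸ mem_Cz.2 (o1 _ ⟨a, rfl⟩).symm))
  exact fun a ha => (mem_Cz.1 (z4 ha)).symm

omit hu in
/-- The hypothesis of `K9` on `C_M(e A)` in the wreath case. -/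
theorem cM (c : CW e t e₁ e₂) (h : B1 e t) (w : W0 t e₁ e₂) {A A' : Subgroup X} (hA : A' ≤ A)
    (ct : ∀ β : MulAut X, (∀ u ∈ A, β u = u) → ∃ ζ ∈ A', ζ * ζ = 1 ∧ β = MulAut.conj ζ) {m : G}
    (m1 : m ∈ Ns (G12 e₁ e₂)) (m2 : m ∈ Cs (A.map e)) :
    (Is2 (cm m t) → cm m t ∈ A'.map e) ∧ (Odd (orderOf m) → m ∈ Cs (G12 e₁ e₂)) := by
  have t1 := t_mem c h.inv.1
  have key : ∀ m ∈ Ns e₁.range, m ∈ Ns e₂.range → m ∈ Cs (A.map e) →
      (Is2 (cm m t) → cm m t ∈ A'.map e) ∧ m * m ∈ Cs (G12 e₁ e₂) := fun m a1 a2 a3 => by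
    obtain ⟨β₁, i1⟩ := exists_ind c.inj a1
    obtain ⟨β₂, i2⟩ := exists_ind c.inj₂ a2
    have k : ∀ u ∈ A, β₁ u = u ∧ β₂ u = u := fun u hu => c.inj2 hs (by
      rw [← i1, ← i2, conj_mul, ← c.diag, ← a3 _ ⟨u, hu, rfl⟩, mul_inv_cancel_right])
    obtain ⟨ζ₁, z1, y1, rfl⟩ := ct β₁ fun u hu => (k u hu).1
    obtain ⟨ζ₂, z2, y2, rfl⟩ := ct β₂ fun u hu => (k u hu).2
    have z3 : ζ₁ * ζ₂ = ζ₂ * ζ₁ := mul_inv_eq_iff_eq_mul.1 (k _ (hA z2)).1
    have k1 := c.cen i1 i2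
    have k0 : e₁ ζ₁ * e₂ ζ₂ ∈ G12 e₁ e₂ := c.mem_G12.2 ⟨_, _, rfl⟩
    have k2 : e₁ ζ₁ * e₂ ζ₂ * (e₁ ζ₁ * e₂ ζ₂) = 1 := by rw [c.mul_mul, y1, y2]; simp
    have k3 : cm (e₁ ζ₁ * e₂ ζ₂) t = e (ζ₁ * ζ₂) := by
      rw [cm, inv_eq_of_mul_eq_one_right k2, mul_assoc, mul_assoc, ← mul_assoc t, ← conj_mul, c.sw,
        (c.symm h.inv.1).sw, ← c.comm, c.mul_mul, c.diag, ← z3]
    obtain ⟨k, rfl⟩ : ∃ k, m = k * (e₁ ζ₁ * e₂ ζ₂) := ⟨m * _⁻¹, (inv_mul_cancel_right _ _).symm⟩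
    rw [mul_inv_cancel_right] at k1
    refine ⟨fun k4 => ?_, ?_⟩
    · rw [H67.SA.cm_eq_of_odd w.odd (normalizer_le_normalizer_centralizer _ t1) k1 (k3 ▸ fun a ha =>
        (ha _ (c.range_le ⟨_, rfl⟩)).symm)
        (k3 ▸ ((H64.SG.is2_of_sq y1).mul (H64.SG.is2_of_sq y2) z3).map e) k4, k3]
      exact ⟨_, mul_mem z1 z2, rfl⟩
    · rw [mul_assoc, ← mul_assoc (e₁ ζ₁ * e₂ ζ₂), k1 _ k0, mul_assoc k, k2, mul_one]
      exact mul_mem k1 k1
  rcases w.pm m m1 with ⟨a1, a2⟩ | ⟨a1, a2⟩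
  · exact ⟨(key m a1 a2 m2).1, H64.SG.mem_of_sq_mem (key m a1 a2 m2).2⟩
  · refine ⟨H67.SA.cm_mul_t (t := t) m ▸ (key (m * t) (cj_eq_self_iff.1 ?_) (cj_eq_self_iff.1 ?_)
      (mul_mem m2 (Cs_range_le _ h.cen))).1, fun ho => absurd ?_ (c.ne hs)⟩
    · rw [← cj_cj]; exact (congrArg _ c.cjs_range).trans a2
    · rw [← cj_cj]; exact (congrArg _ (c.symm h.inv.1).cjs_range).trans a1
    · exact a1.ge.trans (cj_eq_self (odd_nor w m1 ho).1).le

end W0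

end H86.WR
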