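import Cfsg.Agent.H86.Model
import Cfsg.Agent.H86.AltAut
import Cfsg.Agent.H83.BSWD8
import Cfsg.Agent.H83.InvPair
import Cfsg.Agent.H85.InvBasic
import Cfsg.Agent.H88.Moebius

/-!
# Groups with an involution centralizer `Z₂ × S₄`
-/

set_option autoImplicit false
set_option linter.unusedSectionVars false

open Cfsg Equiv
open scoped Pointwise commutatorElement

namespace H86

/-- Thompson's transfer lemma in a model, with the excluded element recorded. -/
theorem thompson_model' {G : Type*} [Group G] {A : Type*} [Group A] (φ : A →* G)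
    (hφ : Function.Injective φ) (hodd : Odd φ.range.index) (p : A → Prop)
    (hmul : ∀ x y, p (x * y) ↔ (p x ↔ p y)) {a : A} (ha : ¬ p a) {t : G} (ht : t * t = 1)
    (h : ∀ x, p x → x * x = 1 → ¬ IsConj t (φ x)) :
    ∃ N : Subgroup G, N.Normal ∧ N.index = 2 ∧ t ∉ N := by
  refine H8.thompson_transfer φ.range ((predSub p hmul).map φ) hodd (by
    rw [MonoidHom.range_eq_map, Subgroup.relIndex_map_map_of_injective _ _ hφ,
      Subgroup.relIndex_top_right, index_predSub p hmul ha]) t (by rwa [pow_two]) ?_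
  rintro g ⟨x, hx, e⟩
  have e' : IsConj t (φ x) := e ▸ isConj_conj g t
  exact h x hx (hφ (by rw [map_mul, map_one]; exact sq_eq_one_of_isConj e' ht)) e'

namespace ZS

/-- the model group -/
abbrev A := Multiplicative (ZMod 2) × Perm (Fin 4)

/-- parity of a permutation of four points -/
def par (σ : Perm (Fin 4)) : ZMod 2 :=
  (if σ 1 < σ 0 then 1 else 0) + (if σ 2 < σ 0 then 1 else 0) + (if σ 3 < σ 0 then 1 else 0) +
  (if σ 2 < σ 1 then 1 else 0) + (if σ 3 < σ 1 then 1 else 0) + (if σ 3 < σ 2 then 1 else 0)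

theorem par_mul : ∀ σ ρ : Perm (Fin 4), par (σ * ρ) = par σ + par ρ := by decide +kernel

/-- central involution -/
def u : A := (Multiplicative.ofAdd 1, 1)
/-- double transposition -/
def z : A := (1, swap 0 1 * swap 2 3)
/-- another double transposition -/
def ν : A := (1, swap 0 2 * swap 1 3)
/-- transposition -/
def τ : A := (1, swap 0 1)
/-- four-cycle -/
def a : A := (1, swap 0 3 * swap 0 1 * swap 0 2)
/-- three-cycle -/
def c : A := (1, swap 0 2 * swap 0 1)

/-- the twisting automorphism -/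
def θ : A →* A := MonoidHom.mk' (fun x => (x.1 * Multiplicative.ofAdd (par x.2), x.2)) (by
  intro x y
  ext
  · simp only [Prod.fst_mul, Prod.snd_mul, par_mul, ofAdd_add]; ac_rfl
  · rfl)

theorem θ_θ : ∀ x, θ (θ x) = x := by decide +kernel

theorem θ_z : θ z = z := by decide

theorem θ_u : θ u = u := by decide

theorem θ_τ : θ τ = u * τ := by decide

theorem τ_ne : ∀ x : A, x * τ * x⁻¹ ≠ z := by decide +kernel

theorem u_comm : ∀ x : A, x * u = u * x := by decide +kernel

set_option synthInstance.maxSize 2000 in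
set_option synthInstance.maxHeartbeats 400000 in
theorem cls : ∀ y : A, y * y = 1 → y = 1 ∨ y = u ∨
    (y.1 = 1 ∧ par y.2 = 0 ∧ ∃ s, s * z * s⁻¹ = y) ∨
    (y.1 ≠ 1 ∧ par y.2 = 0 ∧ y.2 ≠ 1 ∧ ∃ s, s * (u * z) * s⁻¹ = y) ∨
    (y.1 = 1 ∧ par y.2 = 1 ∧ ∃ s, s * τ * s⁻¹ = y) ∨
    (y.1 ≠ 1 ∧ par y.2 = 1 ∧ ∃ s, s * (u * τ) * s⁻¹ = y) := by decide +kernel

theorem v4_mul : ∀ σ ρ : Perm (Fin 4), σ * σ = 1 → ρ * ρ = 1 → par σ = 0 → par ρ = 0 →
    σ * ρ * (σ * ρ) = 1 := by decide +kernel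

set_option synthInstance.maxSize 2000 in
theorem v4_cases : ∀ y : A, y * y = 1 → y.1 ≠ 1 → par y.2 = 0 → y.2 ≠ 1 →
    y = u * z ∨ y = u * ν ∨ y = u * ν * z := by decide +kernel

theorem sq_cases : ∀ y : A, y * z = z * y → y * y = 1 ∨ y * y = z := by decide +kernel

theorem d8_cases : ∀ y : A, y.1 = 1 → y * z = z * y →
    (∃ i : Fin 4, y = a ^ (i : ℕ)) ∨ (y * a * y⁻¹ = a⁻¹ ∧ y * y = 1) := by decide +kernel

theorem swap_conj : ∀ i j : Fin 4, i ≠ j → ∃ s : Perm (Fin 4), s * swap 0 1 * s⁻¹ = swap i j := by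
  decide +kernel

set_option synthInstance.maxSize 2000 in
theorem central_cases : ∀ y : A, y * τ = τ * y → y * a = a * y → y * c = c * y → y = 1 ∨ y = u := by
  decide +kernel

theorem card_A : Nat.card A = 48 := by
  rw [Nat.card_prod, Nat.card_perm]; simp [Nat.factorial]

variable {G : Type*} [Group G]

/-- The configuration: `C(u) = φ(A)` and `C(z) = S`. -/
structure Cfg (φ : A →* G) (S : Sylow 2 G) : Prop where
  inj : Function.Injective φ
  ct : ∀ g, g * φ u = φ u * g → ∃ x, φ x = g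
  cz : ∀ g, g * φ z = φ z * g → g ∈ (S : Subgroup G)
  mem : ∀ g, g ∈ (S : Subgroup G) ↔ ∃ x, x * z = z * x ∧ φ x = g

theorem mem_of_τ {φ : A →* G} {K : Subgroup G} (hK : ∀ σ, ∀ g ∈ K, φ (1, σ) * g * (φ (1, σ))⁻¹ ∈ K)
    (h : φ τ ∈ K) (σ : Perm (Fin 4)) : φ (1, σ) ∈ K := by
  induction σ using Perm.swap_induction_on with
  | one => exact (map_one φ).symm ▸ K.one_mem
  | swap_mul f i j hij ih =>
    obtain ⟨s, hs⟩ := swap_conj i j hij
    have := K.mul_mem (hK s _ h) ih
    rw [← map_inv, ← map_mul, ← map_mul, ← map_mul] at this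
    rw [← hs]
    simpa [τ] using this

namespace Cfg

variable [Finite G] {φ : A →* G} {S : Sylow 2 G} (h : Cfg φ S)
include h

theorem twist : Cfg (φ.comp θ) S where
  inj := h.inj.comp (Function.LeftInverse.injective θ_θ)
  ct := fun g hg => by
    rw [MonoidHom.comp_apply, θ_u] at hg
    obtain ⟨x, rfl⟩ := h.ct g hg
    exact ⟨θ x, by simp [θ_θ]⟩
  cz := fun g hg => by
    rw [MonoidHom.comp_apply, θ_z] at hg
    exact h.cz g hg
  mem := fun g => by
    have key : ∀ x, x * z = z * x → θ x * z = z * θ x := fun x hx => by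
      have := congrArg θ hx
      rwa [map_mul, map_mul, θ_z] at this
    rw [h.mem]
    constructor
    · rintro ⟨x, hx, rfl⟩
      exact ⟨θ x, key x hx, by simp [θ_θ]⟩
    · rintro ⟨x, hx, rfl⟩
      exact ⟨θ x, key x hx, rfl⟩

theorem range_eq : φ.range = Subgroup.centralizer {φ u} := by
  ext g
  rw [Subgroup.mem_centralizer_singleton_iff]
  refine ⟨?_, h.ct g⟩
  rintro ⟨x, rfl⟩
  rw [← map_mul, u_comm, map_mul]

theorem odd_index : Odd φ.range.index :=
  (H8.odd_index_sylow_two S).of_dvd_nat (Subgroup.index_dvd_of_le fun g hg =>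
    let ⟨x, _, e⟩ := (h.mem g).mp hg; ⟨x, e⟩)

theorem comm_of_central {x : A} (hx : ∀ s, s * z = z * s → s * x = x * s) :
    ∀ s ∈ (S : Subgroup G), s * φ x = φ x * s := by
  intro s hs
  obtain ⟨s, hs', rfl⟩ := (h.mem s).mp hs
  rw [← map_mul, hx s hs', map_mul]

theorem eq_of_isConj {x y : A} (hx : ∀ s, s * z = z * s → s * x = x * s)
    (hy : ∀ s, s * z = z * s → s * y = y * s) (e : IsConj (φ x) (φ y)) : x = y := by
  obtain ⟨g, hg, e⟩ := exists_normalizer_conj_central S e (h.comm_of_central hx)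
    (h.comm_of_central hy)
  obtain ⟨v, hv, e'⟩ := (h.mem _).mp ((Subgroup.mem_normalizer_iff.mp hg _).mp
    ((h.mem _).mpr ⟨a, by decide, rfl⟩))
  have e1 : g * φ z * g⁻¹ = φ (v * v) := by
    rw [map_mul, e', show z = a * a by decide, map_mul]; group
  rcases sq_cases v hv with e2 | e2
  · rw [e2, map_one, conj_eq_one_iff, map_eq_one_iff φ h.inj] at e1
    exact absurd e1 (by decide)
  · rw [e2, mul_inv_eq_iff_eq_mul] at e1
    rw [h.comm_of_central hx g (h.cz g e1), mul_inv_cancel_right] at e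
    exact h.inj e

theorem not_z_u : ¬ IsConj (φ z) (φ u) := fun e =>
  absurd (h.eq_of_isConj (fun _ e => e) (fun s _ => u_comm s) e) (by decide)

theorem not_z_uz : ¬ IsConj (φ z) (φ (u * z)) := fun e =>
  absurd (h.eq_of_isConj (fun _ e => e) (by decide +kernel) e) (by decide)

theorem not_u_uz : ¬ IsConj (φ u) (φ (u * z)) := fun e =>
  absurd (h.eq_of_isConj (fun s _ => u_comm s) (by decide +kernel) e) (by decide)

/-- extremal conjugation of `τ` onto a central element -/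
theorem exists_conj_τ {w : A} (hw : ∀ s, s * z = z * s → s * w = w * s)
    (e : IsConj (φ τ) (φ w)) : ∃ g : G, g * φ τ * g⁻¹ = φ w ∧ ∀ x : A, x * z = z * x →
      x * τ = τ * x → x * x = 1 → x ≠ 1 →
      ∃ y : A, g * φ x * g⁻¹ = φ y ∧ y * y = 1 ∧ y ≠ 1 ∧ IsConj (φ x) (φ y) := by
  obtain ⟨g, hg, hg'⟩ := exists_conj_central S e (h.comm_of_central hw)
    (P := (Subgroup.centralizer {z} ⊓ Subgroup.centralizer {τ}).map φ) (S.isPGroup'.to_le (by
      rintro _ ⟨x, hx, rfl⟩
      exact (h.mem _).mpr ⟨x, Subgroup.mem_centralizer_singleton_iff.mp hx.1, rfl⟩)) (by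
      rintro _ ⟨x, hx, rfl⟩
      rw [← map_mul, Subgroup.mem_centralizer_singleton_iff.mp hx.2, map_mul])
  refine ⟨g, hg, fun x h1 h2 hxx hx1 => ?_⟩
  obtain ⟨y, -, hy⟩ := (h.mem _).mp (hg' _ ⟨x, ⟨Subgroup.mem_centralizer_singleton_iff.mpr h1,
    Subgroup.mem_centralizer_singleton_iff.mpr h2⟩, rfl⟩)
  have e : IsConj (φ x) (φ y) := hy ▸ isConj_conj g _
  refine ⟨y, hy.symm, h.inj ?_, ?_, e⟩
  · rw [map_mul, map_one]
    exact sq_eq_one_of_isConj e (by rw [← map_mul, hxx, map_one])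
  · rintro rfl
    rw [map_one, isConj_one_left, map_eq_one_iff φ h.inj] at e
    exact hx1 e

theorem not_both (h1 : IsConj (φ τ) (φ u)) (h2 : IsConj (φ (u * τ)) (φ u)) : False := by
  obtain ⟨g, hg, key⟩ := h.exists_conj_τ (fun s _ => u_comm s) h1
  obtain ⟨y, e1, e2, e3, e4⟩ := key z rfl (by decide) (by decide) (by decide)
  obtain ⟨y', f1, f2, f3, f4⟩ := key (u * z) (by decide) (by decide) (by decide) (by decide)
  have hy : y.1 = 1 ∧ par y.2 = 0 := by
    rcases cls y e2 with rfl | rfl | ⟨k1, k2, -⟩ | ⟨-, -, -, s, rfl⟩ | ⟨-, -, s, rfl⟩ | ⟨-, -, s, rfl⟩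
    · exact absurd rfl e3
    · exact absurd e4 h.not_z_u
    · exact ⟨k1, k2⟩
    · exact absurd (e4.trans (isConj_map_conj φ _ _).symm) h.not_z_uz
    · exact absurd ((e4.trans (isConj_map_conj φ _ _).symm).trans h1) h.not_z_u
    · exact absurd ((e4.trans (isConj_map_conj φ _ _).symm).trans h2) h.not_z_u
  have hy' : y'.1 ≠ 1 ∧ par y'.2 = 0 := by
    rcases cls y' f2 with rfl | rfl | ⟨-, -, s, rfl⟩ | ⟨k1, k2, -⟩ | ⟨-, -, s, rfl⟩ | ⟨-, -, s, rfl⟩
    · exact absurd rfl f3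
    · exact absurd f4.symm h.not_u_uz
    · exact absurd (f4.trans (isConj_map_conj φ _ _).symm).symm h.not_z_uz
    · exact ⟨k1, k2⟩
    · exact absurd ((f4.trans (isConj_map_conj φ _ _).symm).trans h1).symm h.not_u_uz
    · exact absurd ((f4.trans (isConj_map_conj φ _ _).symm).trans h2).symm h.not_u_uz
  have e5 : g * φ u * g⁻¹ = φ (y * y') := by
    rw [map_mul, ← e1, ← f1, show u = z * (u * z) by decide, map_mul φ z,
      show z * (u * z) * z = u * z by decide]
    group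
  have e6 : IsConj (φ u) (φ (y * y')) := e5 ▸ isConj_conj g _
  have k1 : (y * y').1 ≠ 1 := by simpa [hy.1] using hy'.1
  have k2 : par (y * y').2 = 0 := by simp [par_mul, hy.2, hy'.2]
  rcases cls (y * y') (h.inj (by
    rw [map_mul, map_one]
    exact sq_eq_one_of_isConj e6 (by rw [← map_mul, show u * u = 1 by decide, map_one]))) with
    e | e | e | ⟨-, -, -, s, e⟩ | e | e
  · exact k1 (by rw [e]; rfl)
  · rw [e] at e5
    exact absurd (h.inj (by simpa using e5.trans hg.symm)) (show u ≠ τ by decide)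
  · exact k1 e.1
  · exact h.not_u_uz (e6.trans (e ▸ (isConj_map_conj φ _ _).symm))
  · exact k1 e.1
  · exact absurd (k2.symm.trans e.2.1) (by decide)

theorem exists_index_two_of (h1 : ¬ IsConj (φ τ) (φ u)) :
    ∃ N : Subgroup G, N.Normal ∧ N.index = 2 ∧ φ u ∉ N := by
  refine thompson_model' φ h.inj h.odd_index (fun x => x.1 = 1) (by
    rintro ⟨x, _⟩ ⟨y, _⟩; revert x y; simp only [Prod.fst_mul]; decide) (a := u) (by decide)
    (by rw [← map_mul, show u * u = 1 by decide, map_one]) fun x hx hxx e => ?_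
  rcases cls x hxx with rfl | rfl | ⟨-, -, s, rfl⟩ | k | ⟨-, -, s, rfl⟩ | k
  · rw [map_one, isConj_one_left, map_eq_one_iff φ h.inj] at e
    exact absurd e (by decide)
  · exact absurd hx (by decide)
  · exact h.not_z_u (e.trans (isConj_map_conj φ _ _).symm).symm
  · exact k.1 hx
  · exact h1 (e.trans (isConj_map_conj φ _ _).symm).symm
  · exact k.1 hx

theorem exists_index_two : ∃ N : Subgroup G, N.Normal ∧ N.index = 2 ∧ φ u ∉ N := by
  by_cases h1 : IsConj (φ τ) (φ u)
  · have := h.twist.exists_index_two_of fun e => h.not_both h1 (by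
      rwa [MonoidHom.comp_apply, MonoidHom.comp_apply, θ_u, θ_τ] at e)
    rwa [MonoidHom.comp_apply, θ_u] at this
  · exact h.exists_index_two_of h1

theorem mem_iff {N : Subgroup G} (hN : N.Normal) (hu : φ u ∉ N) (hτ : φ τ ∈ N) (x : A) :
    φ x ∈ N ↔ x.1 = 1 := by
  have h1 := mem_of_τ (fun σ g hg => hN.conj_mem g hg _) hτ
  obtain ⟨ε, σ⟩ := x
  rcases (by decide : ∀ ε : Multiplicative (ZMod 2), ε = 1 ∨ ε = Multiplicative.ofAdd 1) ε with
    rfl | rfl
  · simpa using h1 σ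
  · rw [show ((Multiplicative.ofAdd 1, σ) : A) = u * (1, σ) by simp [u], map_mul,
      Subgroup.mul_mem_cancel_right _ (h1 σ)]
    simpa [u] using hu

/-- If `τ` is not fused to `z`, then `φ u` is central. -/
theorem eq_top_of_not_isConj {N : Subgroup G} (hN : N.Normal) (hi : N.index = 2)
    (hm : ∀ x, φ x ∈ N ↔ x.1 = 1) (h1 : ¬ IsConj (φ τ) (φ z)) :
    Subgroup.centralizer {φ u} = ⊤ := by
  have hτN := (hm τ).mpr rfl
  obtain ⟨M, hM, hi', hτ⟩ := thompson_model' φ h.inj h.odd_index (fun x => par x.2 = 0) (by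
    intro x y; simp only [Prod.snd_mul, par_mul]; generalize par x.2 = p; generalize par y.2 = q
    revert p q; decide) (a := τ) (by decide) (t := φ τ)
    (by rw [← map_mul, show τ * τ = 1 by decide, map_one]) fun x hx hxx e => by
      have hx1 := (hm x).mp (mem_of_isConj hN hτN e)
      rcases cls x hxx with rfl | rfl | ⟨-, -, s, rfl⟩ | k | k | k
      · rw [map_one, isConj_one_left, map_eq_one_iff φ h.inj] at e
        exact absurd e (by decide)
      · exact absurd hx1 (by decide)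
      · exact h1 (e.trans (isConj_map_conj φ _ _).symm)
      · exact k.1 hx1
      · exact absurd (hx.symm.trans k.2.1) (by decide)
      · exact k.1 hx1
  have hmul : ∀ K : Subgroup G, K.Normal → K.index = 2 → ∀ g : G,
      φ u * (g * φ (u * z) * g⁻¹) ∈ K := by
    intro K hK hi g
    have h2 : φ u * φ (u * z) ∈ K := by
      rw [← map_mul, show u * (u * z) = a ^ 2 by decide, map_pow]
      exact Subgroup.sq_mem_of_index_two hi _
    rw [Subgroup.mul_mem_iff_of_index_two hi] at h2 ⊢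
    rw [h2]
    exact ⟨fun e => hK.conj_mem _ e g, fun e => by simpa [mul_assoc] using hK.conj_mem _ e g⁻¹⟩
  have key : ∀ g : G, ∃ y : A, g * φ (u * z) * g⁻¹ = φ y ∧
      (y = u * z ∨ y = u * ν ∨ y = u * ν * z) := by
    intro g
    have e0 := isConj_conj g (φ (u * z))
    have hsq := sq_eq_one_of_isConj e0 (by rw [← map_mul, show u * z * (u * z) = 1 by decide, map_one])
    obtain ⟨w, hw, hw2, c1, c2⟩ := H83.exists_commuting_involution_of_not_isConj
      (x := φ u) (y := g * φ (u * z) * g⁻¹) (by rw [← map_mul, show u * u = 1 by decide, map_one])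
      hsq fun e => h.not_u_uz (e.trans e0.symm)
    obtain ⟨v, rfl⟩ := h.ct w c1
    have hvN := (hm v).mp (Subgroup.zpowers_le.mpr (hmul N hN hi g) hw)
    have hvM := Subgroup.zpowers_le.mpr (hmul M hM hi' g) hw
    obtain ⟨y, hy⟩ : ∃ y, φ y = g * φ (u * z) * g⁻¹ := by
      rcases cls v (h.inj (by
          have := pow_orderOf_eq_one (φ v)
          rwa [hw2, pow_two, ← map_mul, ← map_one φ] at this)) with
        rfl | rfl | ⟨-, -, s, rfl⟩ | k | ⟨-, -, s, rfl⟩ | k
      · simp at hw2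
      · exact absurd hvN (by decide)
      · obtain ⟨x, -, hx⟩ := (h.mem _).mp (h.cz ((φ s)⁻¹ * (g * φ (u * z) * g⁻¹) * φ s) (by
          have := c2.eq
          rw [map_mul, map_mul, map_inv] at this
          generalize g * φ (u * z) * g⁻¹ = r at *
          calc (φ s)⁻¹ * r * φ s * φ z = (φ s)⁻¹ * (r * (φ s * φ z * (φ s)⁻¹)) * φ s := by group
            _ = φ z * ((φ s)⁻¹ * r * φ s) := by rw [← this]; group))
        exact ⟨s * x * s⁻¹, by rw [map_mul, map_mul, map_inv, hx]; group⟩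
      · exact absurd hvN k.1
      · exact absurd (mem_of_isConj hM hvM (isConj_map_conj φ _ _).symm) hτ
      · exact absurd hvN k.1
    have hy1 : y.1 ≠ 1 := fun e => absurd ((hm _).mp
      (mem_of_isConj hN ((hm y).mpr e) (hy ▸ e0.symm))) (by decide)
    have hyy : y * y = 1 := h.inj (by rw [map_mul, map_one, hy, hsq])
    refine ⟨y, hy.symm, ?_⟩
    rcases cls y hyy with rfl | rfl | k | k | k | ⟨-, -, s, rfl⟩
    · exact absurd rfl hy1
    · exact absurd (hy ▸ e0.symm) h.not_u_uz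
    · exact absurd k.1 hy1
    · exact v4_cases y hyy k.1 k.2.1 k.2.2.1
    · exact absurd k.1 hy1
    · have := hmul M hM hi' g
      rw [← hy, ← map_mul, show u * (s * (u * τ) * s⁻¹) = s * τ * s⁻¹ by
        rw [← mul_assoc, ← mul_assoc, ← u_comm s, mul_assoc s, ← mul_assoc u,
          show u * u = 1 by decide, one_mul]] at this
      exact absurd (mem_of_isConj hM this (isConj_map_conj φ _ _).symm) hτ
  refine eq_top_iff.mpr fun g _ => Subgroup.mem_centralizer_singleton_iff.mpr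
    (mul_inv_eq_iff_eq_mul.mp ?_)
  obtain ⟨y1, e1, k1⟩ := key g
  obtain ⟨y2, e2, k2⟩ := key (g * φ c)
  obtain ⟨y3, e3, k3⟩ := key (g * φ c⁻¹)
  have e2' : g * φ (c * (u * z) * c⁻¹) * g⁻¹ = φ y2 := by
    rw [← e2, map_mul, map_mul, map_inv]; group
  have e3' : g * φ (c⁻¹ * (u * z) * c⁻¹⁻¹) * g⁻¹ = φ y3 := by
    rw [← e3, map_mul, map_mul, map_inv φ c⁻¹]; group
  have hne : ∀ p q p' q' : A, g * φ p * g⁻¹ = φ p' → g * φ q * g⁻¹ = φ q' → p ≠ q → p' ≠ q' := by
    rintro p q p' _ e e' hpq rfl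
    exact hpq (h.inj (by simpa using e.trans e'.symm))
  have n12 := hne _ _ _ _ e1 e2' (by decide)
  have n13 := hne _ _ _ _ e1 e3' (by decide)
  have n23 := hne _ _ _ _ e2' e3' (by decide)
  have e4 : y1 * y2 * y3 = u := by
    rcases k1 with rfl | rfl | rfl <;> rcases k2 with rfl | rfl | rfl <;>
      rcases k3 with rfl | rfl | rfl <;>
      first | exact absurd rfl n12 | exact absurd rfl n13 | exact absurd rfl n23 | decide
  nth_rewrite 2 [← e4]
  rw [map_mul, map_mul, ← e1, ← e2', ← e3']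
  nth_rewrite 1 [show u = u * z * (c * (u * z) * c⁻¹) * (c⁻¹ * (u * z) * c⁻¹⁻¹) by decide]
  rw [map_mul φ (u * z * _), map_mul φ (u * z)]
  group

theorem isConj_u_uτ {N : Subgroup G} (hN : N.Normal) (hm : ∀ x, φ x ∈ N ↔ x.1 = 1)
    (h1 : IsConj (φ τ) (φ z)) : IsConj (φ u) (φ (u * τ)) := by
  obtain ⟨g, hg, key⟩ := h.exists_conj_τ (fun _ e => e) h1
  obtain ⟨y, e1, e2, e3, e4⟩ := key u (by decide) (by decide) (by decide) (by decide)
  have hy1 : y.1 ≠ 1 := fun e => absurd ((hm _).mp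
    (mem_of_isConj hN ((hm y).mpr e) e4.symm)) (by decide)
  rcases cls y e2 with rfl | rfl | k | ⟨-, -, -, s, rfl⟩ | k | ⟨-, -, s, rfl⟩
  · exact absurd rfl hy1
  · obtain ⟨x, rfl⟩ := h.ct g (mul_inv_eq_iff_eq_mul.mp e1)
    rw [← map_inv, ← map_mul, ← map_mul] at hg
    exact absurd (h.inj hg) (τ_ne x)
  · exact absurd k.1 hy1
  · exact absurd (e4.trans (isConj_map_conj φ _ _).symm) h.not_u_uz
  · exact absurd k.1 hy1
  · exact e4.trans (isConj_map_conj φ _ _).symm

theorem d8Data {N : Subgroup G} (hm : ∀ x, φ x ∈ N ↔ x.1 = 1) :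
    H31.D8Data (⟨φ z, (hm z).mpr rfl⟩ : N) ⟨φ a, (hm a).mpr rfl⟩ := by
  have key : ∀ s ∈ Subgroup.centralizer {(⟨φ z, (hm z).mpr rfl⟩ : N)},
      ∃ y : A, y.1 = 1 ∧ y * z = z * y ∧ φ y = s := by
    intro s hs
    obtain ⟨y, h1, h2⟩ := (h.mem _).mp (h.cz s
      (congrArg Subtype.val (Subgroup.mem_centralizer_singleton_iff.mp hs)))
    exact ⟨y, (hm y).mp (h2 ▸ s.2), h1, h2⟩
  have key2 : ∀ s ∈ Subgroup.centralizer {(⟨φ z, (hm z).mpr rfl⟩ : N)},
      s ∉ Subgroup.zpowers (⟨φ a, (hm a).mpr rfl⟩ : N) →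
      ∃ y : A, φ y = s ∧ y * a * y⁻¹ = a⁻¹ ∧ y * y = 1 := by
    intro s hs hs'
    obtain ⟨y, h1, h2, h3⟩ := key s hs
    rcases d8_cases y h1 h2 with ⟨i, rfl⟩ | e
    · exact absurd ⟨(i : ℕ), Subtype.ext (by simpa using h3)⟩ hs'
    · exact ⟨y, h3, e⟩
  refine ⟨?_, Subtype.ext ?_, ?_, fun s hs hs' => ?_, fun s hs hs' => ?_⟩
  · rw [← Subgroup.orderOf_coe, orderOf_injective φ h.inj]
    exact orderOf_eq_four' (by decide) (by decide)
  · change φ a ^ 2 = φ z
    rw [← map_pow]; congr 1; decide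
  · have e : (Subgroup.centralizer {(⟨φ z, (hm z).mpr rfl⟩ : N)}).map N.subtype =
        (Subgroup.centralizer {z} ⊓ (MonoidHom.fst _ _).ker).map φ := by
      ext g
      constructor
      · rintro ⟨s, hs, rfl⟩
        obtain ⟨y, h1, h2, h3⟩ := key s hs
        exact ⟨y, ⟨Subgroup.mem_centralizer_singleton_iff.mpr h2, h1⟩, h3⟩
      · rintro ⟨y, ⟨h1, h2⟩, rfl⟩
        refine ⟨⟨φ y, (hm y).mpr h2⟩, Subgroup.mem_centralizer_singleton_iff.mpr
          (Subtype.ext ?_), rfl⟩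
        change φ y * φ z = φ z * φ y
        rw [← map_mul, Subgroup.mem_centralizer_singleton_iff.mp h1, map_mul]
    rw [← Subgroup.card_map_of_injective N.subtype_injective, e,
      Subgroup.card_map_of_injective h.inj]
    have e' : Nat.card (Subgroup.centralizer {z} ⊓ (MonoidHom.fst _ _).ker : Subgroup A) =
        Nat.card {y : A // y * z = z * y ∧ y.1 = 1} :=
      Nat.card_congr (Equiv.subtypeEquivRight fun y => by
        rw [Subgroup.mem_inf, Subgroup.mem_centralizer_singleton_iff]; rfl)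
    rw [e', Nat.card_eq_fintype_card]
    decide +kernel
  · obtain ⟨y, h1, h2, -⟩ := key2 s hs hs'
    refine Subtype.ext ?_
    change (s : G) * φ a * (s : G)⁻¹ = (φ a)⁻¹
    rw [← h1, ← map_inv, ← map_mul, ← map_mul, h2, map_inv]
  · obtain ⟨y, h1, -, h2⟩ := key2 s hs hs'
    refine Subtype.ext ?_
    change (s : G) * s = 1
    rw [← h1, ← map_mul, h2, map_one]

theorem index_ne_two {N : Subgroup G} (hN : N.Normal) (hi : N.index = 2)
    (hm : ∀ x, φ x ∈ N ↔ x.1 = 1) (h1 : IsConj (φ τ) (φ z)) (M : Subgroup N) (hM : M.Normal) :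
    M.index ≠ 2 := by
  intro hMi
  have hconj : ∀ n ∈ N, ∀ g ∈ M.map N.subtype, n * g * n⁻¹ ∈ M.map N.subtype := by
    rintro n hn _ ⟨m, hm, rfl⟩
    exact ⟨_, hM.conj_mem m hm ⟨n, hn⟩, rfl⟩
  have hz : φ z ∈ M.map N.subtype :=
    ⟨_, Subgroup.sq_mem_of_index_two hMi ⟨φ a, (hm a).mpr rfl⟩, by
      change φ a ^ 2 = φ z
      rw [← map_pow]; congr 1; decide⟩
  have hτ : φ τ ∈ M.map N.subtype := by
    obtain ⟨g, hg⟩ := isConj_iff.mp h1.symm
    by_cases hgN : g ∈ N
    · exact hg ▸ hconj g hgN _ hz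
    · have := hconj (g * φ u) ((Subgroup.mul_mem_iff_of_index_two hi).mpr
        ⟨fun e => absurd e hgN, fun e => absurd ((hm u).mp e) (by decide)⟩) _ hz
      rwa [mul_assoc g, ← map_mul, ← u_comm, map_mul, show g * (φ z * φ u) * (g * φ u)⁻¹ =
        g * φ z * g⁻¹ by group, hg] at this
  have h2 := mem_of_τ (fun σ => hconj _ ((hm _).mpr rfl)) hτ
  refine (H7.isSylowIn_inf_normal S N).not_dvd (Dvd.dvd.trans ?_
    (Subgroup.relIndex_dvd_of_le_left N (K := M.map N.subtype) ?_))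
  · rw [Subgroup.relIndex, Subgroup.subgroupOf, Subgroup.comap_map_eq_self_of_injective
      N.subtype_injective, hMi]
  · rintro g ⟨hg, hg'⟩
    obtain ⟨x, -, rfl⟩ := (h.mem g).mp hg
    obtain ⟨ε, σ⟩ := x
    obtain rfl : ε = 1 := (hm _).mp hg'
    exact h2 σ

theorem card_centralizer : Nat.card (Subgroup.centralizer {φ u}) = 48 := by
  rw [← h.range_eq, ← card_A]
  exact Nat.card_congr (MonoidHom.ofInjective h.inj).symm.toEquiv

theorem card_ne (h1 : IsConj (φ u) (φ (u * τ))) : Nat.card G ≠ 336 := by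
  intro hG
  have h2 := H85.card_class_mul_card_centralizer (φ u)
  rw [hG, h.card_centralizer] at h2
  have h3 : {y : G | IsConj (φ u) y}.ncard = 7 := by
    change Nat.card {y : G // IsConj (φ u) y} = 7
    omega
  have h4 : φ '' (Finset.univ.filter fun y : A => y = u ∨ ∃ s, s * (u * τ) * s⁻¹ = y) =
      {y : G | IsConj (φ u) y} := by
    refine Set.eq_of_subset_of_ncard_le ?_ ?_
    · rintro _ ⟨y, hy, rfl⟩
      rcases (Finset.mem_filter.mp hy).2 with rfl | ⟨s, rfl⟩
      · exact IsConj.refl _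
      · exact h1.trans (isConj_map_conj φ _ _)
    · rw [h3, Set.ncard_image_of_injective _ h.inj, Set.ncard_coe_finset]
      decide +kernel
  obtain ⟨g, hg⟩ := isConj_iff.mp h1.symm
  obtain ⟨y, -, hy⟩ : g * φ (c * (u * τ) * c⁻¹) * g⁻¹ ∈ φ '' (Finset.univ.filter
      fun y : A => y = u ∨ ∃ s, s * (u * τ) * s⁻¹ = y) :=
    h4 ▸ (h1.trans (isConj_map_conj φ _ _)).trans (isConj_conj g _)
  have h5 := congrArg φ (u_comm y)
  rw [map_mul, map_mul, hy, ← hg] at h5
  have h6 : φ (c * (u * τ) * c⁻¹ * (u * τ)) = φ (u * τ * (c * (u * τ) * c⁻¹)) := by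
    rw [map_mul φ _ (u * τ), map_mul φ (u * τ)]
    generalize φ (u * τ) = p at *
    generalize φ (c * (u * τ) * c⁻¹) = q at *
    calc q * p = g⁻¹ * (g * q * g⁻¹ * (g * p * g⁻¹)) * g := by group
      _ = p * q := by rw [h5]; group
  exact absurd (h.inj h6) (by decide)

theorem nonempty_equiv_of_alt {N : Subgroup G} (hN : N.Normal) (hi : N.index = 2)
    (hm : ∀ x, φ x ∈ N ↔ x.1 = 1) (ψ : N ≃* alternatingGroup (Fin 6)) :
    Nonempty (G ≃* Perm (Fin 6)) := by
  have hcard : Nat.card G = 720 := by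
    rw [← N.card_mul_index, hi, Nat.card_congr ψ.toEquiv, nat_card_alternatingGroup]
    simp [Nat.factorial]
  let ρ : G →* MulAut (alternatingGroup (Fin 6)) :=
    (MulAut.congr ψ).toMonoidHom.comp (MulAut.conjNormal : G →* MulAut N)
  have hρ : ∀ (g : G) (n : N), ρ g (ψ n) = ψ (MulAut.conjNormal g n) := fun g n => by simp [ρ]
  have hN' : ∀ n : N, MulAut.conjNormal (ψ n : Perm (Fin 6)) = ρ n := fun n => by
    refine MulEquiv.ext fun x => ?_
    obtain ⟨m, rfl⟩ := ψ.surjective x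
    rw [hρ, show MulAut.conjNormal (n : G) m = n * m * n⁻¹ from rfl]
    simp only [map_mul, map_inv]
    rfl
  obtain ⟨σ, hσ⟩ := exists_conjNormal_eq (by simp) (ρ (φ u)) (isThreeCycle_aut_six (by simp) _
    (x := ψ ⟨φ c, (hm c).mpr rfl⟩) (by
      rw [ψ.orderOf_eq, ← Subgroup.orderOf_coe, orderOf_injective φ h.inj]
      exact orderOf_eq_prime (by decide) (by decide)) (by
      rw [hρ]; congr 1
      refine Subtype.ext ?_
      change φ u * φ c * (φ u)⁻¹ = φ c
      rw [← map_mul, ← u_comm, map_mul, mul_inv_cancel_right]))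
  obtain ⟨f, hf⟩ := H88.exists_hom_of_range_le ρ MulAut.conjNormal (conjNormal_injective (by simp))
    fun g => by
      by_cases hg : g ∈ N
      · exact ⟨_, hN' ⟨g, hg⟩⟩
      · have : g * (φ u)⁻¹ ∈ N := (Subgroup.mul_mem_iff_of_index_two hi).mpr
          ⟨fun e => absurd e hg, fun e => absurd ((hm u).mp (inv_mem_iff.mp e)) (by decide)⟩
        exact ⟨ψ ⟨_, this⟩ * σ, by rw [map_mul, hN', hσ, ← map_mul]; simp⟩
  refine H88.nonempty_mulEquiv_of_injective f ((injective_iff_map_eq_one f).mpr fun g hg => ?_)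
    (by rw [hcard, Nat.card_perm]; simp [Nat.factorial])
  have h1 : ∀ n ∈ N, g * n = n * g := fun n hn => by
    have := hρ g ⟨n, hn⟩
    rw [← hf, hg, map_one, MulAut.one_apply] at this
    exact (mul_inv_eq_iff_eq_mul.mp (congrArg Subtype.val (ψ.injective this)).symm)
  obtain ⟨y, -, rfl⟩ := (h.mem g).mp (h.cz g (h1 _ ((hm z).mpr rfl)))
  have h2 : ∀ x : A, x.1 = 1 → y * x = x * y := fun x hx =>
    h.inj (by rw [map_mul, map_mul, h1 _ ((hm x).mpr hx)])
  rcases central_cases y (h2 τ rfl) (h2 a rfl) (h2 c rfl) with rfl | rfl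
  · exact map_one φ
  · have h3 : N ≤ Subgroup.centralizer {φ u} := fun n hn =>
      Subgroup.mem_centralizer_singleton_iff.mpr (h1 n hn).symm
    have h4 := Subgroup.card_le_of_le h3
    have h5 := N.card_mul_index
    rw [h.card_centralizer] at h4
    rw [hi] at h5
    omega

theorem main_of {N : Subgroup G} (hN : N.Normal) (hi : N.index = 2) (hu : φ u ∉ N)
    (hτ : φ τ ∈ N) : Subgroup.centralizer {φ u} = ⊤ ∨ Nonempty (G ≃* Perm (Fin 6)) := by
  have hm := h.mem_iff hN hu hτ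
  by_cases h1 : IsConj (φ τ) (φ z)
  · right
    rcases H83.alt6_or_psl7_of_d8Data (h.d8Data hm) (h.index_ne_two hN hi hm h1) with
      ⟨⟨ψ⟩⟩ | ⟨F, _, _, hF, ⟨ψ⟩⟩
    · exact h.nonempty_equiv_of_alt hN hi hm ψ
    · refine absurd ?_ (h.card_ne (h.isConj_u_uτ hN hm h1))
      have := H88.two_mul_card_psl_two (F := F) (by rw [hF]; decide)
      rw [← N.card_mul_index, hi, Nat.card_congr ψ.toEquiv, mul_comm, this, hF]
      norm_num
  · exact Or.inl (h.eq_top_of_not_isConj hN hi hm h1)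

theorem main : Subgroup.centralizer {φ u} = ⊤ ∨ Nonempty (G ≃* Perm (Fin 6)) := by
  obtain ⟨N, hN, hi, hu⟩ := h.exists_index_two
  by_cases hτ : φ τ ∈ N
  · exact h.main_of hN hi hu hτ
  · have := h.twist.main_of hN hi (by rwa [MonoidHom.comp_apply, θ_u]) (by
      rw [MonoidHom.comp_apply, θ_τ, map_mul, Subgroup.mul_mem_iff_of_index_two hi]
      exact ⟨fun e => absurd e hu, fun e => absurd e hτ⟩)
    rwa [MonoidHom.comp_apply, θ_u] at this

end Cfg

end ZS

end H86
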